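import Mathlib.Algebra.BigOperators.Ring.Finset
import Mathlib.Tactic

/-!
# Integral vectors with Gram matrix `1 + e J`

Vectors of this shape, meeting every coordinate, live in at most `t + e` coordinates.
-/

set_option autoImplicit false
set_option linter.unusedSectionVars false

namespace Cfsg.Agent.Lib.FreeQuot

open Finset

variable {ι κ : Type*} [Fintype ι] [Fintype κ] [DecidableEq ι] [DecidableEq κ]

theorem sq_eq_one_of_le_three {a : ℤ} (h0 : a ≠ 0) (h : a * a ≤ 3) : a * a = 1 := by
  have h1 : a ≤ 1 := by nlinarith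
  have h2 : -1 ≤ a := by nlinarith
  interval_cases a <;> simp_all

/-- An integral vector of norm two has two entries, both units. -/
theorem norm_two {d : κ → ℤ} (h : ∑ s, d s * d s = 2) :
    (univ.filter fun s => d s ≠ 0).card = 2 ∧ ∀ s, d s ≠ 0 → d s * d s = 1 := by
  have hone : ∀ s, d s ≠ 0 → d s * d s = 1 := fun s hs =>
    sq_eq_one_of_le_three hs
      (le_trans (le_trans (single_le_sum (f := fun s => d s * d s)
        (fun i _ => mul_self_nonneg _) (mem_univ s)) h.le) (by norm_num))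
  refine ⟨?_, hone⟩
  have e : ∑ s, d s * d s = ((univ.filter fun s => d s ≠ 0).card : ℤ) := by
    rw [Finset.natCast_card_filter]
    refine Finset.sum_congr rfl fun s _ => ?_
    by_cases hs : d s = 0
    · simp [hs]
    · rw [hone s hs, if_pos hs]
  rw [h] at e
  exact_mod_cast e.symm

/-- The counting lemma for vectors with Gram matrix `1 + e J`. -/
theorem lattice_count (x : ι → κ → ℤ) {e : ℕ} (he : 1 ≤ e) [Nonempty ι]
    (hgram : ∀ i j, ∑ s, x i s * x j s = (if i = j then 1 else 0) + (e : ℤ))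
    (hne : ∀ s, ∃ i, x i s ≠ 0) :
    Fintype.card κ ≤ Fintype.card ι + e ∧
      (e ≤ 3 → Fintype.card κ = Fintype.card ι + e ∨ Fintype.card κ ≤ Fintype.card ι ∨
        (2 ≤ e ∧ Fintype.card κ = Fintype.card ι + 1 ∧ (Fintype.card ι * e + 1).Prime) ∨
        (e = 3 ∧ Fintype.card ι = 3)) ∧
      (Fintype.card κ = Fintype.card ι + e → ∃ (y : ι → κ) (d : κ → ℤ), Function.Injective y ∧
        (∀ s, d s * d s = 1) ∧ (∀ i s, (∀ l, s ≠ y l) → x i s = d s) ∧
        ∀ i l, x i (y l) = if l = i then d (y l) else 0) := by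
  obtain ⟨i₀⟩ := ‹Nonempty ι›
  have hn0 : ∑ s, x i₀ s * x i₀ s = 1 + (e : ℤ) := by simpa using hgram i₀ i₀
  have hnn : ∀ (S : Finset κ), (∀ s ∈ S, x i₀ s ≠ 0) →
      (S.card : ℤ) ≤ ∑ s ∈ S, x i₀ s * x i₀ s := fun S hS => by
    rw [Finset.card_eq_sum_ones, Nat.cast_sum]
    refine Finset.sum_le_sum fun s hs => ?_
    simpa using Int.add_one_le_iff.2 (mul_self_pos.2 (hS s hs))
  have heq3 : ∀ (S : Finset κ), (∀ s ∈ S, x i₀ s ≠ 0) → ∑ s ∈ S, x i₀ s * x i₀ s ≤ 3 →
      (S.card : ℤ) = ∑ s ∈ S, x i₀ s * x i₀ s := fun S hS h3 => by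
    rw [Finset.card_eq_sum_ones, Nat.cast_sum]
    refine Finset.sum_congr rfl fun s hs => ?_
    have h1 : x i₀ s * x i₀ s ≤ 3 :=
      (single_le_sum (f := fun s => x i₀ s * x i₀ s) (fun i _ => mul_self_nonneg _) hs).trans h3
    simpa using (sq_eq_one_of_le_three (hS s hs) h1).symm
  by_cases hone : ∀ i, i = i₀
  · -- a single vector
    have hι : Fintype.card ι = 1 := Fintype.card_eq_one_iff.2 ⟨i₀, hone⟩
    have hall : ∀ s ∈ (univ : Finset κ), x i₀ s ≠ 0 := fun s _ => by
      obtain ⟨i, hi⟩ := hne s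
      rwa [hone i] at hi
    have h1 := hnn univ hall
    rw [hn0, card_univ] at h1
    refine ⟨by omega, fun h3 => ?_, fun hk => ?_⟩
    swap
    · obtain ⟨s₀⟩ : Nonempty κ := Fintype.card_pos_iff.1 (by omega)
      refine ⟨fun _ => s₀, x i₀, fun a b _ => (hone a).trans (hone b).symm, fun s => ?_,
        fun i s _ => by rw [hone i], fun i l => by rw [if_pos ((hone l).trans (hone i).symm), hone i]⟩
      refine le_antisymm ?_ (Int.add_one_le_iff.2 (mul_self_pos.2 (hall s (mem_univ s))))
      have h7 := hnn (univ.erase s) fun s' _ => hall s' (mem_univ s')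
      rw [← Finset.sum_erase_add _ _ (mem_univ s)] at hn0
      rw [card_erase_of_mem (mem_univ s), card_univ] at h7
      have h9 : ((Fintype.card κ - 1 : ℕ) : ℤ) = (e : ℤ) := by omega
      linarith
    rcases Nat.lt_or_ge e 3 with h | h
    · have h2 := heq3 univ hall (by rw [hn0]; omega)
      rw [hn0, card_univ] at h2
      left; omega
    · obtain rfl : e = 3 := by omega
      by_cases h4 : ∀ s, x i₀ s * x i₀ s = 1
      · left
        have h5 : ((univ : Finset κ).card : ℤ) = ∑ s, x i₀ s * x i₀ s := by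
          simp [h4]
        rw [hn0, card_univ] at h5
        omega
      · push Not at h4
        obtain ⟨s, hs⟩ := h4
        right; left
        have h6 : 4 ≤ x i₀ s * x i₀ s := by
          by_contra hlt
          exact hs (sq_eq_one_of_le_three (hall s (mem_univ s)) (by omega))
        have h7 := hnn (univ.erase s) fun s' _ => hall s' (mem_univ s')
        rw [← Finset.sum_erase_add _ _ (mem_univ s)] at hn0
        have h8 : (univ.erase s).card = Fintype.card κ - 1 := by
          rw [card_erase_of_mem (mem_univ s), card_univ]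
        push_cast at hn0
        omega
  push Not at hone
  obtain ⟨i₁, hi₁⟩ := hone
  set J := univ.erase i₀ with hJ
  have hJne : ∀ {j}, j ∈ J → j ≠ i₀ := fun hj => ne_of_mem_erase hj
  set D : ι → κ → ℤ := fun j s => x i₀ s - x j s with hD
  have hDD : ∀ j ∈ J, ∀ l ∈ J, ∑ s, D j s * D l s = if j = l then 2 else 1 := by
    intro j hj l hl
    have e1 : ∑ s, D j s * D l s = ∑ s, x i₀ s * x i₀ s - ∑ s, x i₀ s * x l s
        - ∑ s, x j s * x i₀ s + ∑ s, x j s * x l s := by
      simp only [hD, ← Finset.sum_sub_distrib, ← Finset.sum_add_distrib]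
      exact Finset.sum_congr rfl fun s _ => by ring
    rw [e1, hgram, hgram, hgram, hgram, if_pos rfl, if_neg (Ne.symm (hJne hl)), if_neg (hJne hj)]
    split_ifs <;> ring
  have hxD : ∀ j ∈ J, ∑ s, x i₀ s * D j s = 1 := by
    intro j hj
    simp only [hD, mul_sub, Finset.sum_sub_distrib]
    rw [hgram, hgram, if_pos rfl, if_neg (Ne.symm (hJne hj))]
    ring
  set supp : ι → Finset κ := fun j => univ.filter fun s => D j s ≠ 0 with hsupp
  have hmem : ∀ {j s}, s ∈ supp j ↔ D j s ≠ 0 := by simp [hsupp]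
  have h2 : ∀ j ∈ J, (supp j).card = 2 ∧ ∀ s, D j s ≠ 0 → D j s * D j s = 1 := fun j hj =>
    norm_two (by simpa using hDD j hj j hj)
  have hinner : ∀ (v : κ → ℤ) j, ∑ s, v s * D j s = ∑ s ∈ supp j, v s * D j s := fun v j =>
    (Finset.sum_subset (subset_univ _) fun s _ hs => by
      rw [not_not.1 (mt hmem.2 hs), mul_zero]).symm
  have hinter : ∀ j ∈ J, ∀ l ∈ J, j ≠ l → ∃! s, s ∈ supp j ∧ s ∈ supp l := by
    intro j hj l hl hjl
    have h1 : ∑ s ∈ supp l, D j s * D l s = 1 := by
      rw [← hinner, hDD j hj l hl, if_neg hjl]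
    obtain ⟨a, b, hab, hl'⟩ := Finset.card_eq_two.1 (h2 l hl).1
    rw [hl', Finset.sum_pair hab] at h1
    have ha : D l a * D l a = 1 := (h2 l hl).2 a (hmem.1 (by rw [hl']; simp))
    have hb : D l b * D l b = 1 := (h2 l hl).2 b (hmem.1 (by rw [hl']; simp))
    by_cases hja : D j a = 0
    · have hjb : D j b ≠ 0 := fun h => by rw [hja, h] at h1; simp at h1
      refine ⟨b, ⟨hmem.2 hjb, by rw [hl']; simp⟩, fun s hs => ?_⟩
      rcases Finset.mem_insert.1 (hl' ▸ hs.2) with rfl | h
      · exact absurd hja (hmem.1 hs.1)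
      · exact Finset.mem_singleton.1 h
    · by_cases hjb : D j b = 0
      · refine ⟨a, ⟨hmem.2 hja, by rw [hl']; simp⟩, fun s hs => ?_⟩
        rcases Finset.mem_insert.1 (hl' ▸ hs.2) with rfl | h
        · rfl
        · exact absurd hjb ((Finset.mem_singleton.1 h) ▸ hmem.1 hs.1)
      · exfalso
        have ha' := (h2 j hj).2 a hja
        have hb' := (h2 j hj).2 b hjb
        rcases mul_self_eq_one_iff.1 (show (D j a * D l a) * (D j a * D l a) = 1 by
          rw [show (D j a * D l a) * (D j a * D l a) = (D j a * D j a) * (D l a * D l a) by ring,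
            ha, ha']; rfl) with r | r <;>
        rcases mul_self_eq_one_iff.1 (show (D j b * D l b) * (D j b * D l b) = 1 by
          rw [show (D j b * D l b) * (D j b * D l b) = (D j b * D j b) * (D l b * D l b) by ring,
            hb, hb']; rfl) with r' | r' <;> rw [r, r'] at h1 <;> omega
  -- a common coordinate
  obtain ⟨a, ha⟩ : ∃ a, ∀ j ∈ J, a ∈ supp j := by
    have hi₁J : i₁ ∈ J := mem_erase.2 ⟨hi₁, mem_univ _⟩
    by_cases h : ∀ j ∈ J, j = i₁
    · obtain ⟨a, ha⟩ := Finset.card_pos.1 (show 0 < (supp i₁).card by rw [(h2 i₁ hi₁J).1]; omega)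
      exact ⟨a, fun j hj => by rwa [h j hj]⟩
    push Not at h
    obtain ⟨i₂, hi₂J, hne12⟩ := h
    obtain ⟨a, ⟨ha1, ha2⟩, hau⟩ := hinter i₁ hi₁J i₂ hi₂J hne12.symm
    refine ⟨a, fun l hl => ?_⟩
    by_contra hal
    have hl1 : i₁ ≠ l := fun h => hal (h ▸ ha1)
    have hl2 : i₂ ≠ l := fun h => hal (h ▸ ha2)
    obtain ⟨b, ⟨hb1, hbl⟩, -⟩ := hinter i₁ hi₁J l hl hl1
    obtain ⟨c, ⟨hc2, hcl⟩, -⟩ := hinter i₂ hi₂J l hl hl2
    have hab : a ≠ b := fun h => hal (h ▸ hbl)
    have hac : a ≠ c := fun h => hal (h ▸ hcl)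
    have hbc : b ≠ c := fun h => hab (hau b ⟨hb1, h ▸ hc2⟩).symm
    have pair : ∀ j ∈ J, ∀ u w, u ≠ w → u ∈ supp j → w ∈ supp j → supp j = {u, w} := by
      intro j hj u w huw hu hw
      refine (Finset.eq_of_subset_of_card_le ?_ ?_).symm
      · intro s hs
        rcases Finset.mem_insert.1 hs with rfl | hs
        · exact hu
        · rwa [Finset.mem_singleton.1 hs]
      · rw [(h2 j hj).1, Finset.card_pair huw]
    have e1 := hxD i₁ hi₁J
    have e2 := hxD i₂ hi₂J
    have e3 := hxD l hl
    have f12 := hDD i₁ hi₁J i₂ hi₂J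
    have f1l := hDD i₁ hi₁J l hl
    have f2l := hDD i₂ hi₂J l hl
    rw [if_neg hne12.symm, hinner, pair i₂ hi₂J a c hac ha2 hc2, Finset.sum_pair hac] at f12
    rw [if_neg hl1, hinner, pair l hl b c hbc hbl hcl, Finset.sum_pair hbc] at f1l
    rw [if_neg hl2, hinner, pair l hl b c hbc hbl hcl, Finset.sum_pair hbc] at f2l
    rw [hinner, pair i₁ hi₁J a b hab ha1 hb1, Finset.sum_pair hab] at e1
    rw [hinner, pair i₂ hi₂J a c hac ha2 hc2, Finset.sum_pair hac] at e2
    rw [hinner, pair l hl b c hbc hbl hcl, Finset.sum_pair hbc] at e3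
    have z1 : D i₁ c = 0 := by
      by_contra h
      exact hac (hau c ⟨hmem.2 h, hc2⟩).symm
    have z2 : D i₂ b = 0 := by
      by_contra h
      exact hab (hau b ⟨hb1, hmem.2 h⟩).symm
    rw [z1] at f12 f1l
    rw [z2] at f2l
    have A1 := (h2 i₁ hi₁J).2 a (hmem.1 ha1)
    have B1 := (h2 i₁ hi₁J).2 b (hmem.1 hb1)
    have C2 := (h2 i₂ hi₂J).2 c (hmem.1 hc2)
    have ea : D i₂ a = D i₁ a := by linear_combination (D i₁ a) * f12 - (D i₂ a) * A1
    have eb : D l b = D i₁ b := by linear_combination (D i₁ b) * f1l - (D l b) * B1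
    have ec : D l c = D i₂ c := by linear_combination (D i₂ c) * f2l - (D l c) * C2
    rw [ea] at e2
    rw [eb, ec] at e3
    have h12 : 2 * (x i₀ a * D i₁ a) = 1 := by linear_combination e1 + e2 - e3
    omega
  -- the second coordinate
  have hex : ∀ j ∈ J, ∃ b, b ≠ a ∧ supp j = {a, b} := fun j hj => by
    obtain ⟨u, w, huw, hj'⟩ := Finset.card_eq_two.1 (h2 j hj).1
    rcases Finset.mem_insert.1 (hj' ▸ ha j hj) with rfl | h
    · exact ⟨w, huw.symm, hj'⟩
    · obtain rfl := Finset.mem_singleton.1 h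
      exact ⟨u, huw, hj'.trans (Finset.pair_comm u a)⟩
  haveI : Nonempty κ := ⟨a⟩
  choose! f hfa hfs using hex
  set A : ℤ := x i₀ a * D i₁ a with hA
  have hi₁J : i₁ ∈ J := mem_erase.2 ⟨hi₁, mem_univ _⟩
  have hfinj : ∀ j ∈ J, ∀ l ∈ J, f j = f l → j = l := fun j hj l hl he' => by
    by_contra hjl
    obtain ⟨s, -, hsu⟩ := hinter j hj l hl hjl
    have e1 := hsu a ⟨ha j hj, ha l hl⟩
    have e2 := hsu (f j) ⟨by rw [hfs j hj]; simp, by rw [hfs l hl, he']; simp⟩
    exact hfa j hj (e2.trans e1.symm)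
  have hcommon : ∀ j ∈ J, x i₀ a * D j a = A := by
    intro j hj
    rcases eq_or_ne j i₁ with rfl | hj1
    · rfl
    have h1 : ∑ s ∈ supp i₁, D j s * D i₁ s = 1 := by
      rw [← hinner, hDD j hj i₁ hi₁J, if_neg hj1]
    rw [hfs i₁ hi₁J, Finset.sum_pair (hfa i₁ hi₁J).symm] at h1
    have h0 : D j (f i₁) = 0 := by
      by_contra h
      have := hmem.2 h
      rw [hfs j hj] at this
      rcases Finset.mem_insert.1 this with h' | h'
      · exact hfa i₁ hi₁J h'
      · exact hj1 (hfinj i₁ hi₁J j hj (Finset.mem_singleton.1 h')).symm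
    rw [h0, zero_mul, add_zero] at h1
    have h' := (h2 i₁ hi₁J).2 a (hmem.1 (ha i₁ hi₁J))
    have : D j a = D i₁ a := by linear_combination (D i₁ a) * h1 - (D j a) * h'
    rw [hA, this]
  have hfval : ∀ j ∈ J, x i₀ (f j) * x i₀ (f j) = (1 - A) * (1 - A) := by
    intro j hj
    have h1 := hxD j hj
    rw [hinner, hfs j hj, Finset.sum_pair (hfa j hj).symm, hcommon j hj] at h1
    have h' := (h2 j hj).2 (f j) (hmem.1 (by rw [hfs j hj]; simp))
    linear_combination (x i₀ (f j) * D j (f j) + (1 - A)) * h1 - (x i₀ (f j) * x i₀ (f j)) * h'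
  have hAA : x i₀ a * x i₀ a = A * A := by
    have h' := (h2 i₁ hi₁J).2 a (hmem.1 (ha i₁ hi₁J))
    rw [hA]
    linear_combination -(x i₀ a * x i₀ a) * h'
  set S₁ := insert a (J.image f) with hS₁
  have hanot : a ∉ J.image f := fun h => by
    obtain ⟨j, hj, hja⟩ := Finset.mem_image.1 h
    exact hfa j hj hja
  have hJcard : J.card = Fintype.card ι - 1 := by
    rw [hJ, card_erase_of_mem (mem_univ _), card_univ]
  have hι : 2 ≤ Fintype.card ι := by
    have : 0 < J.card := Finset.card_pos.2 ⟨i₁, hi₁J⟩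
    omega
  have hS₁card : S₁.card = Fintype.card ι := by
    rw [hS₁, card_insert_of_notMem hanot, Finset.card_image_of_injOn hfinj, hJcard]
    omega
  have hS₁sum : ∑ s ∈ S₁, x i₀ s * x i₀ s = A * A + (J.card : ℤ) * ((1 - A) * (1 - A)) := by
    rw [hS₁, Finset.sum_insert hanot, Finset.sum_image hfinj, Finset.sum_congr rfl hfval,
      Finset.sum_const, hAA, nsmul_eq_mul]
  have hZne : ∀ s ∈ (univ \ S₁), x i₀ s ≠ 0 := by
    intro s hs h0
    obtain ⟨i, hi⟩ := hne s
    apply hi
    by_cases hii : i = i₀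
    · rw [hii, h0]
    have hiJ : i ∈ J := mem_erase.2 ⟨hii, mem_univ _⟩
    have h1 : D i s = 0 := by
      by_contra h
      apply (Finset.mem_sdiff.1 hs).2
      have := hmem.2 h
      rw [hfs i hiJ] at this
      rcases Finset.mem_insert.1 this with h' | h'
      · rw [h', hS₁]; exact mem_insert_self _ _
      · rw [Finset.mem_singleton.1 h', hS₁]
        exact mem_insert_of_mem (Finset.mem_image_of_mem f hiJ)
    simp only [hD, h0, zero_sub, neg_eq_zero] at h1
    exact h1
  have htotal : ∑ s ∈ univ \ S₁, x i₀ s * x i₀ s =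
      1 + (e : ℤ) - (A * A + (J.card : ℤ) * ((1 - A) * (1 - A))) := by
    rw [← hn0, ← hS₁sum, ← Finset.sum_sdiff (subset_univ S₁), add_sub_cancel_right]
  have hκ : Fintype.card κ = Fintype.card ι + (univ \ S₁).card := by
    rw [← hS₁card, ← card_univ, ← Finset.card_sdiff_add_card_eq_card (subset_univ S₁), add_comm]
  have hZ := hnn _ hZne
  rw [htotal] at hZ
  have hJ1 : (1 : ℤ) ≤ J.card := by
    have : 0 < J.card := Finset.card_pos.2 ⟨i₁, hi₁J⟩
    omega
  have hlow : 1 ≤ A * A + (J.card : ℤ) * ((1 - A) * (1 - A)) := by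
    rcases eq_or_ne A 0 with h | h
    · rw [h]; simpa using hJ1
    · nlinarith [mul_self_pos.2 h, mul_nonneg (show (0 : ℤ) ≤ J.card by omega)
        (mul_self_nonneg (1 - A))]
  refine ⟨by omega, fun h3 => ?_, fun hk => ?_⟩
  swap
  · have hZe : (univ \ S₁).card = e := by omega
    rw [hZe] at hZ
    have hM1 : A * A + (J.card : ℤ) * ((1 - A) * (1 - A)) = 1 := le_antisymm (by omega) hlow
    have hxsq : ∀ s ∈ univ \ S₁, x i₀ s * x i₀ s = 1 := fun s hs => by
      refine le_antisymm ?_ (Int.add_one_le_iff.2 (mul_self_pos.2 (hZne s hs)))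
      have h7 := hnn ((univ \ S₁).erase s) fun s' hs' => hZne s' (Finset.mem_of_mem_erase hs')
      have h8 := Finset.sum_erase_add (univ \ S₁) (fun s => x i₀ s * x i₀ s) hs
      rw [card_erase_of_mem hs, hZe] at h7
      rw [htotal, hM1] at h8
      have h9 : ((e - 1 : ℕ) : ℤ) = (e : ℤ) - 1 := by omega
      linarith
    have hZx : ∀ i, ∀ s ∈ univ \ S₁, x i s = x i₀ s := by
      intro i s hs
      by_cases hii : i = i₀
      · rw [hii]
      have hiJ : i ∈ J := mem_erase.2 ⟨hii, mem_univ _⟩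
      have h1 : D i s = 0 := by
        by_contra h
        apply (Finset.mem_sdiff.1 hs).2
        have := hmem.2 h
        rw [hfs i hiJ] at this
        rcases Finset.mem_insert.1 this with h' | h'
        · rw [h', hS₁]; exact mem_insert_self _ _
        · rw [Finset.mem_singleton.1 h', hS₁]
          exact mem_insert_of_mem (Finset.mem_image_of_mem f hiJ)
      simp only [hD, sub_eq_zero] at h1
      exact h1.symm
    have hDa : ∀ j ∈ J, D j a * D j a = 1 := fun j hj => (h2 j hj).2 a (hmem.1 (ha j hj))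
    have hDf : ∀ j ∈ J, D j (f j) * D j (f j) = 1 := fun j hj =>
      (h2 j hj).2 (f j) (hmem.1 (by rw [hfs j hj]; simp))
    have hfa1 : ∀ j ∈ J, x i₀ (f j) * D j (f j) = 1 - A := fun j hj => by
      have h1 := hxD j hj
      rw [hinner, hfs j hj, Finset.sum_pair (hfa j hj).symm, hcommon j hj] at h1
      linarith
    rcases eq_or_ne A 0 with hA0 | hA0
    · have hJone : (J.card : ℤ) = 1 := by rw [hA0] at hM1; linarith
      have hJ' : J = {i₁} := by
        obtain ⟨j₀, hj₀⟩ := Finset.card_eq_one.1 (by exact_mod_cast hJone : J.card = 1)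
        rw [hj₀] at hi₁J ⊢
        rw [Finset.mem_singleton.1 hi₁J]
      have hall2 : ∀ i, i = i₀ ∨ i = i₁ := fun i => by
        by_cases h : i = i₀
        · exact Or.inl h
        · have : i ∈ J := mem_erase.2 ⟨h, mem_univ _⟩
          rw [hJ'] at this
          exact Or.inr (Finset.mem_singleton.1 this)
      have hxa : x i₀ a = 0 := mul_self_eq_zero.1 (by rw [hAA, hA0, mul_zero])
      have e1 := hfa1 i₁ hi₁J
      rw [hA0, sub_zero] at e1
      have e2 : x i₁ a = -D i₁ a := by simp only [hD, hxa]; ring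
      have e3 : x i₁ (f i₁) = 0 := by
        have e4 : x i₀ (f i₁) = D i₁ (f i₁) := by
          linear_combination (D i₁ (f i₁)) * e1 - (x i₀ (f i₁)) * hDf i₁ hi₁J
        have e5 : D i₁ (f i₁) = x i₀ (f i₁) - x i₁ (f i₁) := rfl
        linarith
      let y : ι → κ := fun i => if i = i₀ then f i₁ else a
      have hy₀ : y i₀ = f i₁ := if_pos rfl
      have hy₁ : y i₁ = a := if_neg hi₁
      refine ⟨y, fun s => if s = a then x i₁ a else x i₀ s, fun i l h => ?_, fun s => ?_,
        fun i s hs => ?_, fun i l => ?_⟩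
      · rcases hall2 i with hi | hi <;> rcases hall2 l with hl | hl <;> rw [hi, hl] at h ⊢
        · rw [hy₀, hy₁] at h; exact absurd h (hfa i₁ hi₁J)
        · rw [hy₀, hy₁] at h; exact absurd h.symm (hfa i₁ hi₁J)
      · by_cases hs : s = a
        · simp only [if_pos hs, e2]
          linear_combination hDa i₁ hi₁J
        · simp only [if_neg hs]
          by_cases hs' : s = f i₁
          · rw [hs', hfval i₁ hi₁J, hA0]; norm_num
          · refine hxsq s (Finset.mem_sdiff.2 ⟨mem_univ s, ?_⟩)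
            rw [hS₁, hJ']
            simp [hs, hs']
      · have hsa : s ≠ a := hy₁ ▸ hs i₁
        simp only [if_neg hsa]
        refine hZx i s (Finset.mem_sdiff.2 ⟨mem_univ s, ?_⟩)
        rw [hS₁, hJ']
        simp [hsa, hy₀ ▸ hs i₀]
      · rcases hall2 i with hi | hi <;> rcases hall2 l with hl | hl <;> rw [hi, hl]
        · simp [hy₀, hfa i₁ hi₁J]
        · simp [hy₁, hi₁, hxa]
        · simp [hy₀, Ne.symm hi₁, e3]
        · simp [hy₁]
    · have hA1 : A = 1 := by
        have h1 : 1 ≤ A * A := Int.add_one_le_iff.2 (mul_self_pos.2 hA0)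
        have h3 : (J.card : ℤ) * ((1 - A) * (1 - A)) = 0 :=
          le_antisymm (by linarith) (mul_nonneg (by omega) (mul_self_nonneg _))
        rcases mul_eq_zero.1 h3 with h | h
        · omega
        · have := mul_self_eq_zero.1 h
          omega
      have hDax : ∀ j ∈ J, D j a = x i₀ a := fun j hj => by
        have h1 := hcommon j hj
        rw [hA1] at h1
        linear_combination (x i₀ a) * hDa j hj - (D j a) * h1
      have hxf : ∀ j ∈ J, x i₀ (f j) = 0 := fun j hj =>
        mul_self_eq_zero.1 (by rw [hfval j hj, hA1]; ring)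
      have hxj : ∀ j ∈ J, x j (f j) = -D j (f j) := fun j hj => by
        simp only [hD, hxf j hj]; ring
      let y : ι → κ := fun i => if i = i₀ then a else f i
      let d : κ → ℤ := fun s =>
        if h : ∃ j ∈ J, f j = s then x h.choose s else x i₀ s
      have hdy : ∀ j ∈ J, d (f j) = x j (f j) := fun j hj => by
        have h : ∃ l ∈ J, f l = f j := ⟨j, hj, rfl⟩
        simp only [d, dif_pos h]
        rw [hfinj _ h.choose_spec.1 j hj h.choose_spec.2]
      have hdn : ∀ s, (∀ j ∈ J, f j ≠ s) → d s = x i₀ s := fun s hs => by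
        simp only [d]
        rw [dif_neg]
        rintro ⟨j, hj, h⟩
        exact hs j hj h
      refine ⟨y, d, fun i l h => ?_, fun s => ?_, fun i s hs => ?_, fun i l => ?_⟩
      · by_cases hi : i = i₀ <;> by_cases hl : l = i₀
        · rw [hi, hl]
        · simp only [y, if_pos hi, if_neg hl] at h
          exact absurd h.symm (hfa l (mem_erase.2 ⟨hl, mem_univ _⟩))
        · simp only [y, if_neg hi, if_pos hl] at h
          exact absurd h (hfa i (mem_erase.2 ⟨hi, mem_univ _⟩))
        · simp only [y, if_neg hi, if_neg hl] at h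
          exact hfinj i (mem_erase.2 ⟨hi, mem_univ _⟩) l (mem_erase.2 ⟨hl, mem_univ _⟩) h
      · by_cases hs : ∃ j ∈ J, f j = s
        · obtain ⟨j, hj, rfl⟩ := hs
          rw [hdy j hj, hxj j hj]
          linear_combination hDf j hj
        · push Not at hs
          rw [hdn s hs]
          by_cases hsa : s = a
          · rw [hsa, hAA, hA1, mul_one]
          · refine hxsq s (Finset.mem_sdiff.2 ⟨mem_univ s, ?_⟩)
            rw [hS₁]
            intro h
            rcases Finset.mem_insert.1 h with h | h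
            · exact hsa h
            · obtain ⟨j, hj, h'⟩ := Finset.mem_image.1 h
              exact hs j hj h'
      · have hsa : s ≠ a := fun h => hs i₀ (by simp [y, h])
        have hsf : ∀ j ∈ J, f j ≠ s := fun j hj h => hs j (by simp [y, if_neg (hJne hj), h])
        rw [hdn s hsf]
        refine hZx i s (Finset.mem_sdiff.2 ⟨mem_univ s, ?_⟩)
        rw [hS₁]
        intro h
        rcases Finset.mem_insert.1 h with h | h
        · exact hsa h
        · obtain ⟨j, hj, h'⟩ := Finset.mem_image.1 h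
          exact hsf j hj h'
      · by_cases hl : l = i₀
        · subst hl
          simp only [y, if_pos]
          rw [hdn a fun j hj => hfa j hj]
          by_cases hi : i = l
          · rw [hi, if_pos rfl]
          · rw [if_neg (Ne.symm hi)]
            have h1 := hDax i (mem_erase.2 ⟨hi, mem_univ _⟩)
            simp only [hD] at h1
            linarith
        · have hlJ : l ∈ J := mem_erase.2 ⟨hl, mem_univ _⟩
          simp only [y, if_neg hl, hdy l hlJ]
          by_cases hi : i = l
          · rw [hi, if_pos rfl]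
          rw [if_neg (Ne.symm hi)]
          by_cases hi0 : i = i₀
          · rw [hi0, hxf l hlJ]
          have hiJ : i ∈ J := mem_erase.2 ⟨hi0, mem_univ _⟩
          have h1 : D i (f l) = 0 := by
            by_contra h
            have := hmem.2 h
            rw [hfs i hiJ] at this
            rcases Finset.mem_insert.1 this with h' | h'
            · exact hfa l hlJ h'
            · exact hi (hfinj l hlJ i hiJ (Finset.mem_singleton.1 h')).symm
          simp only [hD, hxf l hlJ] at h1
          linarith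
  have hZ' := heq3 _ hZne (by rw [htotal]; omega)
  rw [htotal] at hZ'
  have hA01 : A = 0 ∨ A = 1 := by
    by_contra h
    push Not at h
    have h1 : A ≤ -1 ∨ 2 ≤ A := by omega
    have hj1 : (1 - A) * (1 - A) ≤ (J.card : ℤ) * ((1 - A) * (1 - A)) :=
      le_mul_of_one_le_left (mul_self_nonneg _) hJ1
    rcases h1 with h1 | h1 <;> nlinarith [hj1, hZ, h1, h3]
  rcases hA01 with hA0 | hA1
  · rw [hA0] at hZ' hZ
    simp only [mul_zero, sub_zero, mul_one, zero_add] at hZ' hZ
    rcases Nat.lt_or_ge (Fintype.card ι) 3 with ht | ht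
    · left; omega
    have hb : Fintype.card ι ≤ e + 2 := by omega
    have hcases : (e = 1 ∧ Fintype.card ι = 3) ∨ (e = 2 ∧ Fintype.card ι = 3) ∨
        (e = 2 ∧ Fintype.card ι = 4) ∨ (e = 3 ∧ Fintype.card ι = 3) ∨
        (e = 3 ∧ Fintype.card ι = 4) ∨ (e = 3 ∧ Fintype.card ι = 5) := by omega
    rcases hcases with ⟨h, h'⟩ | ⟨h, h'⟩ | ⟨h, h'⟩ | ⟨h, h'⟩ | ⟨h, h'⟩ | ⟨h, h'⟩
    · right; left; omega
    · right; right; left
      exact ⟨by omega, by omega, by rw [h, h']; norm_num⟩
    · right; left; omega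
    · right; right; right; exact ⟨h, h'⟩
    · right; right; left
      exact ⟨by omega, by omega, by rw [h, h']; norm_num⟩
    · right; left; omega
  · rw [hA1] at hZ'
    simp only [sub_self, mul_zero, mul_one, add_zero] at hZ'
    left; omega

end Cfsg.Agent.Lib.FreeQuot
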