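import Cfsg.Agent.Lib.FreeQuot.Nice
import Cfsg.Agent.Lib.FreeQuot.Combin
import Mathlib.GroupTheory.GroupAction.Quotient

/-!
# Counting from orthogonal functions with a freely acting group
-/

set_option autoImplicit false
set_option linter.unusedSectionVars false
set_option linter.style.haveILetI false

namespace Cfsg.Agent.Lib.FreeQuot

open Cfsg Cfsg.Agent.Lib.Blocks
open scoped ComplexConjugate Classical

universe u

variable {P : Type u} [CommGroup P] [Fintype P] [Fintype (P →* ℂˣ)]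
variable {M : Ideal AlgInt} [hMp : M.IsPrime] {p : ℕ}

theorem hom_inv_one : (1 : P →* ℂˣ)⁻¹ = 1 := by
  ext v
  simp

theorem hom_inv_inv (a : P →* ℂˣ) : a⁻¹⁻¹ = a := by
  ext v
  simp

theorem hom_mul_inv_eq_one {a b : P →* ℂˣ} : a * b⁻¹ = 1 ↔ a = b := by
  constructor
  · intro h
    refine MonoidHom.ext fun v => ?_
    have := DFunLike.congr_fun h v
    simpa [mul_inv_eq_one] using this
  · rintro rfl
    ext v
    simp

theorem hom_inv_ne_one {a : P →* ℂˣ} (h : a ≠ 1) : a⁻¹ ≠ 1 := fun h' => h (by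
  refine MonoidHom.ext fun v => ?_
  have := DFunLike.congr_fun h' v
  simpa using this)

theorem exists_int_of_ok (hM : IsPModular p M) (L : ℕ) {x : ℂ} (hx : x ∈ okRing M)
    (hint : IsIntegral ℤ (((p ^ L : ℕ) : ℂ) * x)) : ∃ n : ℤ, (n : ℂ) = x := by
  obtain ⟨r, hr⟩ := mem_ratRing.1 hx.2
  have h1 : IsIntegral ℤ ((p ^ L : ℕ) * r : ℚ) := by
    rw [← isIntegral_algebraMap_iff (algebraMap ℚ ℂ).injective]
    simpa [hr] using hint
  obtain ⟨m, hm⟩ := IsIntegrallyClosed.isIntegral_iff.1 h1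
  simp only [eq_intCast] at hm
  have hden : r.den ∣ p ^ L := by
    have h2 : (r.num * (p ^ L : ℕ) : ℤ) = m * r.den := by
      have : (r.num : ℚ) * (p ^ L : ℕ) = m * r.den := by
        rw [hm, mul_assoc, Rat.mul_den_eq_num]
        ring
      exact_mod_cast this
    have h3 : (r.den : ℤ) ∣ r.num * (p ^ L : ℕ) := ⟨m, by rw [h2]; ring⟩
    exact Int.natCast_dvd_natCast.1
      ((Int.isCoprime_iff_nat_coprime.2 (by simpa using r.reduced.symm)).dvd_of_dvd_mul_left h3)
  obtain ⟨j, -, hj⟩ := (Nat.dvd_prime_pow hM.1).1 hden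
  rcases Nat.eq_zero_or_pos j with rfl | hj0
  · exact ⟨r.num, by rw [← hr, ← Rat.cast_intCast, Rat.coe_int_num_of_den_eq_one (by simpa using hj)]⟩
  exfalso
  obtain ⟨j', rfl⟩ := Nat.exists_eq_succ_of_ne_zero hj0.ne'
  have h4 : MemLocalIdeal M ((r.num : ℤ) : ℂ) := by
    have e : ((r.num : ℤ) : ℂ) = (p : ℂ) * ((p : ℂ) ^ j' * x) := by
      have e2 : (r : ℂ) * (r.den : ℂ) = (r.num : ℂ) := by exact_mod_cast Rat.mul_den_eq_num r
      rw [← hr, ← e2, hj, pow_succ']
      push_cast
      ring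
    rw [e]
    exact memLocalIdeal_mul_right ((memLocalIdeal_natCast_iff hM p).2 dvd_rfl)
      ((locSubring M).mul_mem ((locSubring M).pow_mem (memLocalRing_natCast p) j') hx.1)
  have h5 : p ∣ r.num.natAbs := by
    rw [← memLocalIdeal_natCast_iff hM]
    rcases Int.natAbs_eq r.num with h | h
    · rwa [h, Int.cast_natCast] at h4
    · rw [h, Int.cast_neg, Int.cast_natCast] at h4
      simpa using memLocalIdeal_neg h4
  exact hM.1.ne_one (Nat.eq_one_of_dvd_coprimes r.reduced h5
    (by rw [hj]; exact dvd_pow_self p (Nat.succ_ne_zero j')))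

/-- An element of modulus one with integral values and local rational coefficients has order
dividing the order of the group. -/
theorem pow_card_eq_one_of_ok (hM : IsPModular p M) (hP : IsPGroup p P) {z : P → ℂ}
    (hz : z ∈ coeffRing (okRing M)) (hint : ∀ v, IsIntegral ℤ (z v))
    (hnorm : ∀ v, z v * conj (z v) = 1) (h1 : z 1 = 1) (v : P) :
    z v ^ Fintype.card P = 1 := by
  haveI := Fact.mk hM.1
  obtain ⟨L, hL⟩ := IsPGroup.iff_card.1 hP
  rw [Nat.card_eq_fintype_card] at hL
  have hn : ∀ lam, ∃ n : ℤ, (n : ℂ) = coeff z lam := fun lam => by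
    refine exists_int_of_ok hM L (hz lam) ?_
    rw [← hL, coeff, ← mul_assoc, mul_inv_cancel₀ card_ne_zeroC, one_mul]
    exact IsIntegral.sum _ fun w _ => (hint w).mul (isIntegral_ch _ w)
  choose n hn using hn
  have hpar : ∑ mu, n mu * n mu = 1 := by
    have e : coeff (z * fun w => conj (z w)) 1 = 1 := by
      rw [show (z * fun w => conj (z w)) = ch (1 : P →* ℂˣ) from funext fun w => hnorm w, coeff_ch,
        if_pos rfl]
    rw [coeff_mul] at e
    rw [← Int.cast_inj (α := ℂ)]
    push_cast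
    rw [← e]
    refine Finset.sum_congr rfl fun mu _ => ?_
    rw [coeff_conj, show ((1 : P →* ℂˣ) * mu⁻¹)⁻¹ = mu from
      (congrArg (fun l : P →* ℂˣ => l⁻¹) (one_mul _)).trans (inv_inv mu), ← hn, map_intCast]
  obtain ⟨m, hm⟩ : ∃ m, n m ≠ 0 := by
    by_contra h
    push Not at h
    simp [h] at hpar
  have hm1 : n m * n m = 1 := le_antisymm
    ((Finset.single_le_sum (f := fun mu => n mu * n mu) (fun i _ => mul_self_nonneg _)
      (Finset.mem_univ m)).trans hpar.le) (Int.add_one_le_iff.2 (mul_self_pos.2 hm))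
  have hother : ∀ mu, mu ≠ m → n mu = 0 := fun mu hmu => by
    rw [← Finset.sum_erase_add _ _ (Finset.mem_univ m), hm1] at hpar
    have h0 : ∑ mu ∈ Finset.univ.erase m, n mu * n mu = 0 := by omega
    exact mul_self_eq_zero.1 ((Finset.sum_eq_zero_iff_of_nonneg fun i _ => mul_self_nonneg _).1 h0
      mu (Finset.mem_erase.2 ⟨hmu, Finset.mem_univ _⟩))
  have hz' : ∀ w, z w = (n m : ℂ) * ch m w := fun w => by
    rw [inversion z w, Finset.sum_eq_single m (fun mu _ hmu => by rw [← hn, hother mu hmu]; simp)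
      (by simp), hn]
  have hnm : (n m : ℂ) = 1 := by
    have := hz' 1
    rwa [h1, ch_map_one, mul_one, eq_comm] at this
  rw [hz', hnm, one_mul, ch_pow_card]

variable {Γ : Type*} [Group Γ] [Fintype Γ]

theorem free_sum {X : Type*} [Fintype X] [MulAction Γ X] (hfree : ∀ (γ : Γ) (x : X), γ • x = x → γ = 1) :
    Fintype.card X = Fintype.card (MulAction.orbitRel.Quotient Γ X) * Fintype.card Γ ∧
      ∀ f : X → ℂ, (∀ (γ : Γ) x, f (γ • x) = f x) →
        ∑ x, f x = (Fintype.card Γ : ℂ) * ∑ ω : MulAction.orbitRel.Quotient Γ X, f ω.out := by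
  let Φ : MulAction.orbitRel.Quotient Γ X × Γ → X := fun a => a.2 • a.1.out
  have hΦ : Function.Bijective Φ := by
    refine ⟨fun a b hab => ?_, fun x => ?_⟩
    · obtain ⟨ω, γ⟩ := a
      obtain ⟨ω', γ'⟩ := b
      have hab' : γ • ω.out = γ' • ω'.out := hab
      have hω : ω = ω' := by
        rw [← Quotient.out_eq ω, ← Quotient.out_eq ω']
        refine Quotient.sound ⟨γ⁻¹ * γ', ?_⟩
        show (γ⁻¹ * γ') • ω'.out = ω.out
        rw [mul_smul, ← hab', inv_smul_smul]
      subst hω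
      have h1 : γ'⁻¹ * γ = 1 := hfree _ ω.out (by rw [mul_smul, hab', inv_smul_smul])
      exact Prod.ext rfl (inv_mul_eq_one.1 h1).symm
    · obtain ⟨γ, hγ⟩ : x ∈ MulAction.orbit Γ
          (Quotient.out (Quotient.mk'' x : MulAction.orbitRel.Quotient Γ X)) :=
        Quotient.exact (Quotient.out_eq (Quotient.mk'' x : MulAction.orbitRel.Quotient Γ X)).symm
      exact ⟨(_, γ), hγ⟩
  refine ⟨by rw [← Fintype.card_of_bijective hΦ, Fintype.card_prod], fun f hf => ?_⟩
  rw [← Fintype.sum_bijective Φ hΦ (fun a => f a.1.out) f fun a => (hf a.2 a.1.out).symm,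
    Fintype.sum_prod_type, Finset.mul_sum]
  exact Finset.sum_congr rfl fun ω _ => by simp

set_option maxHeartbeats 1000000 in
/-- **The count.** -/
theorem count_core (hM : IsPModular p M) (hP : IsPGroup p P) [Nontrivial P] (Φ : Γ →* MulAut P)
    (hfree : ∀ γ : Γ, ∀ v : P, v ≠ 1 → Φ γ v = v → γ = 1)
    {κ : Type*} [Fintype κ] (Gf : κ → P → ℂ) (k₀ : κ)
    (hok : ∀ s, Gf s ∈ coeffRing (okRing M))
    (hint : ∀ s v, v ≠ 1 → IsIntegral ℤ (Gf s v))
    (h0 : ¬ MemLocalIdeal M (Gf k₀ 1))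
    (hprop : ∀ (γ : Γ) v, v ≠ 1 → ∃ ζ : ℂ, IsIntegral ℤ ζ ∧ ∀ s, Gf s (Φ γ v) = ζ * Gf s v)
    (hnorm : ∀ v, v ≠ 1 → ∑ s, Gf s v * conj (Gf s v) = (Fintype.card P : ℂ))
    (horth : ∀ v w, v ≠ 1 → w ≠ 1 → (∀ γ : Γ, Φ γ v ≠ w) → ∑ s, Gf s v * conj (Gf s w) = 0)
    (hne : ∀ s, ∃ v, v ≠ 1 ∧ Gf s v ≠ 0) :
    ∃ t : ℕ, 1 ≤ t ∧ t * Fintype.card Γ + 1 = Fintype.card P ∧
      Fintype.card κ ≤ t + Fintype.card Γ ∧
      (Fintype.card Γ ≤ 3 → Fintype.card κ = t + Fintype.card Γ ∨ Fintype.card κ ≤ t ∨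
        (2 ≤ Fintype.card Γ ∧ Fintype.card κ = t + 1 ∧ (Fintype.card P).Prime) ∨
        Fintype.card P = 10) ∧
      (Fintype.card κ = t + Fintype.card Γ → ∃ (u : P → ℂ) (y : Fin t → κ) (d : κ → ℤ)
          (lam : Fin t → P →* ℂˣ), Function.Injective y ∧ (∀ v, IsIntegral ℤ (u v)) ∧
        (∀ v, u v * conj (u v) = 1) ∧ (∀ s, d s * d s = 1) ∧ (∀ i, lam i ≠ 1) ∧
        (∀ mu : P →* ℂˣ, mu ≠ 1 → ∃ i γ, ∀ v, ch mu v = ch (lam i) (Φ γ v)) ∧
        ∀ v, v ≠ 1 → (∀ s, (∀ i, s ≠ y i) → Gf s v * u v = (d s : ℂ)) ∧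
          ∀ i, Gf (y i) v * u v = (d (y i) : ℂ) * ∑ γ : Γ, ch (lam i) (Φ γ v)) := by
  haveI := Fact.mk hM.1
  set q := Fintype.card P with hq
  set e := Fintype.card Γ with he
  have hΦmul : ∀ (γ δ : Γ) (v : P), Φ (γ * δ) v = Φ γ (Φ δ v) := fun γ δ v => by
    rw [map_mul]; rfl
  -- the action on the nontrivial elements
  let V := {v : P // v ≠ 1}
  letI actV : MulAction Γ V :=
    { smul := fun γ v => ⟨Φ γ v.1, fun h => v.2 ((Φ γ).injective (h.trans (map_one _).symm))⟩
      one_smul := fun v => Subtype.ext (by show Φ 1 v.1 = v.1; rw [map_one]; rfl)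
      mul_smul := fun γ δ v => Subtype.ext (hΦmul γ δ v.1) }
  have hsmulV : ∀ (γ : Γ) (v : V), ((γ • v : V) : P) = Φ γ v.1 := fun _ _ => rfl
  obtain ⟨hcardV, hsumV⟩ := free_sum (Γ := Γ) (X := V) fun γ v h =>
    hfree γ v.1 v.2 (congrArg Subtype.val h)
  set t := Fintype.card (MulAction.orbitRel.Quotient Γ V) with ht
  have hVq : Fintype.card V + 1 = q := by
    have h := Fintype.card_subtype_compl (fun v : P => v = 1)
    rw [Fintype.card_subtype_eq] at h
    have := Fintype.card_pos (α := P)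
    show Fintype.card {v : P // ¬ v = 1} + 1 = q
    rw [h]; omega
  rw [hcardV] at hVq
  have hq2 : 2 ≤ q := Fintype.one_lt_card
  have ht1 : 1 ≤ t := by
    rcases Nat.eq_zero_or_pos t with h | h
    · rw [h] at hVq; omega
    · exact h
  obtain ⟨L, hL⟩ := IsPGroup.iff_card.1 hP
  rw [Nat.card_eq_fintype_card] at hL
  have hpe : ¬ p ∣ e := fun hd => by
    have hL0 : L ≠ 0 := by rintro rfl; simp at hL; omega
    have h1 : p ∣ q := hq ▸ hL ▸ dvd_pow_self p hL0
    rw [← hVq] at h1
    have h2 := (Nat.dvd_add_right (dvd_mul_of_dvd_right hd t)).1 h1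
    exact hM.1.ne_one (Nat.dvd_one.1 h2)
  have he0 : (e : ℂ) ≠ 0 := Nat.cast_ne_zero.2 Fintype.card_ne_zero
  have hq0 : (q : ℂ) ≠ 0 := card_ne_zeroC
  -- the ratios
  obtain ⟨hu0, hinv⟩ := inv_mem_okRing hM hP (hok k₀) h0
  have hG0 : ∀ v, Gf k₀ v ≠ 0 := fun v h => hu0 v (by rw [h]; exact memLocalIdeal_zero)
  set z : Γ → P → ℂ := fun γ v => Gf k₀ (Φ γ v) * (Gf k₀ v)⁻¹ with hzdef
  have hzok : ∀ γ, z γ ∈ coeffRing (okRing M) := fun γ => mul_mem (comp_mem (hok k₀) (Φ γ)) hinv
  have hz1 : ∀ γ, z γ 1 = 1 := fun γ => by simp [hzdef, hG0]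
  have hzprop : ∀ γ v, v ≠ 1 → IsIntegral ℤ (z γ v) ∧ ∀ s, Gf s (Φ γ v) = z γ v * Gf s v := by
    intro γ v hv
    obtain ⟨ζ, hζ, h⟩ := hprop γ v hv
    have e1 : z γ v = ζ := by simp only [hzdef]; rw [h, mul_inv_cancel_right₀ (hG0 v)]
    rw [e1]
    exact ⟨hζ, h⟩
  have hzn : ∀ γ v, z γ v * conj (z γ v) = 1 := by
    intro γ v
    rcases eq_or_ne v 1 with rfl | hv
    · simp [hz1]
    have hγv : Φ γ v ≠ 1 := fun h => hv ((Φ γ).injective (h.trans (map_one _).symm))
    have h1 := hnorm _ hγv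
    rw [Finset.sum_congr rfl (g := fun s => (z γ v * conj (z γ v)) * (Gf s v * conj (Gf s v)))
      fun s _ => by rw [(hzprop γ v hv).2 s, map_mul]; ring, ← Finset.mul_sum, hnorm v hv] at h1
    exact (mul_eq_right₀ hq0).1 h1
  have hzint : ∀ γ v, IsIntegral ℤ (z γ v) := fun γ v => by
    rcases eq_or_ne v 1 with rfl | hv
    · rw [hz1]; exact isIntegral_one
    · exact (hzprop γ v hv).1
  have hzq : ∀ γ v, z γ v ^ q = 1 := fun γ v =>
    pow_card_eq_one_of_ok hM hP (hzok γ) (hzint γ) (hzn γ) (hz1 γ) v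
  set u : P → ℂ := fun v => ∏ γ : Γ, z γ v ^ (q - t) with hudef
  have huok : u ∈ coeffRing (okRing M) := by
    have : u = ∏ γ : Γ, z γ ^ (q - t) := funext fun v => by
      simp only [hudef, Finset.prod_apply, Pi.pow_apply]
    rw [this]
    exact prod_mem fun γ _ => pow_mem (hzok γ) _
  have huint : ∀ v, IsIntegral ℤ (u v) := fun v =>
    IsIntegral.prod _ fun γ _ => (hzint γ v).pow _
  have hun : ∀ v, u v * conj (u v) = 1 := fun v => by
    simp only [hudef, map_prod, map_pow, ← Finset.prod_mul_distrib, ← mul_pow, hzn, one_pow,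
      Finset.prod_const_one]
  have hustab : ∀ γ v, u (Φ γ v) * z γ v = u v := by
    intro γ v
    have hexp : e * (q - t) = q * (e - 1) + 1 := by
      have he1 : 1 ≤ e := Fintype.card_pos
      have htq : t ≤ q := by rw [← hVq]; nlinarith
      zify [htq, he1]
      have : (t : ℤ) * e + 1 = q := by exact_mod_cast hVq
      linear_combination -this
    have h1 : z γ v = ∏ _s : Γ, z γ v ^ (q - t) := by
      rw [Finset.prod_const, Finset.card_univ, ← pow_mul, mul_comm, ← he, hexp, pow_succ, pow_mul,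
        hzq, one_pow, one_mul]
    conv_lhs => rw [h1]
    simp only [hudef, ← Finset.prod_mul_distrib]
    refine Fintype.prod_equiv (Equiv.mulRight γ) _ _ fun s => ?_
    rw [Equiv.coe_mulRight, ← mul_pow]
    congr 1
    simp only [hzdef]
    rw [hΦmul]
    field_simp [hG0 v, hG0 (Φ γ v)]
  set H : κ → P → ℂ := fun s v => Gf s v * u v with hHdef
  have hHok : ∀ s, H s ∈ coeffRing (okRing M) := fun s => mul_mem (hok s) huok
  have hHstab : ∀ γ v, v ≠ 1 → ∀ s, H s (Φ γ v) = H s v := fun γ v hv s => by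
    simp only [hHdef]
    rw [(hzprop γ v hv).2 s, ← hustab γ v]
    ring
  have hHorth : ∀ v w, v ≠ 1 → w ≠ 1 →
      ∑ s, conj (H s v) * H s w = if ∃ γ : Γ, Φ γ v = w then (q : ℂ) else 0 := by
    intro v w hv hw
    split_ifs with h
    · obtain ⟨γ, rfl⟩ := h
      rw [← hnorm v hv]
      refine Finset.sum_congr rfl fun s _ => ?_
      rw [hHstab γ v hv s]
      simp only [hHdef, map_mul]
      linear_combination (Gf s v * conj (Gf s v)) * hun v
    · push Not at h
      have h2 := horth v w hv hw h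
      rw [Finset.sum_congr rfl (g := fun s => (conj (u v) * u w) * conj (Gf s v * conj (Gf s w)))
        fun s _ => by simp only [hHdef, map_mul, Complex.conj_conj]; ring, ← Finset.mul_sum,
        ← map_sum, h2, map_zero, mul_zero]
  -- the action on the nontrivial characters
  let X := {lam : P →* ℂˣ // lam ≠ 1}
  have hcomp : ∀ (γ : Γ) (lam : P →* ℂˣ), lam.comp (Φ γ).toMonoidHom = 1 → lam = 1 :=
    fun γ lam h => MonoidHom.ext fun v => by
      simpa using DFunLike.congr_fun h ((Φ γ).symm v)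
  letI actX : MulAction Γ X :=
    { smul := fun γ lam => ⟨lam.1.comp (Φ γ⁻¹).toMonoidHom, fun h => lam.2 (hcomp _ _ h)⟩
      one_smul := fun lam => Subtype.ext (MonoidHom.ext fun v => by
        show lam.1 (Φ 1⁻¹ v) = lam.1 v
        rw [inv_one, map_one]; rfl)
      mul_smul := fun γ δ lam => Subtype.ext (MonoidHom.ext fun v => by
        show lam.1 (Φ (γ * δ)⁻¹ v) = lam.1 (Φ δ⁻¹ (Φ γ⁻¹ v))
        rw [mul_inv_rev, hΦmul]) }
  have hfreeX : ∀ (γ : Γ) (lam : X), γ • lam = lam → γ = 1 := by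
    intro γ lam h
    by_contra hγ
    apply lam.2
    have h1 : ∀ v, lam.1 (Φ γ⁻¹ v * v⁻¹) = 1 := fun v => by
      have h2 : lam.1 (Φ γ⁻¹ v) = lam.1 v := DFunLike.congr_fun (congrArg Subtype.val h) v
      rw [map_mul, map_inv lam.1 v, h2, mul_inv_cancel]
    have hinj : Function.Injective fun v : P => Φ γ⁻¹ v * v⁻¹ := fun v w hvw => by
      by_contra hne'
      have hne1 : v * w⁻¹ ≠ 1 := fun h' => hne' (mul_inv_eq_one.1 h')
      refine hγ (inv_eq_one.1 (hfree γ⁻¹ _ hne1 ?_))
      rw [map_mul, map_inv (Φ γ⁻¹) w]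
      have h3 : Φ γ⁻¹ v * v⁻¹ = Φ γ⁻¹ w * w⁻¹ := hvw
      calc Φ γ⁻¹ v * (Φ γ⁻¹ w)⁻¹ = (Φ γ⁻¹ v * v⁻¹) * v * (Φ γ⁻¹ w)⁻¹ := by group
        _ = (Φ γ⁻¹ w * w⁻¹) * v * (Φ γ⁻¹ w)⁻¹ := by rw [h3]
        _ = (Φ γ⁻¹ w * (Φ γ⁻¹ w)⁻¹) * (v * w⁻¹) := by ac_rfl
        _ = v * w⁻¹ := by rw [mul_inv_cancel, one_mul]
    refine MonoidHom.ext fun x => ?_
    obtain ⟨v, rfl⟩ := (Finite.injective_iff_surjective.1 hinj) x
    exact h1 v
  obtain ⟨hcardX, hsumX⟩ := free_sum (Γ := Γ) (X := X) hfreeX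
  let ι := MulAction.orbitRel.Quotient Γ X
  have hι : Fintype.card ι = t := by
    have h1 : Fintype.card X + 1 = q := by
      have h := Fintype.card_subtype_compl (fun lam : P →* ℂˣ => lam = 1)
      rw [Fintype.card_subtype_eq, card_chars] at h
      show Fintype.card {lam : P →* ℂˣ // ¬ lam = 1} + 1 = q
      rw [h]; omega
    rw [hcardX, ← hVq, add_left_inj] at h1
    exact Nat.eq_of_mul_eq_mul_right Fintype.card_pos h1
  haveI : Nonempty ι := Fintype.card_pos_iff.1 (by omega)
  set δ : ι → P → ℂ := fun i v => (∑ γ : Γ, ch (γ • i.out).1 v) - (e : ℂ) with hδdef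
  have hδok : ∀ i, δ i ∈ coeffRing (okRing M) := fun i => by
    have : δ i = (∑ γ : Γ, ch (γ • i.out).1) - fun _ => (e : ℂ) := funext fun v => by
      simp [hδdef, Finset.sum_apply]
    rw [this]
    exact sub_mem (sum_mem fun γ _ => ch_mem _ _) (const_mem (natCast_mem _ e))
  have hδ1 : ∀ i, δ i 1 = 0 := fun i => by simp [hδdef, ch_map_one, he]
  have hchsmul : ∀ (γ : Γ) (lam : X) (v : P), ch (γ • lam).1 v = ch lam.1 (Φ γ⁻¹ v) :=
    fun _ _ _ => rfl
  have hδstab : ∀ i γ v, δ i (Φ γ v) = δ i v := fun i γ v => by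
    simp only [hδdef]
    congr 1
    refine Fintype.sum_equiv (Equiv.mulLeft γ⁻¹) _ _ fun s => ?_
    rw [Equiv.coe_mulLeft, hchsmul, hchsmul, ← hΦmul, mul_inv_rev, inv_inv]
  have hδint : ∀ i v, IsIntegral ℤ (δ i v) := fun i v =>
    (IsIntegral.sum _ fun γ _ => isIntegral_ch _ v).sub (isIntegral_natCast (R := ℤ) e)
  set c : ι → κ → ℂ := fun i s => (e : ℂ)⁻¹ * coeff (δ i * fun v => conj (H s v)) 1 with hcdef
  have hcsum : ∀ i s, (q : ℂ) * (e : ℂ) * c i s = ∑ v, δ i v * conj (H s v) := fun i s => by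
    simp only [hcdef, coeff, hom_inv_one, ch_one, mul_one, Pi.mul_apply, ← hq]
    field_simp
  have hcok : ∀ i s, c i s ∈ okRing M := fun i s => by
    refine mul_mem ⟨memLocalRing_inv_natCast hM hpe, mem_ratRing.2 ⟨(e : ℚ)⁻¹, by simp⟩⟩ ?_
    exact mul_mem (hδok i) (conj_mem (fun x hx => conj_okRing hx) (hHok s)) 1
  have hcInt : ∀ i s, ∃ n : ℤ, (n : ℂ) = c i s := fun i s => by
    refine exists_int_of_ok hM L (hcok i s) ?_
    rw [← hL, ← hq]
    set f : P → ℂ := fun v => δ i v * conj (H s v) with hf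
    have h1 : ∑ v, f v = ∑ v : V, f v.1 := by
      rw [← Finset.sum_subtype (Finset.univ.erase (1 : P)) (fun x => by simp [V]) f,
        Finset.sum_erase]
      simp [hf, hδ1]
    have h2 := hsumV (fun v => f v.1) fun γ v => by
      simp only [hf, hsmulV, hδstab, hHstab γ v.1 v.2]
    have h3 : (q : ℂ) * c i s = ∑ ω : MulAction.orbitRel.Quotient Γ V, f ω.out.1 :=
      mul_left_cancel₀ he0 (by rw [← h2, ← h1, ← mul_assoc, mul_comm (e : ℂ), hcsum])
    rw [h3]
    refine IsIntegral.sum _ fun ω _ => (hδint i _).mul ?_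
    exact map_isIntegral_int (starRingEnd ℂ) ((hint s _ ω.out.2).mul (huint _))
  choose n hn using hcInt
  have hgram : ∀ i j, ∑ s, n i s * n j s = (if i = j then 1 else 0) + (e : ℤ) := by
    intro i j
    rw [← Int.cast_inj (α := ℂ)]
    push_cast
    have hreal : ∀ s, c j s = conj (c j s) := fun s => by rw [← hn, map_intCast]
    rw [Finset.sum_congr rfl (g := fun s => c i s * conj (c j s)) fun s _ => by
      rw [← hreal, hn, hn]]
    have hexp : ((q : ℂ) * e) ^ 2 * ∑ s, c i s * conj (c j s) =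
        ∑ v, ∑ w, δ i v * conj (δ j w) * ∑ s, conj (H s v) * H s w := by
      rw [Finset.mul_sum]
      have h1 : ∀ s, ((q : ℂ) * e) ^ 2 * (c i s * conj (c j s)) =
          ∑ v, ∑ w, δ i v * conj (δ j w) * (conj (H s v) * H s w) := fun s => by
        have h2 := congrArg conj (hcsum j s)
        simp only [map_mul, Complex.conj_natCast, map_sum, Complex.conj_conj] at h2
        rw [show ((q : ℂ) * e) ^ 2 * (c i s * conj (c j s)) =
          ((q : ℂ) * e * c i s) * ((q : ℂ) * e * conj (c j s)) by ring, hcsum, h2,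
          Finset.sum_mul_sum]
        exact Finset.sum_congr rfl fun v _ => Finset.sum_congr rfl fun w _ => by ring
      rw [Finset.sum_congr rfl fun s _ => h1 s, Finset.sum_comm]
      refine Finset.sum_congr rfl fun v _ => ?_
      rw [Finset.sum_comm]
      exact Finset.sum_congr rfl fun w _ => (Finset.mul_sum _ _ _).symm
    have hinner : ∀ v, ∑ w, δ i v * conj (δ j w) * ∑ s, conj (H s v) * H s w =
        (q : ℂ) * e * (δ i v * conj (δ j v)) := by
      intro v
      rcases eq_or_ne v 1 with rfl | hv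
      · simp [hδ1]
      rw [← Finset.sum_subset (Finset.subset_univ (Finset.univ.image fun γ : Γ => Φ γ v))
        fun w _ hw => ?_, Finset.sum_image fun γ _ δ' _ h => ?_]
      · rw [Finset.sum_congr rfl (g := fun _ => (q : ℂ) * (δ i v * conj (δ j v))) fun γ _ => by
          have hw1 : Φ γ v ≠ 1 := fun h => hv ((Φ γ).injective (h.trans (map_one _).symm))
          rw [hHorth v _ hv hw1, if_pos ⟨γ, rfl⟩, hδstab]; ring]
        rw [Finset.sum_const, Finset.card_univ, nsmul_eq_mul, ← he]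
        ring
      · have h' : Φ (δ'⁻¹ * γ) v = v := by
          rw [hΦmul, h, ← hΦmul, inv_mul_cancel, map_one]; rfl
        exact (inv_mul_eq_one.1 (hfree _ v hv h')).symm
      · rcases eq_or_ne w 1 with rfl | hw1
        · simp [hδ1]
        rw [hHorth v w hv hw1, if_neg, mul_zero]
        rintro ⟨γ, rfl⟩
        exact hw (Finset.mem_image.2 ⟨γ, Finset.mem_univ _, rfl⟩)
    have hpair : ∑ v, δ i v * conj (δ j v) =
        (q : ℂ) * e * ((if i = j then 1 else 0) + (e : ℂ)) := by
      have hX0 : ∀ lam : X, ∑ v, ch lam.1 v = 0 := fun lam => by rw [sum_ch, if_neg lam.2]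
      have hpairs : ∀ a b : Γ, ∑ v, ch (a • i.out).1 v * conj (ch (b • j.out).1 v) =
          if i = j ∧ a = b then (q : ℂ) else 0 := fun a b => by
        rw [Finset.sum_congr rfl fun v _ => by rw [conj_ch, ← ch_mul], sum_ch]
        refine if_congr ?_ rfl rfl
        constructor
        · intro h
          have h' : a • i.out = b • j.out :=
            Subtype.ext (hom_mul_inv_eq_one.1 h)
          have hij : i = j := by
            rw [← Quotient.out_eq i, ← Quotient.out_eq j]
            refine Quotient.sound ⟨a⁻¹ * b, ?_⟩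
            show (a⁻¹ * b) • j.out = i.out
            rw [mul_smul, ← h', inv_smul_smul]
          subst hij
          exact ⟨rfl, (inv_mul_eq_one.1 (hfreeX (b⁻¹ * a) i.out
            (by rw [mul_smul, h', inv_smul_smul]))).symm⟩
        · rintro ⟨rfl, rfl⟩
          exact hom_mul_inv_eq_one.2 rfl
      have e1 : ∀ v, δ i v * conj (δ j v) =
          (∑ a : Γ, ∑ b : Γ, ch (a • i.out).1 v * conj (ch (b • j.out).1 v))
            - (e : ℂ) * (∑ a : Γ, ch (a • i.out).1 v)
            - (e : ℂ) * conj (∑ b : Γ, ch (b • j.out).1 v) + (e : ℂ) * e := fun v => by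
        rw [← Finset.sum_mul_sum, ← map_sum]
        simp only [hδdef, map_sub, Complex.conj_natCast]
        ring
      rw [Finset.sum_congr rfl fun v _ => e1 v, Finset.sum_add_distrib, Finset.sum_sub_distrib,
        Finset.sum_sub_distrib, ← Finset.mul_sum, ← Finset.mul_sum, ← map_sum, Finset.sum_comm,
        Finset.sum_congr rfl fun a _ => (Finset.sum_comm.trans
          (Finset.sum_congr rfl fun b _ => hpairs a b))]
      rw [Finset.sum_comm (f := fun (v : P) (a : Γ) => ch (a • i.out).1 v),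
        Finset.sum_comm (f := fun (v : P) (a : Γ) => ch (a • j.out).1 v)]
      simp only [hX0, Finset.sum_const_zero, map_zero, mul_zero, sub_zero, Finset.sum_const,
        Finset.card_univ, nsmul_eq_mul, ← hq]
      split_ifs with h
      · simp [h, ← he]; ring
      · simp [h]; ring
    have h9 : ((q : ℂ) * e) ^ 2 ≠ 0 := pow_ne_zero _ (mul_ne_zero hq0 he0)
    apply mul_left_cancel₀ h9
    rw [hexp, Finset.sum_congr rfl fun v _ => hinner v, ← Finset.mul_sum, hpair]
    ring
  have hcols : ∀ s, ∃ i, n i s ≠ 0 := by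
    intro s
    by_contra h
    push Not at h
    obtain ⟨w, hw, hGw⟩ := hne s
    set F : P → ℂ := fun v => if v = 1 then 0 else conj (H s v) with hF
    have hFstab : ∀ γ v, F (Φ γ v) = F v := fun γ v => by
      simp only [hF]
      by_cases hv : v = 1
      · simp [hv]
      · rw [if_neg hv, if_neg fun h' => hv ((Φ γ).injective (h'.trans (map_one _).symm)),
          hHstab γ v hv s]
    have hall : ∀ lam, coeff F lam = coeff F 1 := by
      intro lam
      rcases eq_or_ne lam 1 with rfl | hlam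
      · rfl
      have hlam' : lam⁻¹ ≠ 1 := hom_inv_ne_one hlam
      set i : ι := Quotient.mk'' (⟨lam⁻¹, hlam'⟩ : X) with hi
      obtain ⟨g, hg⟩ : (⟨lam⁻¹, hlam'⟩ : X) ∈ MulAction.orbit Γ i.out :=
        Quotient.exact (Quotient.out_eq i).symm
      have h1 := hcsum i s
      rw [← hn, h i, Int.cast_zero, mul_zero] at h1
      have h2 : ∑ v, δ i v * conj (H s v) = ∑ v, δ i v * F v :=
        Finset.sum_congr rfl fun v _ => by
          simp only [hF]
          split_ifs with hv
          · rw [hv, hδ1, zero_mul, zero_mul]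
          · rfl
      rw [h2] at h1
      simp only [hδdef, sub_mul, Finset.sum_sub_distrib, Finset.sum_mul] at h1
      rw [Finset.sum_comm, Finset.sum_congr rfl (g := fun _ => ∑ v, ch lam⁻¹ v * F v) fun γ _ => ?_,
        Finset.sum_const, Finset.card_univ, nsmul_eq_mul, ← he, ← Finset.mul_sum, ← mul_sub,
        eq_comm, mul_eq_zero] at h1
      · have h3 := sub_eq_zero.1 (h1.resolve_left he0)
        simp only [coeff, hom_inv_one, ch_one, mul_one]
        rw [← h3]
        congr 1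
        exact Finset.sum_congr rfl fun v _ => mul_comm _ _
      · refine Fintype.sum_equiv (Φ (g * γ⁻¹)).toEquiv _ _ fun v => ?_
        show ch (γ • i.out).1 v * F v = ch lam⁻¹ (Φ (g * γ⁻¹) v) * F (Φ (g * γ⁻¹) v)
        rw [hFstab, show ch lam⁻¹ = ch (⟨lam⁻¹, hlam'⟩ : X).1 from rfl,
          show (⟨lam⁻¹, hlam'⟩ : X) = g • i.out from hg.symm, hchsmul, hchsmul, ← hΦmul,
          inv_mul_cancel_left]
    have hFw : F w = 0 := by
      rw [inversion F w, Finset.sum_congr rfl fun lam _ => by rw [hall lam], ← Finset.mul_sum,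
        sum_chars, if_neg hw, mul_zero]
    simp only [hF, if_neg hw, hHdef, map_mul, mul_eq_zero, map_eq_zero] at hFw
    rcases hFw with h' | h'
    · exact hGw h'
    · exact one_ne_zero ((hun w).symm.trans (by rw [h', zero_mul]))
  obtain ⟨hle, hsmall, hshape⟩ := lattice_count n (Fintype.card_pos (α := Γ)) hgram hcols
  rw [hι] at hle hsmall hshape
  refine ⟨t, ht1, hVq, hle, fun h3 => ?_, fun hk => ?_⟩
  swap
  · obtain ⟨y, d, hy, hd1, hdn, hdy⟩ := hshape hk
    let en : Fin t ≃ ι := (Fintype.equivFinOfCardEq hι).symm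
    -- the values from the coefficients
    have hHval : ∀ v, v ≠ 1 → ∀ s, H s v =
        ∑ i : ι, (n i s : ℂ) * ∑ γ : Γ, ch (γ • i.out).1 v := by
      intro v hv s
      set F : P → ℂ := fun v => if v = 1 then 0 else conj (H s v) with hF
      have hFstab : ∀ γ v, F (Φ γ v) = F v := fun γ v => by
        simp only [hF]
        by_cases hv : v = 1
        · simp [hv]
        · rw [if_neg hv, if_neg fun h' => hv ((Φ γ).injective (h'.trans (map_one _).symm)),
            hHstab γ v hv s]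
      have hdiff : ∀ (x : X) , coeff F x.1⁻¹ - coeff F 1 = (n (Quotient.mk'' x) s : ℂ) := by
        intro x
        set i : ι := Quotient.mk'' x with hi
        obtain ⟨g, hg⟩ : x ∈ MulAction.orbit Γ i.out :=
          Quotient.exact (Quotient.out_eq i).symm
        have h1 := hcsum i s
        rw [← hn] at h1
        have h2 : ∑ v, δ i v * conj (H s v) = ∑ v, δ i v * F v :=
          Finset.sum_congr rfl fun v _ => by
            simp only [hF]
            split_ifs with hv
            · rw [hv, hδ1, zero_mul, zero_mul]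
            · rfl
        rw [h2] at h1
        simp only [hδdef, sub_mul, Finset.sum_sub_distrib, Finset.sum_mul] at h1
        rw [Finset.sum_comm, Finset.sum_congr rfl (g := fun _ => ∑ v, ch x.1 v * F v) fun γ _ => ?_,
          Finset.sum_const, Finset.card_univ, nsmul_eq_mul, ← he, ← Finset.mul_sum, ← mul_sub] at h1
        · simp only [coeff, hom_inv_inv, hom_inv_one, ch_one, mul_one, ← hq]
          rw [← mul_sub]
          refine mul_left_cancel₀ (mul_ne_zero he0 hq0) ?_
          rw [Finset.sum_congr rfl fun v _ => mul_comm (F v) (ch x.1 v)]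
          field_simp
          refine mul_left_cancel₀ he0 ?_; linear_combination -h1
        · refine Fintype.sum_equiv (Φ (g * γ⁻¹)).toEquiv _ _ fun v => ?_
          show ch (γ • i.out).1 v * F v = ch x.1 (Φ (g * γ⁻¹) v) * F (Φ (g * γ⁻¹) v)
          rw [hFstab, show x = g • i.out from hg.symm, hchsmul, hchsmul, ← hΦmul,
            inv_mul_cancel_left]
      have h3 : conj (H s v) = ∑ x : X, (n (Quotient.mk'' x) s : ℂ) * ch x.1⁻¹ v := by
        have h4 : F v = ∑ mu : P →* ℂˣ, (coeff F mu - coeff F 1) * ch mu v := by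
          simp only [sub_mul, Finset.sum_sub_distrib]
          rw [← inversion, ← Finset.mul_sum, sum_chars, if_neg hv, mul_zero, sub_zero]
        simp only [hF, if_neg hv] at h4
        rw [h4, ← Fintype.sum_equiv (Equiv.inv (P →* ℂˣ))
          (fun mu => (coeff F mu⁻¹ - coeff F 1) * ch mu⁻¹ v)
          (fun mu => (coeff F mu - coeff F 1) * ch mu v) fun mu => rfl,
          ← Finset.sum_subset (Finset.subset_univ ((Finset.univ : Finset (P →* ℂˣ)).erase 1))
            fun mu _ hmu => by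
              obtain rfl : mu = 1 := by simpa using hmu
              rw [hom_inv_one, sub_self, zero_mul],
          Finset.sum_subtype (p := fun mu : P →* ℂˣ => mu ≠ 1) _ (fun x => by simp)]
        exact Finset.sum_congr rfl fun x _ => by rw [hdiff]
      have h5 : H s v = ∑ x : X, (n (Quotient.mk'' x) s : ℂ) * ch x.1 v := by
        have h6 := congrArg conj h3
        rw [Complex.conj_conj, map_sum] at h6
        rw [h6]
        exact Finset.sum_congr rfl fun x _ => by
          rw [map_mul, map_intCast, conj_ch, hom_inv_inv]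
      rw [h5, ← Finset.sum_fiberwise_of_maps_to (g := fun x : X => (Quotient.mk'' x : ι))
        (t := Finset.univ) fun x _ => Finset.mem_univ _]
      refine Finset.sum_congr rfl fun i _ => ?_
      rw [Finset.mul_sum]
      have hmk : ∀ γ : Γ, (Quotient.mk'' (γ • i.out) : ι) = i := fun γ => by
        conv_rhs => rw [← Quotient.out_eq i]
        exact Quotient.sound ⟨γ, rfl⟩
      refine (Finset.sum_bij (fun γ _ => γ • i.out) (fun γ _ => by simp [hmk γ]) (fun a _ b _ h => ?_)
        (fun x hx => ?_) fun γ _ => by rw [hmk]).symm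
      · exact (inv_mul_eq_one.1 (hfreeX (b⁻¹ * a) i.out (by rw [mul_smul, h, inv_smul_smul]))).symm
      · obtain ⟨γ, hγ⟩ : x ∈ MulAction.orbit Γ i.out := by
          have h7 : (Quotient.mk'' x : ι) = i := (Finset.mem_filter.1 hx).2
          subst h7
          exact Quotient.exact (Quotient.out_eq (Quotient.mk'' x : ι)).symm
        exact ⟨γ, Finset.mem_univ _, hγ⟩
    have hO : ∀ (i : ι) v, ∑ γ : Γ, ch (γ • i.out).1 v = ∑ γ : Γ, ch i.out.1 (Φ γ v) := fun i v =>
      Fintype.sum_equiv (Equiv.inv Γ) _ _ fun γ => by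
        rw [hchsmul]; rfl
    have hall : ∀ v : P, v ≠ 1 → ∑ i : ι, ∑ γ : Γ, ch (γ • i.out).1 v = -1 := by
      intro v hv
      have h1 : ∑ x : X, ch x.1 v = -1 := by
        rw [← Finset.sum_subtype (p := fun mu : P →* ℂˣ => mu ≠ 1) ((Finset.univ : Finset _).erase 1)
          (fun x => by simp) (fun mu => ch mu v), Finset.sum_erase_eq_sub (Finset.mem_univ _),
          sum_chars, if_neg hv, ch_one, zero_sub]
      rw [← h1, ← Finset.sum_fiberwise_of_maps_to (g := fun x : X => (Quotient.mk'' x : ι))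
        (t := Finset.univ) fun x _ => Finset.mem_univ _]
      refine Finset.sum_congr rfl fun i _ => ?_
      have hmk : ∀ γ : Γ, (Quotient.mk'' (γ • i.out) : ι) = i := fun γ => by
        conv_rhs => rw [← Quotient.out_eq i]
        exact Quotient.sound ⟨γ, rfl⟩
      refine Finset.sum_bij (fun γ _ => γ • i.out) (fun γ _ => by simp [hmk γ]) (fun a _ b _ h => ?_)
        (fun x hx => ?_) fun γ _ => rfl
      · exact (inv_mul_eq_one.1 (hfreeX (b⁻¹ * a) i.out (by rw [mul_smul, h, inv_smul_smul]))).symm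
      · obtain ⟨γ, hγ⟩ : x ∈ MulAction.orbit Γ i.out := by
          have h7 : (Quotient.mk'' x : ι) = i := (Finset.mem_filter.1 hx).2
          subst h7
          exact Quotient.exact (Quotient.out_eq (Quotient.mk'' x : ι)).symm
        exact ⟨γ, Finset.mem_univ _, hγ⟩
    let d' : κ → ℤ := fun s => if ∃ i, s = y i then d s else -d s
    refine ⟨u, fun k => y (en k), d', fun k => (en k).out.1, fun a b h => en.injective (hy h),
      huint, hun, fun s => ?_, fun k => (en k).out.2, fun mu hmu => ?_, fun v hv => ⟨fun s hs => ?_,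
      fun k => ?_⟩⟩
    · simp only [d']
      split_ifs <;> linear_combination hd1 s
    · obtain ⟨γ, hγ⟩ : (⟨mu, hmu⟩ : X) ∈ MulAction.orbit Γ (Quotient.mk'' (⟨mu, hmu⟩ : X) : ι).out :=
        Quotient.exact (Quotient.out_eq (Quotient.mk'' (⟨mu, hmu⟩ : X) : ι)).symm
      refine ⟨en.symm (Quotient.mk'' (⟨mu, hmu⟩ : X)), γ⁻¹, fun v => ?_⟩
      simp only [Equiv.apply_symm_apply]
      conv_lhs => rw [show mu = (γ • (Quotient.mk'' (⟨mu, hmu⟩ : X) : ι).out).1 from
        (congrArg Subtype.val hγ).symm, hchsmul]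
    · have hs' : ∀ i, s ≠ y i := fun i h => hs (en.symm i) (by simpa using h)
      show H s v = _
      rw [hHval v hv s, Finset.sum_congr rfl fun i _ => by rw [hdn i s hs'], ← Finset.mul_sum,
        hall v hv]
      rw [show d' s = -d s from if_neg (by rintro ⟨i, hi⟩; exact hs' i hi)]
      push_cast
      ring
    · show H (y (en k)) v = _
      rw [hHval v hv, Finset.sum_eq_single (en k), hdy, if_pos rfl, hO]
      · rw [show d' (y (en k)) = d (y (en k)) from if_pos ⟨_, rfl⟩]
      · intro i _ hi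
        rw [hdy, if_neg (Ne.symm hi), Int.cast_zero, zero_mul]
      · exact fun h => absurd (Finset.mem_univ _) h
  rcases hsmall h3 with h | h | ⟨h, h', h''⟩ | ⟨h, h'⟩
  · exact Or.inl h
  · exact Or.inr (Or.inl h)
  · exact Or.inr (Or.inr (Or.inl ⟨h, h', by rw [← hVq]; exact h''⟩))
  · refine Or.inr (Or.inr (Or.inr ?_))
    rw [← hVq, h', ← he]
    omega

end Cfsg.Agent.Lib.FreeQuot
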