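import Cfsg.Agent.Lib.Blocks.LocalRing
import Mathlib.GroupTheory.FiniteAbelian.Duality
import Mathlib.NumberTheory.Basic
import Mathlib.Algebra.CharP.Lemmas
import Mathlib.RingTheory.RootsOfUnity.Complex
import Mathlib.RingTheory.RootsOfUnity.AlgebraicallyClosed
import Mathlib.Analysis.Complex.Polynomial.Basic

/-!
# Functions on a finite abelian `p`-group with local rational Fourier coefficients
-/

set_option autoImplicit false
set_option linter.unusedSectionVars false
set_option linter.style.haveILetI false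

namespace Cfsg.Agent.Lib.FreeQuot

open Cfsg Cfsg.Agent.Lib.Blocks
open scoped ComplexConjugate Classical

universe u

variable {P : Type u} [CommGroup P] [Fintype P] [Fintype (P →* ℂˣ)]

/-- The value of a linear character. -/
def ch (lam : P →* ℂˣ) (v : P) : ℂ := ((lam v : ℂˣ) : ℂ)

theorem ch_one (v : P) : ch (1 : P →* ℂˣ) v = 1 := rfl

theorem ch_mul (lam mu : P →* ℂˣ) (v : P) : ch (lam * mu) v = ch lam v * ch mu v := rfl

theorem ch_inv (lam : P →* ℂˣ) (v : P) : ch lam⁻¹ v = (ch lam v)⁻¹ := by simp [ch]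

theorem ch_map_one (lam : P →* ℂˣ) : ch lam 1 = 1 := by simp [ch]

theorem ch_map_mul (lam : P →* ℂˣ) (v w : P) : ch lam (v * w) = ch lam v * ch lam w := by simp [ch]

theorem ch_map_inv (lam : P →* ℂˣ) (v : P) : ch lam v⁻¹ = (ch lam v)⁻¹ := by simp [ch]

theorem ch_ne_zero (lam : P →* ℂˣ) (v : P) : ch lam v ≠ 0 := Units.ne_zero _

theorem ch_pow_card (lam : P →* ℂˣ) (v : P) : ch lam v ^ Fintype.card P = 1 := by
  rw [ch, ← Units.val_pow_eq_pow_val, ← map_pow, pow_card_eq_one, map_one, Units.val_one]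

theorem conj_ch (lam : P →* ℂˣ) (v : P) : conj (ch lam v) = ch lam⁻¹ v := by
  rw [ch_inv, Complex.inv_eq_conj]
  exact Complex.norm_eq_one_of_pow_eq_one (ch_pow_card lam v) Fintype.card_ne_zero

theorem isIntegral_ch (lam : P →* ℂˣ) (v : P) : IsIntegral ℤ (ch lam v) :=
  IsIntegral.of_pow Fintype.card_pos (by rw [ch_pow_card]; exact isIntegral_one)

theorem sum_ch (lam : P →* ℂˣ) :
    ∑ v : P, ch lam v = if lam = 1 then (Fintype.card P : ℂ) else 0 := by
  split_ifs with h
  · simp [h, ch_one]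
  · obtain ⟨g, hg⟩ : ∃ g, lam g ≠ 1 := by
      by_contra hc
      push Not at hc
      exact h (MonoidHom.ext fun g => by simpa using hc g)
    have h1 : ch lam g * ∑ x : P, ch lam x = ∑ x : P, ch lam x := by
      rw [Finset.mul_sum]
      exact Fintype.sum_equiv (Equiv.mulLeft g) _ _ fun x => (ch_map_mul lam g x).symm
    have h2 : (ch lam g - 1) * ∑ x : P, ch lam x = 0 := by rw [sub_mul, h1, one_mul, sub_self]
    exact (mul_eq_zero.mp h2).resolve_left (sub_ne_zero.mpr fun h => hg (Units.ext h))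

theorem card_chars : Fintype.card (P →* ℂˣ) = Fintype.card P := by
  obtain ⟨φ⟩ := CommGroup.monoidHom_mulEquiv_of_hasEnoughRootsOfUnity P ℂ
  exact Fintype.card_congr φ.toEquiv

theorem sum_chars (v : P) :
    ∑ lam : P →* ℂˣ, ch lam v = if v = 1 then (Fintype.card P : ℂ) else 0 := by
  split_ifs with h
  · simp [h, ch_map_one, card_chars]
  · obtain ⟨φ, hφ⟩ := CommGroup.exists_apply_ne_one_of_hasEnoughRootsOfUnity P ℂ h
    have h1 : ch φ v * ∑ lam : P →* ℂˣ, ch lam v = ∑ lam : P →* ℂˣ, ch lam v := by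
      rw [Finset.mul_sum]
      exact Fintype.sum_equiv (Equiv.mulLeft φ) _ _ fun lam => (ch_mul φ lam v).symm
    have h2 : (ch φ v - 1) * ∑ lam : P →* ℂˣ, ch lam v = 0 := by rw [sub_mul, h1, one_mul, sub_self]
    exact (mul_eq_zero.mp h2).resolve_left (sub_ne_zero.mpr fun h => hφ (Units.ext h))

/-- The Fourier coefficient. -/
noncomputable def coeff (f : P → ℂ) (lam : P →* ℂˣ) : ℂ :=
  (Fintype.card P : ℂ)⁻¹ * ∑ v, f v * ch lam⁻¹ v

theorem card_ne_zeroC : (Fintype.card P : ℂ) ≠ 0 := Nat.cast_ne_zero.2 Fintype.card_ne_zero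

theorem inversion (f : P → ℂ) (v : P) : f v = ∑ lam : P →* ℂˣ, coeff f lam * ch lam v := by
  classical
  simp only [coeff, Finset.mul_sum, Finset.sum_mul]
  rw [Finset.sum_comm, Finset.sum_eq_single v]
  · rw [Finset.sum_congr rfl (g := fun _ => (Fintype.card P : ℂ)⁻¹ * f v) fun lam _ => by
      rw [ch_inv]; have := ch_ne_zero lam v; field_simp]
    rw [Finset.sum_const, Finset.card_univ, card_chars, nsmul_eq_mul, ← mul_assoc,
      mul_inv_cancel₀ card_ne_zeroC, one_mul]
  · intro w _ hw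
    rw [Finset.sum_congr rfl (g := fun lam => ((Fintype.card P : ℂ)⁻¹ * f w) * ch lam (v * w⁻¹))
      fun lam _ => by rw [ch_map_mul, ch_map_inv, ch_inv]; ring]
    rw [← Finset.mul_sum, sum_chars, if_neg (fun h => hw (mul_inv_eq_one.1 h).symm), mul_zero]
  · simp

theorem coeff_add (f g : P → ℂ) (lam : P →* ℂˣ) :
    coeff (f + g) lam = coeff f lam + coeff g lam := by
  simp only [coeff, Pi.add_apply, add_mul, Finset.sum_add_distrib, mul_add]

theorem coeff_neg (f : P → ℂ) (lam : P →* ℂˣ) : coeff (-f) lam = - coeff f lam := by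
  simp [coeff, Finset.sum_neg_distrib]

theorem coeff_smul (c : ℂ) (f : P → ℂ) (lam : P →* ℂˣ) :
    coeff (fun v => c * f v) lam = c * coeff f lam := by
  simp only [coeff, Finset.mul_sum]
  exact Finset.sum_congr rfl fun v _ => by ring

open scoped Classical in
theorem coeff_ch (mu lam : P →* ℂˣ) : coeff (ch mu) lam = if mu = lam then 1 else 0 := by
  rw [coeff, Finset.sum_congr rfl fun v _ => (ch_mul mu lam⁻¹ v).symm, sum_ch]
  by_cases h : mu = lam
  · rw [h, if_pos (mul_inv_cancel lam), if_pos rfl]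
    exact inv_mul_cancel₀ card_ne_zeroC
  · rw [if_neg h, if_neg fun h' => h ((mul_inv_eq_one (G := P →* ℂˣ)).1 h'), mul_zero]

theorem coeff_mul (f g : P → ℂ) (lam : P →* ℂˣ) :
    coeff (f * g) lam = ∑ mu : P →* ℂˣ, coeff f mu * coeff g (lam * mu⁻¹) := by
  rw [coeff]
  simp only [Pi.mul_apply]
  rw [Finset.sum_congr rfl (g := fun v => ∑ mu : P →* ℂˣ, coeff f mu * (g v * ch (lam * mu⁻¹)⁻¹ v))
    fun v _ => by
      rw [inversion f v, Finset.sum_mul, Finset.sum_mul]
      refine Finset.sum_congr rfl fun mu _ => ?_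
      rw [ch_inv (lam * mu⁻¹), ch_mul, ch_inv, ch_inv, mul_inv, inv_inv]; ring]
  rw [Finset.sum_comm, Finset.mul_sum]
  refine Finset.sum_congr rfl fun mu _ => ?_
  rw [coeff, coeff, ← Finset.mul_sum]
  ring

/-- Functions whose coefficients lie in a subring. -/
def coeffRing (S : Subring ℂ) : Subring (P → ℂ) where
  carrier := {f | ∀ lam, coeff f lam ∈ S}
  mul_mem' := fun {f g} hf hg lam => by
    rw [coeff_mul]
    exact sum_mem fun mu _ => mul_mem (hf mu) (hg _)
  one_mem' := fun lam => by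
    classical
    rw [show (1 : P → ℂ) = ch (1 : P →* ℂˣ) from rfl, coeff_ch]
    split_ifs
    exacts [one_mem _, zero_mem _]
  add_mem' := fun {f g} hf hg lam => by rw [coeff_add]; exact add_mem (hf lam) (hg lam)
  zero_mem' := fun lam => by simp [coeff]
  neg_mem' := fun {f} hf lam => by rw [coeff_neg]; exact neg_mem (hf lam)

theorem mem_coeffRing {S : Subring ℂ} {f : P → ℂ} : f ∈ coeffRing S ↔ ∀ lam, coeff f lam ∈ S :=
  Iff.rfl

theorem ch_mem (S : Subring ℂ) (mu : P →* ℂˣ) : ch mu ∈ coeffRing S := fun lam => by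
  classical
  rw [coeff_ch]
  split_ifs
  exacts [one_mem _, zero_mem _]

theorem const_mem {S : Subring ℂ} {c : ℂ} (hc : c ∈ S) : (fun _ : P => c) ∈ coeffRing S := fun lam => by
  classical
  rw [show (fun _ : P => c) = fun v => c * ch (1 : P →* ℂˣ) v from funext fun v => by rw [ch_one, mul_one],
    coeff_smul, coeff_ch]
  exact mul_mem hc (by split_ifs; exacts [one_mem _, zero_mem _])

theorem comp_mem {S : Subring ℂ} {f : P → ℂ} (hf : f ∈ coeffRing S) (γ : P ≃* P) :
    (fun v => f (γ v)) ∈ coeffRing S := fun lam => by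
  have h : coeff (fun v => f (γ v)) lam = coeff f (lam.comp γ.symm.toMonoidHom) := by
    simp only [coeff]
    congr 1
    refine Fintype.sum_equiv γ.toEquiv _ _ fun v => ?_
    simp [ch]
  rw [h]
  exact hf _

theorem coeff_conj (f : P → ℂ) (lam : P →* ℂˣ) :
    coeff (fun v => conj (f v)) lam = conj (coeff f lam⁻¹) := by
  simp only [coeff, map_mul, map_inv₀, Complex.conj_natCast, map_sum, conj_ch]
  exact congrArg (fun l : P →* ℂˣ => (Fintype.card P : ℂ)⁻¹ * ∑ x, conj (f x) * ch l x)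
    (inv_inv lam⁻¹).symm

theorem conj_mem {S : Subring ℂ} (hS : ∀ x ∈ S, conj x = x) {f : P → ℂ} (hf : f ∈ coeffRing S) :
    (fun v => conj (f v)) ∈ coeffRing S := fun lam => by
  rw [coeff_conj, hS _ (hf _)]
  exact hf _

theorem eq_zero_of_coeff {f : P → ℂ} (h : ∀ lam, coeff f lam = 0) : f = 0 :=
  funext fun v => by rw [inversion f v]; simp [h]

/-! ### Rational coefficients -/

/-- The rational numbers inside `ℂ`. -/
noncomputable def ratRing : Subring ℂ := (Rat.castHom ℂ).range

theorem mem_ratRing {x : ℂ} : x ∈ ratRing ↔ ∃ r : ℚ, (r : ℂ) = x := RingHom.mem_range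

theorem inv_mem_ratRing {f : P → ℂ} (hf : f ∈ coeffRing ratRing) (hne : ∀ v, f v ≠ 0) :
    (fun v => (f v)⁻¹) ∈ coeffRing ratRing := by
  classical
  have hr : ∀ lam, ∃ r : ℚ, (r : ℂ) = coeff f lam := fun lam => mem_ratRing.1 (hf lam)
  choose r hr using hr
  let T : ((P →* ℂˣ) → ℚ) →ₗ[ℚ] ((P →* ℂˣ) → ℚ) :=
    { toFun := fun a lam => ∑ mu, r (lam * mu⁻¹) * a mu
      map_add' := fun a b => funext fun lam => by simp [mul_add, Finset.sum_add_distrib]
      map_smul' := fun c a => funext fun lam => by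
        simp [Finset.mul_sum, mul_left_comm] }
  set syn : ((P →* ℂˣ) → ℚ) → P → ℂ := fun a v => ∑ mu, (a mu : ℂ) * ch mu v with hsyn
  have hco : ∀ a lam, coeff (syn a) lam = (a lam : ℂ) := fun a lam => by
    have h1 : coeff (syn a) lam = ∑ mu, (a mu : ℂ) * coeff (ch mu) lam := by
      simp only [coeff, hsyn, Finset.sum_mul, Finset.mul_sum]
      rw [Finset.sum_comm]
      exact Finset.sum_congr rfl fun mu _ => Finset.sum_congr rfl fun v _ => by ring
    rw [h1, Finset.sum_congr rfl fun mu _ => by rw [coeff_ch]]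
    simp
  have hT : ∀ a lam, ((T a lam : ℚ) : ℂ) = coeff (syn a * f) lam := fun a lam => by
    rw [coeff_mul]
    show ((∑ mu, r (lam * mu⁻¹) * a mu : ℚ) : ℂ) = _
    push_cast
    exact Finset.sum_congr rfl fun mu _ => by rw [hr, hco, mul_comm]
  have hinj : Function.Injective T := by
    refine (injective_iff_map_eq_zero T).2 fun a ha => ?_
    have h0 : syn a * f = 0 := eq_zero_of_coeff fun lam => by rw [← hT, ha]; simp
    have h1 : syn a = 0 := funext fun v => by
      simpa [hne v] using congrFun h0 v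
    funext lam
    have h2 := hco a lam
    rw [h1] at h2
    simpa [coeff] using h2.symm
  obtain ⟨a, ha⟩ := LinearMap.surjective_of_injective hinj (fun lam => if lam = 1 then 1 else 0)
  have h1 : syn a * f = fun _ => 1 := by
    rw [show (fun _ : P => (1 : ℂ)) = ch (1 : P →* ℂˣ) from rfl, ← sub_eq_zero]
    refine eq_zero_of_coeff fun lam => ?_
    rw [sub_eq_add_neg, coeff_add, coeff_neg, ← hT, ha, coeff_ch]
    rcases eq_or_ne lam 1 with h | h
    · simp [h]
    · simp [h, Ne.symm h]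
  have h2 : (fun v => (f v)⁻¹) = syn a := funext fun v => by
    exact (eq_inv_of_mul_eq_one_left (congrFun h1 v)).symm
  intro lam
  rw [h2, hco]
  exact mem_ratRing.2 ⟨_, rfl⟩

/-! ### Local coefficients -/

variable {M : Ideal AlgInt} [hMp : M.IsPrime] {p : ℕ}

theorem memLocalRing_ch (lam : P →* ℂˣ) (v : P) : MemLocalRing M (ch lam v) :=
  memLocalRing_of_isIntegral' (isIntegral_ch lam v)

theorem memLocalRing_apply {f : P → ℂ} (hf : f ∈ coeffRing (locSubring M)) (v : P) :
    MemLocalRing M (f v) := by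
  rw [inversion f v]
  exact (locSubring M).sum_mem fun lam _ => (locSubring M).mul_mem (hf lam) (memLocalRing_ch lam v)

theorem mem_of_card_mul {h : P → ℂ} (hh : ∀ v, MemLocalRing M (h v)) :
    (fun v => (Fintype.card P : ℂ) * h v) ∈ coeffRing (locSubring M) := fun lam => by
  rw [coeff_smul, coeff, ← mul_assoc, mul_inv_cancel₀ card_ne_zeroC, one_mul]
  exact (locSubring M).sum_mem fun v _ => (locSubring M).mul_mem (hh v) (memLocalRing_ch _ v)

theorem freshman {R : Type*} [CommRing R] (hp : p.Prime) (n : ℕ) {ι : Type*} (s : Finset ι)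
    (g : ι → R) : (p : R) ∣ (∑ i ∈ s, g i) ^ p ^ n - ∑ i ∈ s, g i ^ p ^ n := by
  classical
  induction s using Finset.induction_on with
  | empty => simp [zero_pow (pow_ne_zero _ hp.ne_zero)]
  | insert a s ha ih =>
    rw [Finset.sum_insert ha, Finset.sum_insert ha]
    obtain ⟨r, hr⟩ := (Commute.all (g a) (∑ i ∈ s, g i)).exists_add_pow_prime_pow_eq hp n
    obtain ⟨w, hw⟩ := ih
    refine ⟨g a * (∑ i ∈ s, g i) * r + w, ?_⟩
    rw [hr]
    linear_combination hw

/-- A unit at `1` is a unit everywhere and its inverse has local coefficients. -/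
theorem inv_mem_locRing (hM : IsPModular p M) (hP : IsPGroup p P) {f : P → ℂ}
    (hf : f ∈ coeffRing (locSubring M)) (h1 : ¬ MemLocalIdeal M (f 1)) :
    (∀ v, ¬ MemLocalIdeal M (f v)) ∧ (fun v => (f v)⁻¹) ∈ coeffRing (locSubring M) := by
  classical
  haveI := Fact.mk hM.1
  obtain ⟨L, hL⟩ := IsPGroup.iff_card.1 hP
  rw [Nat.card_eq_fintype_card] at hL
  let R := coeffRing (P := P) (locSubring M)
  let F : R := ⟨f, hf⟩
  let term : (P →* ℂˣ) → R := fun lam =>
    ⟨fun _ => coeff f lam, const_mem (hf lam)⟩ * ⟨ch lam, ch_mem _ lam⟩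
  have hF : F = ∑ lam, term lam := Subtype.ext (funext fun v => by
    rw [AddSubmonoidClass.coe_finsetSum, Finset.sum_apply]
    exact inversion f v)
  set K : ℂ := ∑ lam : P →* ℂˣ, coeff f lam ^ p ^ L with hK
  have hKmem : MemLocalRing M K := (locSubring M).sum_mem fun lam _ => (locSubring M).pow_mem (hf lam) _
  let KR : R := ⟨fun _ => K, const_mem hKmem⟩
  have hdvd : (p : R) ∣ F ^ p ^ L - KR := by
    have h := freshman (R := R) (p := p) hM.1 L Finset.univ term
    rw [← hF] at h
    convert h using 2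
    refine Subtype.ext (funext fun v => ?_)
    rw [AddSubmonoidClass.coe_finsetSum, Finset.sum_apply]
    show K = ∑ lam, (coeff f lam * ch lam v) ^ p ^ L
    refine Finset.sum_congr rfl fun lam _ => ?_
    rw [mul_pow, ← hL, ch_pow_card, mul_one]
  have hpt : ∀ v, MemLocalIdeal M (f v ^ p ^ L - K) := fun v => by
    obtain ⟨w, hw⟩ := hdvd
    have h := congrFun (congrArg Subtype.val hw) v
    simp only [AddSubgroupClass.coe_sub, SubmonoidClass.coe_pow, Subring.coe_mul, Pi.sub_apply, Pi.pow_apply,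
      Pi.mul_apply] at h
    rw [show (((p : R) : P → ℂ) v) = (p : ℂ) by simp] at h
    show MemLocalIdeal M ((F : P → ℂ) v ^ p ^ L - (KR : P → ℂ) v)
    rw [h]
    exact memLocalIdeal_mul_right ((memLocalIdeal_natCast_iff hM p).2 dvd_rfl)
      (memLocalRing_apply w.2 v)
  have hnp : ∀ {x : ℂ} (n : ℕ), MemLocalRing M x → ¬ MemLocalIdeal M x →
      ¬ MemLocalIdeal M (x ^ n) := by
    intro x n hx hx'
    induction n with
    | zero => rw [pow_zero]; exact not_memLocalIdeal_one
    | succ n ih => rw [pow_succ]; exact not_memLocalIdeal_mul ((locSubring M).pow_mem hx n) hx ih hx'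
  have hKu : ¬ MemLocalIdeal M K := fun hK' => by
    have := memLocalIdeal_add (hpt 1) hK'
    rw [sub_add_cancel] at this
    exact hnp _ (memLocalRing_apply hf 1) h1 this
  have hunit : ∀ v, ¬ MemLocalIdeal M (f v) := fun v hv => by
    have h0 : MemLocalIdeal M (f v ^ p ^ L) := by
      obtain ⟨n, hn⟩ := Nat.exists_eq_succ_of_ne_zero (pow_ne_zero L hM.1.ne_zero)
      rw [hn, pow_succ']
      exact memLocalIdeal_mul_right hv ((locSubring M).pow_mem (memLocalRing_apply hf v) n)
    have := memLocalIdeal_sub h0 (hpt v)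
    rw [sub_sub_cancel] at this
    exact hKu this
  refine ⟨hunit, ?_⟩
  -- raise to a power congruent to a constant modulo the order
  obtain ⟨w, hw⟩ := dvd_sub_pow_of_dvd_sub hdvd L
  set N := p ^ L * p ^ L with hN
  set K' := K ^ p ^ L with hK'
  have hN1 : 1 ≤ N := Nat.one_le_iff_ne_zero.2 (by simp [hN, hM.1.ne_zero])
  let h : P → ℂ := fun v => (p : ℂ) * (w : P → ℂ) v
  have hFN : ∀ v, f v ^ N = K' + (Fintype.card P : ℂ) * h v := fun v => by
    have := congrFun (congrArg Subtype.val hw) v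
    simp only [AddSubgroupClass.coe_sub, SubmonoidClass.coe_pow, Subring.coe_mul, Pi.sub_apply, Pi.pow_apply,
      Pi.mul_apply] at this
    rw [show (((p : R) : P → ℂ) v) = (p : ℂ) by simp] at this
    rw [hN, pow_mul, hK', hL]
    have h' : (f v ^ p ^ L) ^ p ^ L - K ^ p ^ L = (p : ℂ) ^ (L + 1) * (w : P → ℂ) v := this
    push_cast
    simp only [h]
    linear_combination h'
  have hK'u : ¬ MemLocalIdeal M K' := hnp _ hKmem hKu
  have hK'R : MemLocalRing M K' := (locSubring M).pow_mem hKmem _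
  have hK'0 : K' ≠ 0 := fun h0 => hK'u (by rw [h0]; exact memLocalIdeal_zero)
  have hf0 : ∀ v, f v ≠ 0 := fun v h0 => hunit v (by rw [h0]; exact memLocalIdeal_zero)
  have hfNu : ∀ v, MemLocalRing M (f v ^ N)⁻¹ := fun v =>
    memLocalRing_inv ((locSubring M).pow_mem (memLocalRing_apply hf v) N)
      (hnp _ (memLocalRing_apply hf v) (hunit v))
  have hG : (fun v => (f v ^ N)⁻¹) ∈ coeffRing (locSubring M) := by
    have e : (fun v => (f v ^ N)⁻¹) = (fun _ => K'⁻¹) +
        fun v => (Fintype.card P : ℂ) * (-(h v) * K'⁻¹ * (f v ^ N)⁻¹) := funext fun v => by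
      have h3 : f v ^ N ≠ 0 := pow_ne_zero _ (hf0 v)
      simp only [Pi.add_apply]
      field_simp
      linear_combination -(hFN v)
    rw [e]
    refine add_mem (const_mem (memLocalRing_inv hK'R hK'u)) (mem_of_card_mul fun v => ?_)
    exact (locSubring M).mul_mem ((locSubring M).mul_mem ((locSubring M).neg_mem
      ((locSubring M).mul_mem (memLocalRing_natCast p) (memLocalRing_apply w.2 v)))
      (memLocalRing_inv hK'R hK'u)) (hfNu v)
  have e : (fun v => (f v)⁻¹) = f ^ (N - 1) * fun v => (f v ^ N)⁻¹ := funext fun v => by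
    simp only [Pi.mul_apply, Pi.pow_apply]
    have h3 := hf0 v
    conv_rhs => arg 2; rw [show N = N - 1 + 1 by omega, pow_succ]
    field_simp
  rw [e]
  exact mul_mem (pow_mem hf _) hG

/-! ### Both -/

/-- Rational numbers local at `M`. -/
noncomputable def okRing (M : Ideal AlgInt) [M.IsPrime] : Subring ℂ := locSubring M ⊓ ratRing

theorem mem_okRing_iff {f : P → ℂ} :
    f ∈ coeffRing (okRing M) ↔ f ∈ coeffRing (locSubring M) ∧ f ∈ coeffRing ratRing :=
  ⟨fun h => ⟨fun lam => (h lam).1, fun lam => (h lam).2⟩, fun h lam => ⟨h.1 lam, h.2 lam⟩⟩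

theorem conj_okRing {x : ℂ} (hx : x ∈ okRing M) : conj x = x := by
  obtain ⟨r, rfl⟩ := mem_ratRing.1 hx.2
  simp

/-- The units among the functions with local rational coefficients. -/
theorem inv_mem_okRing (hM : IsPModular p M) (hP : IsPGroup p P) {f : P → ℂ}
    (hf : f ∈ coeffRing (okRing M)) (h1 : ¬ MemLocalIdeal M (f 1)) :
    (∀ v, ¬ MemLocalIdeal M (f v)) ∧ (fun v => (f v)⁻¹) ∈ coeffRing (okRing M) := by
  obtain ⟨hu, hinv⟩ := inv_mem_locRing hM hP (mem_okRing_iff.1 hf).1 h1
  exact ⟨hu, mem_okRing_iff.2 ⟨hinv, inv_mem_ratRing (mem_okRing_iff.1 hf).2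
    fun v h0 => hu v (by rw [h0]; exact memLocalIdeal_zero)⟩⟩

end Cfsg.Agent.Lib.FreeQuot
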