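import Cfsg.Agent.Lib.FreeQuot.Table
import Cfsg.Agent.Lib.FreeQuot.Nice
import Cfsg.Agent.Lib.KleinIsometry.Subsection

/-!
# Perfect isometries from tables
-/

set_option autoImplicit false
set_option linter.unusedSectionVars false
set_option linter.style.haveILetI false

namespace Cfsg.Agent.Lib.FreeQuot

open Cfsg Cfsg.Agent.Lib.Blocks Cfsg.Agent.Lib.Characters Cfsg.Agent.Lib.BlockHeights
open scoped ComplexConjugate

universe u v w

section Map

variable {A : Type v} [Group A] {A' : Type w} [Group A'] (θ : A ≃* A')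

/-- The induced isomorphism of the automorphism groups. -/
def autCongr : MulAut A ≃* MulAut A' where
  toFun f := (θ.symm.trans f).trans θ
  invFun f := (θ.trans f).trans θ.symm
  left_inv f := by ext; simp
  right_inv f := by ext; simp
  map_mul' f g := by ext; simp [MulAut.mul_apply]

theorem autCongr_apply (f : MulAut A) (a : A') : autCongr θ f a = θ (f (θ.symm a)) := rfl

theorem orbSum_map (Γ : Subgroup (MulAut A)) (lam : A →* ℂˣ) (a : A') :
    orbSum (Γ.map (autCongr θ).toMonoidHom) (lam.comp θ.symm.toMonoidHom) a =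
      orbSum Γ lam (θ.symm a) := by
  rw [orbSum, orbSum]
  refine (finsum_eq_of_bijective (Γ.equivMapOfInjective _ (autCongr θ).injective)
    (MulEquiv.bijective _) fun γ => ?_).symm
  show _ = ((lam (θ.symm (autCongr θ (γ : MulAut A) a)) : ℂˣ) : ℂ)
  simp [autCongr_apply]

theorem isTable_map {G : Type u} [Group G] {M : Ideal AlgInt} {p : ℕ} {B : Set (IrrCharacter G)}
    {Γ : Subgroup (MulAut A)} (h : IsTable M p B Γ) :
    IsTable M p B (Γ.map (autCongr θ).toMonoidHom) := by
  obtain ⟨t, y, σ, lam, h1, h2, hy, hyB, hσ, hlam, hcov, hreg, hsing⟩ := h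
  have hc : Nat.card (Γ.map (autCongr θ).toMonoidHom) = Nat.card Γ :=
    Subgroup.card_map_of_injective (autCongr θ).injective
  have hA : Nat.card A' = Nat.card A := Nat.card_congr θ.symm.toEquiv
  have hval : ∀ χ a, tableVal (Γ.map (autCongr θ).toMonoidHom) y
      (fun i => (lam i).comp θ.symm.toMonoidHom) χ a = tableVal Γ y lam χ (θ.symm a) := by
    intro χ a
    by_cases hi : ∃ i, y i = χ
    · obtain ⟨i, rfl⟩ := hi
      rw [tableVal_apply _ hy, tableVal_apply _ hy, orbSum_map]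
    · rw [tableVal_of_not _ _ _ fun i h => hi ⟨i, h.symm⟩,
        tableVal_of_not _ _ _ fun i h => hi ⟨i, h.symm⟩]
  refine ⟨t, y, σ, fun i => (lam i).comp θ.symm.toMonoidHom, by rw [hc, hA, h1], by rw [hc, h2], hy,
    hyB, hσ, fun i hi => hlam i ?_, fun mu hmu => ?_, fun a ha x hx => ?_, fun x hx => ?_⟩
  · refine MonoidHom.ext fun v => ?_
    simpa using DFunLike.congr_fun hi (θ v)
  · obtain ⟨i, γ, hγ, hi⟩ := hcov (mu.comp θ.toMonoidHom) fun h => hmu (MonoidHom.ext fun v => by
      simpa using DFunLike.congr_fun h (θ.symm v))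
    refine ⟨i, autCongr θ γ, ⟨γ, hγ, rfl⟩, fun v => ?_⟩
    simpa [autCongr_apply] using hi (θ.symm v)
  · simp only [hval]
    exact hreg _ (by simpa using ha) x hx
  · obtain ⟨J, T, w, a, hw, hsum⟩ := hsing x hx
    refine ⟨J, T, fun j => θ (w j), a, fun j hj => ⟨by simpa using (hw j hj).1, (hw j hj).2.1,
      by rw [hA]; exact (hw j hj).2.2⟩, fun χ hχ => ?_⟩
    simp only [hval, MulEquiv.symm_apply_apply]
    exact hsum χ hχ

end Map

theorem ite_iff {P Q : Prop} {dP : Decidable P} {dQ : Decidable Q} (h : P ↔ Q) {x y : ℂ} :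
    @ite ℂ P dP x y = @ite ℂ Q dQ x y := by
  split_ifs with hP hQ hQ <;> tauto

variable {A : Type v} [CommGroup A] [Fintype A] {Γ : Subgroup (MulAut A)}
variable {M : Ideal AlgInt} [hMp : M.IsPrime] {p : ℕ}

/-- The orbit map of the labels. -/
theorem label_bijective [Fintype (A →* ℂˣ)] [Fintype Γ] {t : ℕ} {lam : Fin t → A →* ℂˣ}
    (h1 : t * Nat.card Γ + 1 = Nat.card A) (hlam : ∀ i, lam i ≠ 1)
    (hcov : ∀ mu : A →* ℂˣ, mu ≠ 1 → ∃ i, ∃ γ ∈ Γ, ∀ v, mu v = lam i (γ v)) :
    Function.Bijective (fun a : Fin t × Γ => (⟨(lam a.1).comp (a.2 : MulAut A).toMonoidHom,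
      fun h => hlam a.1 (MonoidHom.ext fun v => by
        simpa using DFunLike.congr_fun h ((a.2 : MulAut A).symm v))⟩ :
      {mu : A →* ℂˣ // mu ≠ 1})) := by
  classical
  rw [Fintype.bijective_iff_surjective_and_card]
  refine ⟨fun mu => ?_, ?_⟩
  · obtain ⟨i, γ, hγ, h⟩ := hcov mu.1 mu.2
    exact ⟨(i, ⟨γ, hγ⟩), Subtype.ext (MonoidHom.ext fun v => (h v).symm)⟩
  · have h := Fintype.card_subtype_compl (fun mu : A →* ℂˣ => mu = 1)
    rw [Fintype.card_subtype_eq, card_chars] at h
    rw [Fintype.card_prod, Fintype.card_fin]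
    simp only [Nat.card_eq_fintype_card] at h1
    show _ = Fintype.card {mu : A →* ℂˣ // ¬ mu = 1}
    rw [h]
    omega

open scoped Classical in
theorem sum_nontrivial [Fintype (A →* ℂˣ)] (v : A) :
    ∑ mu : {mu : A →* ℂˣ // mu ≠ 1}, ch mu.1 v = (if v = 1 then (Fintype.card A : ℂ) else 0) - 1 := by
  classical
  rw [← Finset.sum_subtype (p := fun mu : A →* ℂˣ => mu ≠ 1) ((Finset.univ : Finset _).erase 1)
    (fun x => by simp) (fun mu => ch mu v), Finset.sum_erase_eq_sub (Finset.mem_univ _), sum_chars,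
    ch_one]

/-- Products of orbit sums. -/
theorem sum_orbSum_mul [Fintype (A →* ℂˣ)] {t : ℕ} {lam : Fin t → A →* ℂˣ}
    (h1 : t * Nat.card Γ + 1 = Nat.card A) (hlam : ∀ i, lam i ≠ 1)
    (hcov : ∀ mu : A →* ℂˣ, mu ≠ 1 → ∃ i, ∃ γ ∈ Γ, ∀ v, mu v = lam i (γ v)) (v w : A) :
    ∃ k : ℕ, (Nat.card Γ : ℂ) + ∑ i, orbSum Γ (lam i) v * orbSum Γ (lam i) w =
      (Nat.card A : ℂ) * k := by
  classical
  haveI := Fintype.ofFinite Γ
  refine ⟨(Finset.univ.filter fun γ : Γ => (γ : MulAut A) v * w = 1).card, ?_⟩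
  have hbij := label_bijective h1 hlam hcov
  have key : ∑ i, orbSum Γ (lam i) v * orbSum Γ (lam i) w =
      ∑ γ : Γ, ∑ mu : {mu : A →* ℂˣ // mu ≠ 1}, ch mu.1 ((γ : MulAut A) v * w) := by
    simp only [orbSum, finsum_eq_sum_of_fintype, Finset.sum_mul_sum]
    have e : ∀ γ : Γ, ∑ mu : {mu : A →* ℂˣ // mu ≠ 1}, ch mu.1 ((γ : MulAut A) v * w) =
        ∑ i, ∑ δ : Γ, ((lam i (((δ * γ : Γ) : MulAut A) v) : ℂˣ) : ℂ) *
          ((lam i ((δ : MulAut A) w) : ℂˣ) : ℂ) := fun γ => by
      rw [← Fintype.sum_bijective _ hbij _ _ fun a => rfl, Fintype.sum_prod_type]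
      exact Finset.sum_congr rfl fun i _ => Finset.sum_congr rfl fun δ _ => by
        simp [ch, MulAut.mul_apply]
    rw [Finset.sum_congr rfl fun γ _ => e γ, Finset.sum_comm (s := (Finset.univ : Finset Γ))]
    refine Finset.sum_congr rfl fun i _ => ?_
    rw [Finset.sum_comm (s := (Finset.univ : Finset Γ))]
    conv_rhs => rw [Finset.sum_comm]
    exact Finset.sum_congr rfl fun δ _ => (Fintype.sum_equiv (Equiv.mulLeft δ) _ _ fun γ => rfl).symm
  rw [key]
  simp only [sum_nontrivial, Finset.sum_sub_distrib, ← Finset.sum_filter, Finset.sum_const,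
    Finset.card_univ, nsmul_eq_mul, mul_one, Nat.card_eq_fintype_card]
  ring

variable {G : Type u} [Group G] [Fintype G] {B : Set (IrrCharacter G)}

theorem sum_split [Fintype (IrrCharacter G)] {t : ℕ} {y : Fin t → IrrCharacter G}
    (hy : Function.Injective y) (hyB : ∀ i, y i ∈ B) (F : IrrCharacter G → ℂ) :
    ∑ᶠ χ ∈ B, F χ = (∑ᶠ χ ∈ B \ Set.range y, F χ) + ∑ i, F (y i) := by
  rw [← finsum_mem_union (Set.disjoint_sdiff_left) (Set.toFinite _) (Set.toFinite _) |>.trans
    (congrArg₂ (· + ·) rfl ?_), Set.sdiff_union_of_subset (by rintro _ ⟨i, rfl⟩; exact hyB i)]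
  rw [finsum_mem_range hy, finsum_eq_sum_of_fintype]

theorem card_rest {t e : ℕ} {y : Fin t → IrrCharacter G} (hy : Function.Injective y)
    (hyB : ∀ i, y i ∈ B) (h : Nat.card B = t + e) : (B \ Set.range y).ncard = e := by
  rw [Set.ncard_sdiff (by rintro _ ⟨i, rfl⟩; exact hyB i), ← Nat.card_coe_set_eq B, h,
    Set.ncard_range_of_injective hy, Nat.card_eq_fintype_card, Fintype.card_fin]
  omega

/-- The signed degrees of the labelled members are equal. -/
theorem sign_degree_eq (hM : IsPModular p M) [Fintype (A →* ℂˣ)] {t : ℕ} {y : Fin t → IrrCharacter G}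
    {σ : IrrCharacter G → ℤ} {lam : Fin t → A →* ℂˣ}
    (hT : IsTableData M p B Γ t y σ lam) (i j : Fin t) :
    (σ (y i) : ℂ) * (y i : G → ℂ) 1 = (σ (y j) : ℂ) * (y j : G → ℂ) 1 ∧
      ∑ᶠ χ ∈ B \ Set.range y, (σ χ : ℂ) * (χ : G → ℂ) 1 = (σ (y i) : ℂ) * (y i : G → ℂ) 1 := by
  classical
  obtain ⟨h1, h2, hy, hyB, hσ, hlam, hcov, hreg, -⟩ := hT
  haveI := Fintype.ofFinite Γ
  haveI := Fintype.ofFinite (IrrCharacter G)
  set c : Fin t → ℂ := fun i => (σ (y i) : ℂ) * (y i : G → ℂ) 1 with hc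
  set C : ℂ := ∑ᶠ χ ∈ B \ Set.range y, (σ χ : ℂ) * (χ : G → ℂ) 1 with hC
  have hrel : ∀ v : A, v ≠ 1 → C + ∑ i, c i * orbSum Γ (lam i) v = 0 := by
    intro v hv
    have h := hreg v hv 1 (isPRegular_one hM.1)
    rw [sum_split hy hyB] at h
    rw [← h, hC, finsum_mem_congr rfl (g := fun χ => (σ χ : ℂ) * tableVal Γ y lam χ v * (χ : G → ℂ) 1)
      fun χ hχ => by rw [tableVal_of_not _ _ _ (fun i h => hχ.2 ⟨i, h.symm⟩), mul_one]]
    congr 1
    exact Finset.sum_congr rfl fun i _ => by rw [tableVal_apply _ hy, hc]; ring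
  have hbij := label_bijective h1 hlam hcov
  have hO : ∀ i j, ∑ v, orbSum Γ (lam i) v * ch (lam j)⁻¹ v =
      if i = j then (Fintype.card A : ℂ) else 0 := by
    intro i j
    simp only [orbSum, finsum_eq_sum_of_fintype, Finset.sum_mul]
    rw [Finset.sum_comm]
    have e : ∀ γ : Γ, ∑ v, ((lam i ((γ : MulAut A) v) : ℂˣ) : ℂ) * ch (lam j)⁻¹ v =
        if i = j ∧ γ = 1 then (Fintype.card A : ℂ) else 0 := fun γ => by
      rw [Finset.sum_congr rfl (g := fun v =>
        ch ((lam i).comp (γ : MulAut A).toMonoidHom * (lam j)⁻¹) v) fun v _ => by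
          rw [ch_mul]; rfl]
      refine (sum_ch _).trans (ite_iff ?_)
      constructor
      · intro h
        have h' : (lam i).comp (γ : MulAut A).toMonoidHom =
            (lam j).comp ((1 : Γ) : MulAut A).toMonoidHom := MonoidHom.ext fun v => by
          have := DFunLike.congr_fun h v
          simpa [mul_inv_eq_one] using this
        have h'' := hbij.1 (a₁ := (i, γ)) (a₂ := (j, 1)) (Subtype.ext h')
        exact ⟨congrArg Prod.fst h'', congrArg Prod.snd h''⟩
      · rintro ⟨rfl, rfl⟩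
        refine MonoidHom.ext fun v => ?_
        simp
    rw [Finset.sum_congr rfl fun γ _ => e γ]
    by_cases hij : i = j <;> simp [hij]
  have hO1 : ∀ i, orbSum Γ (lam i) 1 = (Fintype.card Γ : ℂ) := fun i => by
    simp [orbSum, finsum_eq_sum_of_fintype]
  have hkey : ∀ j, (Fintype.card A : ℂ) * c j = C + (Fintype.card Γ : ℂ) * ∑ i, c i := by
    intro j
    have h0 : ∑ v, (C + ∑ i, c i * orbSum Γ (lam i) v) * ch (lam j)⁻¹ v =
        C + (Fintype.card Γ : ℂ) * ∑ i, c i := by
      rw [Finset.sum_eq_single (1 : A) (fun v _ hv => by rw [hrel v hv, zero_mul])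
        (fun h => absurd (Finset.mem_univ _) h), ch_map_one, mul_one, Finset.mul_sum]
      congr 1
      exact Finset.sum_congr rfl fun i _ => by rw [hO1]; ring
    rw [← h0]
    simp only [add_mul, Finset.sum_add_distrib, ← Finset.mul_sum, Finset.sum_mul, mul_assoc]
    rw [Finset.sum_comm, sum_ch, if_neg fun h => hlam j (MonoidHom.ext fun v => by
      simpa using DFunLike.congr_fun h v), mul_zero, zero_add]
    simp only [← Finset.mul_sum, hO, mul_ite, mul_zero, Finset.sum_ite_eq', Finset.mem_univ, if_true]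
    ring
  have hall : ∀ k l, c k = c l := fun k l =>
    mul_left_cancel₀ (card_ne_zeroC (P := A)) ((hkey k).trans (hkey l).symm)
  refine ⟨hall i j, ?_⟩
  have h := hkey i
  rw [Finset.sum_congr rfl fun k _ => hall k i, Finset.sum_const, Finset.card_univ, Fintype.card_fin,
    nsmul_eq_mul] at h
  have h1C : (t : ℂ) * (Fintype.card Γ : ℂ) + 1 = (Fintype.card A : ℂ) := by
    rw [← Nat.card_eq_fintype_card, ← Nat.card_eq_fintype_card]; exact_mod_cast h1
  rw [← h1C] at h
  show C = c i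
  linear_combination -h

variable {H : Type w} [Group H] [Fintype H] {B' : Set (IrrCharacter H)}

set_option maxHeartbeats 1000000 in
/-- **Blocks with tables for the same automorphism group are perfectly isometric.** -/
theorem isometry_of_tables (hM : IsPModular p M) [Fintype (A →* ℂˣ)] {t : ℕ}
    {y : Fin t → IrrCharacter G} {σ : IrrCharacter G → ℤ} {lam : Fin t → A →* ℂˣ}
    (hT : IsTableData M p B Γ t y σ lam) {t' : ℕ}
    {y' : Fin t' → IrrCharacter H} {σ' : IrrCharacter H → ℤ} {lam' : Fin t' → A →* ℂˣ}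
    (hT' : IsTableData M p B' Γ t' y' σ' lam') :
    ∃ (I : IrrCharacter H → IrrCharacter G) (ε : IrrCharacter H → ℤ),
      IsPerfectIsometry p M B' B I ε ∧ (∀ i j, ε (y' i) = ε (y' j)) ∧
        (Nat.card Γ = 1 → ∀ η ∈ B', ∀ i, ε η = ε (y' i)) := by
  classical
  obtain ⟨h1, h2, hy, hyB, hσ, hlam, hcov, hreg, hsing⟩ := id hT
  obtain ⟨h1', h2', hy', hyB', hσ', hlam', hcov', hreg', hsing'⟩ := id hT'
  haveI := Fintype.ofFinite Γ
  haveI := Fintype.ofFinite (IrrCharacter G)
  haveI := Fintype.ofFinite (IrrCharacter H)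
  obtain rfl : t = t' := by
    have := Nat.card_pos (α := Γ)
    exact Nat.eq_of_mul_eq_mul_right this (by omega)
  -- matching the labels
  have hπ : ∀ i, ∃ k, ∀ v, orbSum Γ (lam k) v = orbSum Γ (lam' i) v := fun i => by
    obtain ⟨k, γ, hγ, h⟩ := hcov (lam' i) (hlam' i)
    refine ⟨k, fun v => ?_⟩
    simp only [orbSum, finsum_eq_sum_of_fintype]
    refine (Fintype.sum_equiv (Equiv.mulLeft ⟨γ, hγ⟩) _ _ fun δ => ?_).symm
    rw [h]
    simp [MulAut.mul_apply]
  choose π hπO using hπ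
  have hπi : Function.Injective π := by
    intro i j hij
    by_contra hne
    have hO : ∀ v, orbSum Γ (lam' i) v = orbSum Γ (lam' j) v := fun v => by
      rw [← hπO, ← hπO, hij]
    have hb := label_bijective h1' hlam' hcov'
    have e : ∀ k, ∑ v, orbSum Γ (lam' k) v * ch (lam' i)⁻¹ v =
        if k = i then (Fintype.card A : ℂ) else 0 := fun k => by
      simp only [orbSum, finsum_eq_sum_of_fintype, Finset.sum_mul]
      rw [Finset.sum_comm, Finset.sum_congr rfl (g := fun γ : Γ =>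
        if k = i ∧ γ = 1 then (Fintype.card A : ℂ) else 0) fun γ _ => ?_]
      · by_cases h : k = i <;> simp [h]
      · rw [Finset.sum_congr rfl (g := fun v =>
          ch ((lam' k).comp (γ : MulAut A).toMonoidHom * (lam' i)⁻¹) v) fun v _ => by
            rw [ch_mul]; rfl]
        refine (sum_ch _).trans (ite_iff ⟨fun h => ?_, ?_⟩)
        · have h' : (lam' k).comp (γ : MulAut A).toMonoidHom =
              (lam' i).comp ((1 : Γ) : MulAut A).toMonoidHom := MonoidHom.ext fun v => by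
            have := DFunLike.congr_fun h v
            simpa [mul_inv_eq_one] using this
          have h'' := hb.1 (a₁ := (k, γ)) (a₂ := (i, 1)) (Subtype.ext h')
          exact ⟨congrArg Prod.fst h'', congrArg Prod.snd h''⟩
        · rintro ⟨rfl, rfl⟩
          exact MonoidHom.ext fun v => by simp
    have e1 := e i
    rw [if_pos rfl, Finset.sum_congr rfl fun v _ => by rw [hO v], e j, if_neg (Ne.symm hne)] at e1
    exact card_ne_zeroC (P := A) e1.symm
  -- the bijection
  obtain ⟨eR⟩ : Nonempty (↥(B' \ Set.range y') ≃ ↥(B \ Set.range y)) := Finite.card_eq.1 (by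
    rw [Nat.card_coe_set_eq, Nat.card_coe_set_eq, card_rest hy hyB h2, card_rest hy' hyB' h2'])
  let I : IrrCharacter H → IrrCharacter G := fun η =>
    if h : ∃ i, y' i = η then y (π h.choose)
    else if h' : η ∈ B' then (eR ⟨η, h', h⟩ : IrrCharacter G) else trivIrr G
  have hIy : ∀ i, I (y' i) = y (π i) := fun i => by
    have h : ∃ j, y' j = y' i := ⟨i, rfl⟩
    simp only [I, dif_pos h, hy' h.choose_spec]
  have hIr : ∀ η (h : η ∈ B' \ Set.range y'), I η = (eR ⟨η, h⟩ : IrrCharacter G) := fun η h => by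
    simp only [I, dif_neg (fun hh : ∃ i, y' i = η => h.2 hh), dif_pos h.1]
  have hIrest : ∀ η, η ∈ B' \ Set.range y' → I η ∈ B \ Set.range y := fun η h => by
    rw [hIr η h]; exact (eR ⟨η, h⟩).2
  have hBij : Set.BijOn I B' B := by
    refine ⟨fun η hη => ?_, fun η hη η' hη' he => ?_, fun χ hχ => ?_⟩
    · by_cases h : η ∈ Set.range y'
      · obtain ⟨i, rfl⟩ := h; rw [hIy]; exact hyB _
      · exact (hIrest η ⟨hη, h⟩).1
    · by_cases h : η ∈ Set.range y' <;> by_cases h' : η' ∈ Set.range y'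
      · obtain ⟨i, rfl⟩ := h; obtain ⟨j, rfl⟩ := h'
        rw [hIy, hIy] at he
        rw [hπi (hy he)]
      · obtain ⟨i, rfl⟩ := h
        rw [hIy] at he
        exact absurd ⟨π i, he⟩ (hIrest η' ⟨hη', h'⟩).2
      · obtain ⟨i, rfl⟩ := h'
        rw [hIy] at he
        exact absurd ⟨π i, he.symm⟩ (hIrest η ⟨hη, h⟩).2
      · rw [hIr η ⟨hη, h⟩, hIr η' ⟨hη', h'⟩] at he
        exact congrArg Subtype.val (eR.injective (Subtype.ext he))
    · by_cases h : χ ∈ Set.range y
      · obtain ⟨k, rfl⟩ := h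
        obtain ⟨i, rfl⟩ := (Finite.injective_iff_surjective.1 hπi) k
        exact ⟨y' i, hyB' i, hIy i⟩
      · refine ⟨(eR.symm ⟨χ, hχ, h⟩).1, (eR.symm ⟨χ, hχ, h⟩).2.1, ?_⟩
        rw [hIr _ (eR.symm ⟨χ, hχ, h⟩).2]
        simp
  have hΛI : ∀ η ∈ B', ∀ v, tableVal Γ y lam (I η) v = tableVal Γ y' lam' η v := by
    intro η hη v
    by_cases h : η ∈ Set.range y'
    · obtain ⟨i, rfl⟩ := h
      rw [hIy, tableVal_apply _ hy, tableVal_apply _ hy', hπO]
    · rw [tableVal_of_not _ _ _ (fun i h' => h ⟨i, h'.symm⟩),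
        tableVal_of_not _ _ _ (fun i h' => (hIrest η ⟨hη, h⟩).2 ⟨i, h'.symm⟩)]
  set ε : IrrCharacter H → ℤ := fun η => σ (I η) * σ' η with hε
  have hcast : ∀ χ, ((σ χ : ℤ) : ℂ) * (σ χ : ℂ) = 1 := fun χ => by exact_mod_cast hσ χ
  have hcast' : ∀ η, ((σ' η : ℤ) : ℂ) * (σ' η : ℂ) = 1 := fun η => by exact_mod_cast hσ' η
  have key : ∀ (a b : ℤ) (z z' : ℕ), a * a = 1 → b * b = 1 → 0 < z → 0 < z' →
      (a : ℂ) * (z : ℂ) = (b : ℂ) * (z' : ℂ) → a = b := by
    intro a b z z' ha hb hz hz' he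
    have he' : a * (z : ℤ) = b * (z' : ℤ) := by exact_mod_cast he
    rcases mul_self_eq_one_iff.1 ha with rfl | rfl <;>
      rcases mul_self_eq_one_iff.1 hb with rfl | rfl <;> omega
  refine ⟨I, ε, ⟨hBij, fun η _ => mul_self_eq_one_iff.1 ?_, ?_⟩, fun i j => ?_, fun hc η hη i => ?_⟩
  · simp only [hε]
    linear_combination (σ' η * σ' η) * hσ (I η) + hσ' η
  rotate_left
  · -- the signs of the labelled members
    simp only [hε, hIy]
    have e1 := (sign_degree_eq hM hT (π i) (π j)).1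
    have e2 := (sign_degree_eq hM hT' i j).1
    rw [irr_apply_one, irr_apply_one] at e1 e2
    rw [key _ _ _ _ (hσ _) (hσ _) (charDegree_irr_pos _) (charDegree_irr_pos _) e1,
      key _ _ _ _ (hσ' _) (hσ' _) (charDegree_irr_pos _) (charDegree_irr_pos _) e2]
  · -- trivial inertia
    by_cases h : η ∈ Set.range y'
    · obtain ⟨j, rfl⟩ := h
      simp only [hε, hIy]
      have e1 := (sign_degree_eq hM hT (π j) (π i)).1
      have e2 := (sign_degree_eq hM hT' j i).1
      rw [irr_apply_one, irr_apply_one] at e1 e2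
      rw [key _ _ _ _ (hσ _) (hσ _) (charDegree_irr_pos _) (charDegree_irr_pos _) e1,
        key _ _ _ _ (hσ' _) (hσ' _) (charDegree_irr_pos _) (charDegree_irr_pos _) e2]
    · obtain ⟨r', hr'⟩ := Set.ncard_eq_one.1 ((card_rest hy' hyB' h2').trans hc)
      obtain ⟨r, hr⟩ := Set.ncard_eq_one.1 ((card_rest hy hyB h2).trans hc)
      have hmr : η ∈ B' \ Set.range y' := ⟨hη, h⟩
      have hIm := hIrest η hmr
      rw [hr, Set.mem_singleton_iff] at hIm
      rw [hr', Set.mem_singleton_iff] at hmr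
      have e1 := (sign_degree_eq hM hT (π i) (π i)).2
      have e2 := (sign_degree_eq hM hT' i i).2
      rw [hr, finsum_mem_singleton, ← hIm, irr_apply_one, irr_apply_one] at e1
      rw [hr', finsum_mem_singleton, ← hmr, irr_apply_one, irr_apply_one] at e2
      simp only [hε, hIy]
      rw [key _ _ _ _ (hσ _) (hσ _) (charDegree_irr_pos _) (charDegree_irr_pos _) e1,
        key _ _ _ _ (hσ' _) (hσ' _) (charDegree_irr_pos _) (charDegree_irr_pos _) e2]
  set s := (Set.toFinite B').toFinset with hs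
  have hmem : ∀ {η}, η ∈ s ↔ η ∈ B' := (Set.toFinite B').mem_toFinset
  have hμ : ∀ x z, signedBijectionKernel B' I ε x z =
      ∑ η ∈ s, (ε η : ℂ) * (I η : G → ℂ) x * (η : H → ℂ) z := fun x z => by
    rw [signedBijectionKernel, finsum_mem_eq_finite_toFinset_sum _ (Set.toFinite B')]
  have hregI : ∀ v : A, v ≠ 1 → ∀ x, IsPRegular p x →
      ∑ η ∈ s, (σ (I η) : ℂ) * tableVal Γ y' lam' η v * (I η : G → ℂ) x = 0 := by
    intro v hv x hx
    rw [← hreg v hv x hx, finsum_mem_eq_finite_toFinset_sum _ (Set.toFinite B)]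
    refine Finset.sum_bij (fun η _ => I η)
      (fun η hη => (Set.toFinite B).mem_toFinset.2 (hBij.mapsTo (hmem.1 hη)))
      (fun η hη η' hη' h => hBij.injOn (hmem.1 hη) (hmem.1 hη') h) (fun χ hχ => ?_)
      (fun η hη => by rw [hΛI η (hmem.1 hη)])
    obtain ⟨η, hη, rfl⟩ := hBij.surjOn ((Set.toFinite B).mem_toFinset.1 hχ)
    exact ⟨η, hmem.2 hη, rfl⟩
  have hregH : ∀ v : A, v ≠ 1 → ∀ z, IsPRegular p z →
      ∑ η ∈ s, (σ' η : ℂ) * tableVal Γ y' lam' η v * (η : H → ℂ) z = 0 := by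
    intro v hv z hz
    rw [← hreg' v hv z hz, finsum_mem_eq_finite_toFinset_sum _ (Set.toFinite B')]
  have hpair : ∀ v w : A, ∃ k : ℕ, ∑ η ∈ s, tableVal Γ y' lam' η v * tableVal Γ y' lam' η w =
      (Nat.card A : ℂ) * k := by
    intro v w
    obtain ⟨k, hk⟩ := sum_orbSum_mul h1' hlam' hcov' v w
    refine ⟨k, ?_⟩
    rw [← hk, ← finsum_mem_eq_finite_toFinset_sum _ (Set.toFinite B'), sum_split hy' hyB']
    congr 1
    · rw [finsum_mem_congr rfl (g := fun _ => (1 : ℂ)) fun η hη => by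
        rw [tableVal_of_not _ _ _ (fun i h => hη.2 ⟨i, h.symm⟩),
          tableVal_of_not _ _ _ (fun i h => hη.2 ⟨i, h.symm⟩), mul_one],
        finsum_mem_eq_finite_toFinset_sum _ (Set.toFinite _), Finset.sum_const, nsmul_eq_mul, mul_one,
        ← Set.ncard_eq_toFinset_card, card_rest hy' hyB' h2']
    · exact Finset.sum_congr rfl fun i _ => by rw [tableVal_apply _ hy', tableVal_apply _ hy']
  have hsr : ∀ x z, ¬ IsPRegular p x → IsPRegular p z → signedBijectionKernel B' I ε x z = 0 := by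
    intro x z hx hz
    obtain ⟨J, T, w, a, hT, hval⟩ := hsing x hx
    rw [hμ, Finset.sum_congr rfl (g := fun η => ∑ j ∈ T, a j *
      ((σ' η : ℂ) * tableVal Γ y' lam' η (w j) * (η : H → ℂ) z)) fun η hη => by
        rw [hval _ (hBij.mapsTo (hmem.1 hη)), Finset.mul_sum, Finset.sum_mul]
        refine Finset.sum_congr rfl fun j _ => ?_
        rw [hΛI η (hmem.1 hη)]
        simp only [hε, Int.cast_mul]
        linear_combination (a j * (σ' η : ℂ) * tableVal Γ y' lam' η (w j) * (η : H → ℂ) z) * hcast (I η),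
      Finset.sum_comm]
    exact Finset.sum_eq_zero fun j hj => by
      rw [← Finset.mul_sum, hregH _ (hT j hj).1 z hz, mul_zero]
  have hrs : ∀ x z, IsPRegular p x → ¬ IsPRegular p z → signedBijectionKernel B' I ε x z = 0 := by
    intro x z hx hz
    obtain ⟨J, T, w, a, hT, hval⟩ := hsing' z hz
    rw [hμ, Finset.sum_congr rfl (g := fun η => ∑ j ∈ T, a j *
      ((σ (I η) : ℂ) * tableVal Γ y' lam' η (w j) * (I η : G → ℂ) x)) fun η hη => by
        rw [hval _ (hmem.1 hη), Finset.mul_sum]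
        refine Finset.sum_congr rfl fun j _ => ?_
        simp only [hε, Int.cast_mul]
        linear_combination (a j * (σ (I η) : ℂ) * tableVal Γ y' lam' η (w j) * (I η : G → ℂ) x) * hcast' η,
      Finset.sum_comm]
    exact Finset.sum_eq_zero fun j hj => by
      rw [← Finset.mul_sum, hregI _ (hT j hj).1 x hx, mul_zero]
  have hεint : ∀ η, IsIntegral ℤ ((ε η : ℤ) : ℂ) := fun η => isIntegral_algebraMap
  intro x z
  by_cases hx : IsPRegular p x <;> by_cases hz : IsPRegular p z
  · refine ⟨?_, ?_, Or.inl (iff_of_true hx hz)⟩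
    · have key : ∀ g : G, ∑ χ ∈ s.image I, (∑ η ∈ s.filter (fun η => I η = χ),
          (ε η : ℂ) * (η : H → ℂ) z) * (χ : G → ℂ) g = signedBijectionKernel B' I ε g z := fun g => by
        rw [hμ, ← Finset.sum_fiberwise_of_maps_to (t := s.image I) (g := I)
          fun η hη => Finset.mem_image_of_mem I hη]
        refine Finset.sum_congr rfl fun χ _ => ?_
        rw [Finset.sum_mul]
        exact Finset.sum_congr rfl fun η hη => by rw [(Finset.mem_filter.1 hη).2]; ring
      rw [← key]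
      refine KleinIsometry.div_centralizer_local hM _ _ (fun χ _ => IsIntegral.sum _ fun η _ =>
        (hεint η).mul (IsCharacter.isIntegral (irr_isCharacter η) z)) (fun g hg => ?_) hx
      rw [key]
      exact hsr g z hg hz
    · have key : ∀ g : H, ∑ η ∈ s, ((ε η : ℂ) * (I η : G → ℂ) x) * (η : H → ℂ) g =
          signedBijectionKernel B' I ε x g := fun g => (hμ x g).symm
      rw [← key]
      refine KleinIsometry.div_centralizer_local hM _ _ (fun η _ => (hεint η).mul
        (IsCharacter.isIntegral (irr_isCharacter (I η)) x)) (fun g hg => ?_) hz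
      rw [key]
      exact hrs x g hx hg
  · rw [hrs x z hx hz, zero_div, zero_div]
    exact ⟨memLocalRing_zero, memLocalRing_zero, Or.inr rfl⟩
  · rw [hsr x z hx hz, zero_div, zero_div]
    exact ⟨memLocalRing_zero, memLocalRing_zero, Or.inr rfl⟩
  · obtain ⟨J, T, w, a, hT, hval⟩ := hsing x hx
    obtain ⟨J', T', w', a', hT₂, hval'⟩ := hsing' z hz
    choose k hk using hpair
    have hexp : signedBijectionKernel B' I ε x z =
        ∑ j ∈ T, ∑ l ∈ T', (k (w j) (w' l) : ℂ) * ((Nat.card A : ℂ) * a j * a' l) := by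
      rw [hμ, Finset.sum_congr rfl (g := fun η => ∑ j ∈ T, ∑ l ∈ T', (a j * a' l) *
        (tableVal Γ y' lam' η (w j) * tableVal Γ y' lam' η (w' l))) fun η hη => ?_, Finset.sum_comm]
      · refine Finset.sum_congr rfl fun j _ => ?_
        rw [Finset.sum_comm]
        refine Finset.sum_congr rfl fun l _ => ?_
        rw [← Finset.mul_sum, hk]
        ring
      · rw [hval _ (hBij.mapsTo (hmem.1 hη)), hval' _ (hmem.1 hη), mul_assoc, Finset.sum_mul_sum,
          Finset.mul_sum]
        refine Finset.sum_congr rfl fun j _ => ?_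
        rw [Finset.mul_sum]
        refine Finset.sum_congr rfl fun l _ => ?_
        rw [hΛI η (hmem.1 hη)]
        simp only [hε, Int.cast_mul]
        linear_combination (a j * a' l * tableVal Γ y' lam' η (w j) * tableVal Γ y' lam' η (w' l) *
          ((σ' η : ℂ) * (σ' η : ℂ))) * hcast (I η) +
          (a j * a' l * tableVal Γ y' lam' η (w j) * tableVal Γ y' lam' η (w' l)) * hcast' η
    refine ⟨?_, ?_, Or.inl (iff_of_false hx hz)⟩
    · rw [hexp]
      simp only [Finset.sum_div]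
      refine memLocalRing_sum _ fun j hj => memLocalRing_sum _ fun l hl => ?_
      rw [show (k (w j) (w' l) : ℂ) * ((Nat.card A : ℂ) * a j * a' l) /
          (Nat.card (Subgroup.centralizer ({x} : Set G)) : ℂ) =
        (k (w j) (w' l) : ℂ) * a' l *
          ((Nat.card A : ℂ) * a j / (Nat.card (Subgroup.centralizer ({x} : Set G)) : ℂ)) by ring]
      exact memLocalRing_mul (memLocalRing_mul (memLocalRing_natCast _) (hT₂ l hl).2.1) (hT j hj).2.2
    · rw [hexp]
      simp only [Finset.sum_div]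
      refine memLocalRing_sum _ fun j hj => memLocalRing_sum _ fun l hl => ?_
      rw [show (k (w j) (w' l) : ℂ) * ((Nat.card A : ℂ) * a j * a' l) /
          (Nat.card (Subgroup.centralizer ({z} : Set H)) : ℂ) =
        (k (w j) (w' l) : ℂ) * a j *
          ((Nat.card A : ℂ) * a' l / (Nat.card (Subgroup.centralizer ({z} : Set H)) : ℂ)) by ring]
      exact memLocalRing_mul (memLocalRing_mul (memLocalRing_natCast _) (hT j hj).2.1) (hT₂ l hl).2.2

end Cfsg.Agent.Lib.FreeQuot
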