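import Cfsg.Agent.Lib.FreeQuot.Main
import Cfsg.Agent.Lib.FreeQuot.Isometry
import Cfsg.Agent.Lib.CyclicTree.Statement
import Cfsg.Agent.Lib.BlockHeights.HarrisKnorrCore
import Cfsg.Agent.Lib.KleinIsometry.Main
import Mathlib.RingTheory.ZMod.UnitsCyclic

/-!
# Perfect isometries between blocks with cyclic defect groups
-/

set_option autoImplicit false
set_option linter.unusedSectionVars false
set_option linter.style.haveILetI false

namespace Cfsg.Agent.Lib.FreeQuot

open Cfsg Cfsg.Agent.Lib.Blocks Cfsg.Agent.Lib.Characters Cfsg.Agent.Lib.BlockHeights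
  Cfsg.Agent.Lib.BrauerPairs

universe u w

/-- Free automorphism groups of a cyclic `p`-group are determined by their order. -/
theorem free_aut_unique {A : Type*} [Group A] [Finite A] [IsCyclic A] {p : ℕ} [Fact p.Prime]
    (hA : IsPGroup p A) [Nontrivial A] {Γ Γ' : Subgroup (MulAut A)}
    (hf : ∀ γ ∈ Γ, ∀ v : A, v ≠ 1 → γ v = v → γ = 1)
    (hf' : ∀ γ ∈ Γ', ∀ v : A, v ≠ 1 → γ v = v → γ = 1) (hcard : Nat.card Γ = Nat.card Γ') :
    Γ = Γ' := by
  classical
  obtain ⟨n, hn⟩ := IsPGroup.iff_card.1 hA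
  have hn0 : n ≠ 0 := by
    rintro rfl
    rw [pow_zero] at hn
    exact (Finite.one_lt_card (α := A)).ne' hn
  by_cases hp : p = 2
  · subst hp
    obtain ⟨z, hz⟩ := exists_prime_orderOf_dvd_card' (G := A) 2 (by rw [hn]; exact dvd_pow_self 2 hn0)
    have hz1 : z ≠ 1 := fun h => by simp [h] at hz
    haveI : Fintype A := Fintype.ofFinite A
    have hfix : ∀ γ : MulAut A, γ z = z := by
      intro γ
      by_contra hne
      have hsub : ({1, z, γ z} : Finset A) ⊆ Finset.univ.filter fun a => a ^ 2 = 1 := by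
        intro a ha
        simp only [Finset.mem_insert, Finset.mem_singleton] at ha
        have hz2 : z ^ 2 = 1 := by rw [← hz]; exact pow_orderOf_eq_one z
        refine Finset.mem_filter.2 ⟨Finset.mem_univ _, ?_⟩
        rcases ha with rfl | rfl | rfl
        · exact one_pow _
        · exact hz2
        · rw [← map_pow, hz2, map_one]
      have h1 : γ z ≠ 1 := fun h => hz1 (γ.injective (h.trans (map_one γ).symm))
      have h3 : ({1, z, γ z} : Finset A).card = 3 :=
        Finset.card_eq_three.2 ⟨1, z, γ z, Ne.symm hz1, Ne.symm h1, Ne.symm hne, rfl⟩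
      have := (Finset.card_le_card hsub).trans (IsCyclic.card_pow_eq_one_le (α := A) (n := 2) two_pos)
      omega
    have hbot : ∀ Δ : Subgroup (MulAut A), (∀ γ ∈ Δ, ∀ v : A, v ≠ 1 → γ v = v → γ = 1) → Δ = ⊥ :=
      fun Δ h => (Subgroup.eq_bot_iff_forall _).2 fun γ hγ => h γ hγ z hz1 (hfix γ)
    rw [hbot Γ hf, hbot Γ' hf']
  · haveI : NeZero (Nat.card A) := ⟨Nat.card_pos.ne'⟩
    haveI : IsCyclic (ZMod (Nat.card A))ˣ := by
      rw [hn]; exact ZMod.isCyclic_units_of_prime_pow p Fact.out hp n
    haveI : IsCyclic (MulAut A) :=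
      isCyclic_of_surjective _ (IsCyclic.mulAutMulEquiv A).symm.surjective
    haveI : Finite (MulAut A) := Finite.of_equiv _ (IsCyclic.mulAutMulEquiv A).symm.toEquiv
    haveI := Fintype.ofFinite (MulAut A)
    have key : ∀ Δ : Subgroup (MulAut A), ∀ x : MulAut A, x ∈ Δ ↔ x ^ Nat.card Δ = 1 := by
      intro Δ x
      refine ⟨fun hx => by
        have := pow_card_eq_one' (x := (⟨x, hx⟩ : Δ)); exact congrArg Subtype.val this, fun hx => ?_⟩
      have hsub : (Finset.univ.filter (· ∈ Δ)) ⊆ Finset.univ.filter fun y => y ^ Nat.card Δ = 1 := by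
        intro y hy
        refine Finset.mem_filter.2 ⟨Finset.mem_univ _, ?_⟩
        have := pow_card_eq_one' (x := (⟨y, (Finset.mem_filter.1 hy).2⟩ : Δ))
        exact congrArg Subtype.val this
      have heq := Finset.eq_of_subset_of_card_le hsub ((IsCyclic.card_pow_eq_one_le Nat.card_pos).trans
        (le_of_eq (by rw [Nat.card_eq_fintype_card, Fintype.card_subtype])))
      have : x ∈ Finset.univ.filter (· ∈ Δ) := by
        rw [heq]; exact Finset.mem_filter.2 ⟨Finset.mem_univ _, hx⟩
      exact (Finset.mem_filter.1 this).2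
    ext x
    rw [key, key, hcard]

section OneGroup

variable {G : Type u} [Group G] [Fintype G] {M : Ideal AlgInt} [hMp : M.IsPrime] {p : ℕ}
  {B : Set (IrrCharacter G)} {P : Subgroup G}
  {c : Set (IrrCharacter (Subgroup.centralizer (P : Set G)))}

/-- The table of a block with cyclic defect group, on the standard cyclic group. -/
theorem cyclic_table (hM : IsPModular p M) (hmax : IsMaximalBrauerPair p M B P c) [IsCyclic P]
    (hP1 : P ≠ ⊥) {q : ℕ} (hq : Nat.card P = q) :
    ∃ Γ : Subgroup (MulAut (Multiplicative (ZMod q))),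
      Nat.card Γ = (Subgroup.centralizer (P : Set G)).relIndex (pairStab P c) ∧
      (∀ γ ∈ Γ, ∀ v : Multiplicative (ZMod q), v ≠ 1 → γ v = v → γ = 1) ∧ IsTable M p B Γ := by
  haveI := Fact.mk hM.1
  subst hq
  have hab := comm_of_isCyclic P
  obtain ⟨t, -, hk, -, -, hdata⟩ := free_data hM hmax hP1 hab (free_of_isCyclic hM hmax)
  have hq1 : 1 < Nat.card P := by
    haveI := (Subgroup.nontrivial_iff_ne_bot P).2 hP1
    exact Finite.one_lt_card
  obtain ⟨z, H, N, hH, f, PH, t', L, hcard⟩ := CyclicTree.exists_localData hM hmax hq1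
  obtain ⟨a, ha⟩ := IsPGroup.iff_card.1 hmax.1.1.1
  have hl := (L.cyclicShape (a := a) (hcard.trans ha)).rank
  obtain ⟨Γ, hΓ, hfree, hT⟩ := hdata (by rw [hk, hl, add_comm])
  set θ : P ≃* Multiplicative (ZMod (Nat.card P)) := mulEquivOfCyclicCardEq (by simp)
  refine ⟨Γ.map (autCongr θ).toMonoidHom, ?_, fun γ hγ v hv h => ?_, isTable_map θ hT⟩
  · rw [Subgroup.card_map_of_injective (autCongr θ).injective, hΓ]
  · obtain ⟨γ₀, hγ₀, rfl⟩ := hγ
    have h' : γ₀ (θ.symm v) = θ.symm v := by
      rw [← θ.symm_apply_apply (γ₀ (θ.symm v))]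
      exact congrArg θ.symm h
    rw [hfree γ₀ hγ₀ _ (by simpa using hv) h', map_one]

/-- The number of Brauer characters is the inertial index. -/
theorem cyclic_rank (hM : IsPModular p M) (hmax : IsMaximalBrauerPair p M B P c) [IsCyclic P]
    (hP1 : P ≠ ⊥) : blockRank p B = (Subgroup.centralizer (P : Set G)).relIndex (pairStab P c) := by
  haveI := Fact.mk hM.1
  haveI := (Subgroup.nontrivial_iff_ne_bot P).2 hP1
  obtain ⟨z, H, N, hH, f, PH, t', L, hcard⟩ := CyclicTree.exists_localData hM hmax Finite.one_lt_card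
  obtain ⟨a, ha⟩ := IsPGroup.iff_card.1 hmax.1.1.1
  exact (L.cyclicShape (a := a) (hcard.trans ha)).rank

/-- A maximal pair with cyclic group induces. -/
theorem isInducedBlock_of_cyclic (hM : IsPModular p M) (hmax : IsMaximalBrauerPair p M B P c)
    [IsCyclic P] : IsInducedBlock M (Subgroup.centralizer (P : Set G)) c B := by
  obtain ⟨x, hx⟩ := IsCyclic.exists_zpow_surjective (G := P)
  have hPx : P = Subgroup.zpowers (x : G) := by
    ext y
    constructor
    · intro hy
      obtain ⟨n, hn⟩ := hx ⟨y, hy⟩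
      exact ⟨n, by simpa using congrArg Subtype.val hn⟩
    · intro hy; exact Subgroup.zpowers_le.2 x.2 hy
  generalize (x : G) = y at hPx
  subst hPx
  exact isInducedBlock_of_isBrauerPairOf_zpowers hM hmax.1

/-- A block of a subgroup containing the normaliser of its defect group and inducing `B` has a
maximal pair with the inertial index of `B`. -/
theorem exists_compatible (hM : IsPModular p M) (hD : IsDefectGroup p M B P) [IsCyclic P]
    {H : Subgroup G} [Fintype H] (hPH : P ≤ H)
    (hNH : Subgroup.normalizer (P : Set G) ≤ H) {d : Set (IrrCharacter H)}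
    (hdD : IsDefectGroup p M d (P.subgroupOf H)) (hd : IsInducedBlock M H d B) :
    ∃ (b : Set (IrrCharacter (Subgroup.centralizer (P : Set G))))
      (b' : Set (IrrCharacter (Subgroup.centralizer (P.subgroupOf H : Set H)))),
      IsMaximalBrauerPair p M B P b ∧ IsMaximalBrauerPair p M d (P.subgroupOf H) b' ∧
      (Subgroup.centralizer (P : Set G)).relIndex (pairStab P b) =
        (Subgroup.centralizer (P.subgroupOf H : Set H)).relIndex (pairStab (P.subgroupOf H) b') := by
  classical
  haveI := Fact.mk hM.1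
  set V := P.subgroupOf H with hVdef
  have hCH : Subgroup.centralizer (P : Set G) ≤ H := (centralizer_le_normalizer' P).trans hNH
  have hVP : V.map H.subtype = P := Subgroup.map_subgroupOf_eq_of_le hPH
  haveI : IsCyclic V := (Subgroup.subgroupOfEquivOfLe hPH).isCyclic.2 inferInstance
  obtain ⟨b', hmax'⟩ := exists_maximal_defect hM hd.1 hdD
  haveI := Fintype.ofFinite (Subgroup.centralizer (V : Set H))
  haveI := Fintype.ofFinite (Subgroup.centralizer (P : Set G))
  have hind' := isInducedBlock_of_cyclic hM hmax'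
  refine ⟨transBlock (relEquiv hVP hCH) b', b', isMaximal_of_induced hM hD ?_, hmax', ?_⟩
  · obtain ⟨ξ, hξ⟩ := IsPBlock.nonempty hind'.1
    obtain ⟨η, hη⟩ := IsPBlock.nonempty hd.1
    obtain ⟨χ, hχ⟩ := IsPBlock.nonempty hd.2.1
    refine isInducedBlock_of_pair (isPBlock_transBlock _ hind'.1) hd.2.1
      (ξ₀ := transIrr (relEquiv hVP hCH) ξ) ⟨ξ, hξ, rfl⟩ hχ fun g => ?_
    rw [omega_transIrr, ← omega_classIndicator (irr_isClassFunction χ) g]
    have hf := isRCentral_classIndicator (M := M) g
    have h1 := IsInducedBlock.omega_congr hind' hξ hη (isRCentral_resFun H hf)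
    have h2 := IsInducedBlock.omega_congr hd hη hχ hf
    have h3 := memLocalIdeal_add h1 h2
    rw [sub_add_sub_cancel] at h3
    exact h3
  · have hstab : pairStab P (transBlock (relEquiv hVP hCH) b') =
        (pairStab V b').map H.subtype := by
      have hco := subgroupBlockCoeff_relEquiv hVP hCH b'
      ext g
      constructor
      · intro hg
        refine ⟨⟨g, hNH hg.1⟩, ⟨(mem_normalizer_subgroupOf hPH _).2 hg.1, ?_⟩, rfl⟩
        have h := hg.2
        rw [hco] at h
        have h' : gconj ((⟨g, hNH hg.1⟩ : H) : G) (extendByZero H (subgroupBlockCoeff _ b')) =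
          extendByZero H (subgroupBlockCoeff _ b') := h
        rw [gconj_extendByZero] at h'
        funext y
        have h2 := congrFun h' (y : G)
        rwa [extendByZero_of_mem _ _ y.2, extendByZero_of_mem _ _ y.2] at h2
      · rintro ⟨h, hh, rfl⟩
        refine ⟨(mem_normalizer_subgroupOf hPH _).1 hh.1, ?_⟩
        rw [hco]
        show gconj (h : G) _ = _
        rw [gconj_extendByZero, hh.2]
    have hcen : Subgroup.centralizer (P : Set G) =
        (Subgroup.centralizer (V : Set H)).map H.subtype := by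
      ext g
      constructor
      · intro hg
        exact ⟨⟨g, hCH hg⟩, mem_centralizer_map_subtype.1 (by rw [hVP]; exact hg), rfl⟩
      · rintro ⟨h, hh, rfl⟩
        have := mem_centralizer_map_subtype.2 hh
        rwa [hVP] at this
    rw [hstab, hcen, Subgroup.relIndex_map_map_of_injective _ _ H.subtype_injective]

end OneGroup

variable {G : Type u} [Group G] [Fintype G] {H : Type w} [Group H] [Fintype H]
  {M : Ideal AlgInt} [hMp : M.IsPrime] {p : ℕ}
  {B : Set (IrrCharacter G)} {P : Subgroup G}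
  {c : Set (IrrCharacter (Subgroup.centralizer (P : Set G)))}
  {B' : Set (IrrCharacter H)} {P' : Subgroup H}
  {c' : Set (IrrCharacter (Subgroup.centralizer (P' : Set H)))}

/-- **Blocks with cyclic defect groups of one order and one inertial index are perfectly
isometric.** -/
theorem exists_isometry_cyclic (hM : IsPModular p M) (hmax : IsMaximalBrauerPair p M B P c)
    [IsCyclic P] (hP1 : P ≠ ⊥) (hmax' : IsMaximalBrauerPair p M B' P' c') [IsCyclic P']
    (hP : Nat.card P' = Nat.card P)
    (he : (Subgroup.centralizer (P' : Set H)).relIndex (pairStab P' c') =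
      (Subgroup.centralizer (P : Set G)).relIndex (pairStab P c)) :
    ∃ (I : IrrCharacter H → IrrCharacter G) (ε : IrrCharacter H → ℤ)
      (Γ : Subgroup (MulAut (Multiplicative (ZMod (Nat.card P))))) (t : ℕ)
      (y : Fin t → IrrCharacter H) (σ : IrrCharacter H → ℤ)
      (lam : Fin t → Multiplicative (ZMod (Nat.card P)) →* ℂˣ),
      IsPerfectIsometry p M B' B I ε ∧ IsTableData M p B' Γ t y σ lam ∧
      Nat.card Γ = (Subgroup.centralizer (P : Set G)).relIndex (pairStab P c) ∧
      (∀ i j, ε (y i) = ε (y j)) ∧ (Nat.card Γ = 1 → ∀ η ∈ B', ∀ i, ε η = ε (y i)) := by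
  haveI := Fact.mk hM.1
  haveI : NeZero (Nat.card P) := ⟨Nat.card_pos.ne'⟩
  haveI := Fintype.ofFinite (Multiplicative (ZMod (Nat.card P)) →* ℂˣ)
  haveI := (Subgroup.nontrivial_iff_ne_bot P).2 hP1
  have hP'1 : P' ≠ ⊥ := fun h => by
    rw [h, Subgroup.card_bot] at hP
    exact (Finite.one_lt_card (α := P)).ne hP
  obtain ⟨Γ, hΓ, hf, t, y, σ, lam, hT⟩ := cyclic_table hM hmax hP1 rfl
  obtain ⟨Γ', hΓ', hf', t', y', σ', lam', hT'⟩ := cyclic_table hM hmax' hP'1 hP
  haveI : Nontrivial (Multiplicative (ZMod (Nat.card P))) :=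
    Finite.one_lt_card_iff_nontrivial.1 (by simpa using Finite.one_lt_card (α := P))
  obtain rfl : Γ = Γ' := free_aut_unique (p := p) (IsPGroup.of_card (n := (Nat.card P).factorization p) (by
    obtain ⟨a, ha⟩ := IsPGroup.iff_card.1 hmax.1.1.1
    rw [Nat.card_congr Multiplicative.toAdd, Nat.card_zmod, ha, hM.1.factorization_pow,
      Finsupp.single_eq_same])) hf hf' (by rw [hΓ, hΓ', he])
  obtain ⟨I, ε, hI, hc, hc1⟩ := isometry_of_tables hM hT hT'
  exact ⟨I, ε, Γ, t', y', σ', lam', hI, hT', hΓ, hc, hc1⟩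

end Cfsg.Agent.Lib.FreeQuot
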