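import Cfsg.Agent.Lib.FreeQuot.Cyclic
import Cfsg.Agent.Lib.Compute.SingleBlock
import Cfsg.Agent.Lib.Characters.Kernel

/-!
# The Frobenius group with cyclic kernel
-/

set_option autoImplicit false
set_option linter.unusedSectionVars false
set_option linter.style.haveILetI false

namespace Cfsg.Agent.Lib.FreeQuot

open Cfsg Cfsg.Agent.Lib.Blocks Cfsg.Agent.Lib.Characters Cfsg.Agent.Lib.BlockHeights
  Cfsg.Agent.Lib.BrauerPairs
open Cfsg.Agent.Lib.Compute
open scoped ComplexConjugate commutatorElement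

universe w

variable {F : Type w} [Group F] [Fintype F] {M : Ideal AlgInt} [hMp : M.IsPrime] {p : ℕ}
  {Q : Subgroup F}

theorem commutator_le_of_cyclic [IsCyclic Q] [Q.Normal]
    (hQC : Subgroup.centralizer (Q : Set F) = Q) : commutator F ≤ Q := by
  rw [commutator_eq_closure, Subgroup.closure_le]
  rintro _ ⟨a, b, rfl⟩
  have hcomm : ∀ f g : MulAut Q, f * g = g * f := fun f g =>
    (IsCyclic.mulAutMulEquiv Q).injective (by rw [map_mul, map_mul, mul_comm])
  have h1 : MulAut.conjNormal (H := Q) ⁅a, b⁆ = 1 := by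
    rw [commutatorElement_def, map_mul, map_mul, map_mul, map_inv, map_inv,
      hcomm (MulAut.conjNormal a) (MulAut.conjNormal b)]
    group
  show ⁅a, b⁆ ∈ Q
  refine hQC.le (Subgroup.mem_centralizer_iff.2 fun x hx => ?_)
  have h2 := congrArg (fun f : MulAut Q => ((f ⟨x, hx⟩ : Q) : F)) h1
  simp only [MulAut.conjNormal_apply, MulAut.one_apply] at h2
  exact (mul_inv_eq_iff_eq_mul.1 h2).symm

/-- The data of the single block. -/
theorem frobenius_pair (hM : IsPModular p M) [IsCyclic Q] {a e : ℕ} (ha : Nat.card Q = p ^ a)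
    (hQC : Subgroup.centralizer (Q : Set F) = Q) (hF : Nat.card F = Nat.card Q * e) (he : e ∣ p - 1)
    (he0 : 0 < e) :
    Q.Normal ∧ IsPBlock M (Set.univ : Set (IrrCharacter F)) ∧
      ∃ c : Set (IrrCharacter (Subgroup.centralizer (Q : Set F))),
        IsMaximalBrauerPair p M (Set.univ : Set (IrrCharacter F)) Q c ∧ pairStab Q c = ⊤ := by
  classical
  haveI := Fact.mk hM.1
  have hQp : IsPGroup p Q := IsPGroup.of_card ha
  have hp2 := hM.1.two_le
  have hpe : ¬ p ∣ e := fun h => by
    have h1 := Nat.le_of_dvd he0 h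
    have h2 := Nat.le_of_dvd (by omega) he
    omega
  have hidx : Q.index = e := by
    have h1 := Q.card_mul_index
    rw [hF] at h1
    exact Nat.eq_of_mul_eq_mul_left Nat.card_pos h1
  let S : Sylow p F := hQp.toSylow (by rw [hidx]; exact hpe)
  have hS : (S : Subgroup F) = Q := rfl
  have hn : Nat.card (Sylow p F) = 1 := by
    have h1 : Nat.card (Sylow p F) ∣ e := hidx ▸ hS ▸ S.card_dvd_index
    have h2 := card_sylow_modEq_one p F
    have h3 := Nat.le_of_dvd he0 h1
    have h4 := Nat.le_of_dvd (by omega) he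
    have h5 : Nat.card (Sylow p F) % p = 1 % p := h2
    rwa [Nat.mod_eq_of_lt (by omega), Nat.mod_eq_of_lt (by omega)] at h5
  haveI hN : Q.Normal := by
    rw [Sylow.card_eq_index_normalizer S, Subgroup.index_eq_one] at hn
    change Subgroup.normalizer (Q : Set F) = ⊤ at hn
    exact Subgroup.normalizer_eq_top_iff.1 hn
  have hall : ∀ B : Set (IrrCharacter F), IsPBlock M B → B = principalBlock M F := fun B hB =>
    block_eq_principal_of_constrained hM hQp hQC.le hB
  have huniv : (Set.univ : Set (IrrCharacter F)) = principalBlock M F := by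
    ext χ
    simp only [Set.mem_univ, true_iff]
    rw [← hall _ (isPBlock_blockOf χ)]
    exact self_mem_blockOf χ
  have hB : IsPBlock M (Set.univ : Set (IrrCharacter F)) := by
    rw [huniv]; exact isPBlock_principalBlock
  obtain ⟨c, hmax⟩ := exists_maximal_defect hM hB (D := Q) (by
    rw [huniv]; exact (isDefectGroup_principal_iff hM).2 ⟨S, hS⟩)
  refine ⟨hN, hB, c, hmax, ?_⟩
  haveI := Fintype.ofFinite (Subgroup.centralizer (Q : Set F))
  have hCp : IsPGroup p (Subgroup.centralizer (Q : Set F)) := hQp.to_le hQC.le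
  have hCab : ∀ x y : Subgroup.centralizer (Q : Set F), x * y = y * x := fun x y =>
    Subtype.ext (Subgroup.mem_centralizer_iff.1 y.2 x (hQC.le x.2))
  have hcuniv : ∀ χ, χ ∈ c := fun χ => by
    rw [block_eq_principal_of_abelian hM hCp hCab hmax.1.1.2,
      ← block_eq_principal_of_abelian hM hCp hCab (isPBlock_blockOf χ)]
    exact self_mem_blockOf χ
  rw [eq_top_iff]
  intro g _
  have hgN : g ∈ Subgroup.normalizer (Q : Set F) := by
    rw [Subgroup.normalizer_eq_top_iff.2 hN]; exact Subgroup.mem_top g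
  have hgC := normalizer_le_normalizer_centralizer Q hgN
  refine mem_pairStab_iff.2 ⟨hgN, hgC, fun χ _ => ?_⟩
  refine ⟨transIrr (conjEquiv g (mem_conj_iff_of_mem_normalizer hgC)) χ, hcuniv _, ?_⟩
  intro k k' hk
  show (χ : Subgroup.centralizer (Q : Set F) → ℂ)
    ((conjEquiv g (mem_conj_iff_of_mem_normalizer hgC)).symm k') = _
  refine congrArg _ (Subtype.ext ?_)
  show g⁻¹ * (k' : F) * g = k
  rw [hk]
  group

variable {A : Type} [CommGroup A] [Fintype A] {Γ : Subgroup (MulAut A)}

set_option maxHeartbeats 800000 in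
/-- The characters that are nontrivial on the kernel are the labelled ones. -/
theorem nontrivial_labels (hM : IsPModular p M) [IsCyclic Q] [Q.Normal]
    [Fintype (A →* ℂˣ)]
    (hQC : Subgroup.centralizer (Q : Set F) = Q) (hQp : IsPGroup p Q) (hQA : Nat.card Q = Nat.card A)
    (hfree : ∀ g : F, ∀ v ∈ Q, v ≠ 1 → g * v * g⁻¹ = v → g ∈ Q)
    {t : ℕ} {y : Fin t → IrrCharacter F} {σ : IrrCharacter F → ℤ} {lam : Fin t → A →* ℂˣ}
    (hT : IsTableData M p (Set.univ : Set (IrrCharacter F)) Γ t y σ lam)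
    (hidx : Q.index = Nat.card Γ) (he2 : Nat.card Γ ≠ 1)
    {η η' : IrrCharacter F} (hη : ∃ x ∈ Q, (η : F → ℂ) x ≠ (η : F → ℂ) 1)
    (hη' : ∃ x ∈ Q, (η' : F → ℂ) x ≠ (η' : F → ℂ) 1) :
    η = η' ∨ (η ∈ Set.range y ∧ η' ∈ Set.range y) := by
  classical
  haveI := Fact.mk hM.1
  haveI := Fintype.ofFinite (IrrCharacter F)
  haveI := Fintype.ofFinite Γ
  have hcom := commutator_le_of_cyclic hQC
  set e := Nat.card Γ with he
  have he0 : 0 < e := Nat.card_pos
  obtain ⟨h1, h2, hy, hyB, hσ, hlam, hcov, -, hsing⟩ := id hT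
  -- a linear character is trivial on the kernel
  obtain ⟨g, hg⟩ : ∃ g, g ∉ Q := by
    by_contra h
    push Not at h
    exact he2 (hidx ▸ Subgroup.index_eq_one.2 ((Subgroup.eq_top_iff' Q).2 h))
  have hlin : ∀ χ : IrrCharacter F, (χ : F → ℂ) 1 = 1 → ∀ x ∈ Q, (χ : F → ℂ) x = 1 := by
    intro χ hχ x hx
    refine IsCharacter.apply_of_mem_commutator (irr_isCharacter χ) hχ ?_
    let φ : Q → Q := fun v => ⟨g * v * g⁻¹ * (v : F)⁻¹,
      Q.mul_mem ((‹Q.Normal›).conj_mem v v.2 g) (Q.inv_mem v.2)⟩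
    have hinj : Function.Injective φ := by
      intro v w hvw
      by_contra hne
      have hne' : (v : F) * (w : F)⁻¹ ≠ 1 := fun h => hne (Subtype.ext (mul_inv_eq_one.1 h))
      refine hg (hfree g _ (Q.mul_mem v.2 (Q.inv_mem w.2)) hne' ?_)
      have h' : g * (v : F) * g⁻¹ * (v : F)⁻¹ = g * (w : F) * g⁻¹ * (w : F)⁻¹ := congrArg Subtype.val hvw
      have hc : Commute ((w : F)⁻¹) (v : F) := by
        have := comm_of_isCyclic Q (w : F) w.2 (v : F) v.2
        exact Commute.inv_left this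
      calc g * ((v : F) * (w : F)⁻¹) * g⁻¹
          = (g * (v : F) * g⁻¹ * (v : F)⁻¹) * (v : F) * (g * (w : F) * g⁻¹)⁻¹ := by group
        _ = (g * (w : F) * g⁻¹) * ((w : F)⁻¹ * (v : F)) * (g * (w : F) * g⁻¹)⁻¹ := by rw [h']; group
        _ = (w : F)⁻¹ * (v : F) := by
          have hmem : g * (w : F) * g⁻¹ ∈ Q := (‹Q.Normal›).conj_mem w w.2 g
          rw [comm_of_isCyclic Q _ hmem _ (Q.mul_mem (Q.inv_mem w.2) v.2), mul_inv_cancel_right]
        _ = (v : F) * (w : F)⁻¹ := hc.eq
    obtain ⟨v, hv⟩ := (Finite.injective_iff_surjective.1 hinj) ⟨x, hx⟩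
    rw [← show g * (v : F) * g⁻¹ * (v : F)⁻¹ = x from congrArg Subtype.val hv]
    exact Subgroup.commutator_mem_commutator (Subgroup.mem_top g) (Subgroup.mem_top (v : F))
  have htriv : ∀ χ : IrrCharacter F, (∀ x ∈ Q, (χ : F → ℂ) x = (χ : F → ℂ) 1) →
      (χ : F → ℂ) 1 = 1 := by
    intro χ hχ
    obtain ⟨ψ, hψ, hcomp⟩ := IsIrrCharacter.exists_quotient χ.2 Q hχ
    rw [hcomp]
    show ψ (QuotientGroup.mk' Q 1) = 1
    rw [map_one]
    refine IsIrrCharacter.apply_one_of_comm (fun a b => ?_) hψ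
    obtain ⟨a, rfl⟩ := QuotientGroup.mk'_surjective Q a
    obtain ⟨b, rfl⟩ := QuotientGroup.mk'_surjective Q b
    rw [← map_mul, ← map_mul, QuotientGroup.mk'_apply, QuotientGroup.mk'_apply, QuotientGroup.eq]
    have := hcom (Subgroup.commutator_mem_commutator (Subgroup.mem_top b⁻¹) (Subgroup.mem_top a⁻¹))
    convert this using 1
    simp [commutatorElement_def, mul_assoc]
  -- the characters trivial on the kernel
  set S : Finset (IrrCharacter F) :=
    Finset.univ.filter fun χ : IrrCharacter F => ∀ x ∈ Q, (χ : F → ℂ) x = (χ : F → ℂ) 1 with hSdef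
  have hScard : e ≤ S.card := by
    have h3 : Nat.card {χ : IrrCharacter F // (χ : F → ℂ) 1 = 1} ≤ S.card := by
      rw [Nat.card_eq_fintype_card, Fintype.card_subtype]
      refine Finset.card_le_card fun χ hχ => ?_
      have hχ1 := (Finset.mem_filter.1 hχ).2
      exact Finset.mem_filter.2 ⟨Finset.mem_univ _, fun x hx => by rw [hlin χ hχ1 x hx, hχ1]⟩
    rw [card_linear_irr] at h3
    exact le_trans (hidx ▸ Nat.le_of_dvd (Nat.pos_of_ne_zero Subgroup.index_ne_zero_of_finite)
      (Subgroup.index_dvd_of_le hcom)) h3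
  have htotal : Fintype.card (IrrCharacter F) = t + e := by
    rw [← Nat.card_eq_fintype_card, ← Nat.card_univ, h2]
  have hnotS : ∀ χ : IrrCharacter F, (∃ x ∈ Q, (χ : F → ℂ) x ≠ (χ : F → ℂ) 1) → χ ∈ Sᶜ := by
    rintro χ ⟨x, hx, hne⟩
    rw [Finset.mem_compl]
    exact fun h => hne ((Finset.mem_filter.1 h).2 x hx)
  have hcompl : Sᶜ.card ≤ t := by
    rw [Finset.card_compl, htotal]; omega
  by_cases ht : t ≤ 1
  · exact Or.inl (Finset.card_le_one.1 (hcompl.trans ht) _ (hnotS η hη) _ (hnotS η' hη'))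
  -- no labelled character is trivial on the kernel
  have hyS : ∀ i, y i ∈ Sᶜ := by
    intro i₀
    rw [Finset.mem_compl]
    intro hi₀
    have hd0 := htriv _ (Finset.mem_filter.1 hi₀).2
    have hdeg : ∀ j, (y j : F → ℂ) 1 = 1 ∧ σ (y j) = σ (y i₀) := by
      intro j
      have h := (sign_degree_eq hM hT j i₀).1
      rw [hd0, mul_one, irr_apply_one] at h
      have h' : σ (y j) * (charDegree (y j : F → ℂ) : ℤ) = σ (y i₀) := by exact_mod_cast h
      have hpos := charDegree_irr_pos (y j)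
      rw [irr_apply_one]
      rcases mul_self_eq_one_iff.1 (hσ (y j)) with hs | hs <;>
        rcases mul_self_eq_one_iff.1 (hσ (y i₀)) with hs' | hs' <;> rw [hs, hs'] at h' ⊢ <;>
        refine ⟨?_, by omega⟩ <;>
        · have : charDegree (y j : F → ℂ) = 1 := by omega
          rw [this, Nat.cast_one]
    obtain ⟨x, hx⟩ := IsCyclic.exists_zpow_surjective (G := Q)
    have hQx : Q = Subgroup.zpowers (x : F) := by
      ext z
      constructor
      · intro hz
        obtain ⟨n, hn⟩ := hx ⟨z, hz⟩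
        exact ⟨n, by simpa using congrArg Subtype.val hn⟩
      · intro hz; exact Subgroup.zpowers_le.2 x.2 hz
    have hx1 : (x : F) ≠ 1 := fun h => by
      rw [hQx, h, Subgroup.zpowers_one_eq_bot, Subgroup.card_bot] at hQA
      rw [← hQA] at h1
      rcases Nat.eq_zero_or_pos t with h' | h'
      · omega
      · nlinarith
    have hsingx : ¬ IsPRegular p (x : F) := fun hreg => hx1 (by
      obtain ⟨k, hk⟩ := IsPGroup.iff_orderOf.1 hQp x
      rw [IsPRegular, Subgroup.orderOf_coe, hk] at hreg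
      rcases Nat.eq_zero_or_pos k with h' | h'
      · rw [h', pow_zero, orderOf_eq_one_iff] at hk
        rw [hk, Subgroup.coe_one]
      · exact absurd (dvd_pow_self p h'.ne') hreg)
    obtain ⟨J, T, w, a, hw, hval⟩ := hsing (x : F) hsingx
    have hbij := label_bijective h1 hlam hcov
    have hOsum : ∀ v : A, v ≠ 1 → ∑ i, orbSum Γ (lam i) v = -1 := by
      intro v hv
      have h3 := sum_nontrivial (A := A) v
      rw [if_neg hv, zero_sub, ← Fintype.sum_bijective _ hbij _ _ fun a => rfl,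
        Fintype.sum_prod_type] at h3
      rw [← h3]
      exact Finset.sum_congr rfl fun i _ => by rw [orbSum, finsum_eq_sum_of_fintype]; rfl
    set s₀ : ℂ := (σ (y i₀) : ℂ) with hs₀
    have hs₀1 : s₀ * s₀ = 1 := by rw [hs₀]; exact_mod_cast hσ (y i₀)
    set α : ℂ := ∑ j ∈ T, a j with hα
    have hyx : ∀ j, (y j : F → ℂ) (x : F) = 1 := fun j => hlin _ (hdeg j).1 _ x.2
    have hsum : (t : ℂ) = - s₀ * α := by
      calc (t : ℂ) = ∑ i, (y i : F → ℂ) (x : F) := by simp [hyx]
        _ = ∑ i, ∑ j ∈ T, a j * (s₀ * orbSum Γ (lam i) (w j)) := Finset.sum_congr rfl fun i _ => by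
            rw [hval _ (Set.mem_univ _)]
            exact Finset.sum_congr rfl fun j _ => by rw [tableVal_apply _ hy, (hdeg i).2]
        _ = - s₀ * α := by
            rw [Finset.sum_comm, hα, Finset.mul_sum]
            refine Finset.sum_congr rfl fun j hj => ?_
            rw [← Finset.mul_sum, ← Finset.mul_sum, hOsum _ (hw j hj).1]
            ring
    have hα' : α = -(s₀ * (t : ℂ)) := by
      linear_combination s₀ * hsum - α * hs₀1
    have hnorm : ∀ χ : IrrCharacter F, (χ : F → ℂ) (x : F) * conj ((χ : F → ℂ) (x : F)) =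
        if χ ∈ Set.range y then 1 else (t : ℂ) * t := by
      intro χ
      split_ifs with h
      · obtain ⟨j, rfl⟩ := h
        simp [hyx]
      · rw [hval χ (Set.mem_univ _), Finset.sum_congr rfl (g := fun j => a j * (σ χ : ℂ)) fun j _ => by
          rw [tableVal_of_not _ _ _ fun i h' => h ⟨i, h'.symm⟩, mul_one], ← Finset.sum_mul, ← hα, hα',
          map_mul, map_neg, map_mul, map_intCast, Complex.conj_natCast, hs₀, map_intCast, ← hs₀]
        have hσ1 : (σ χ : ℂ) * (σ χ : ℂ) = 1 := by exact_mod_cast hσ χ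
        linear_combination ((t : ℂ) * t * (s₀ * s₀)) * hσ1 + ((t : ℂ) * t) * hs₀1
    have hcol := sum_irr_mul_conj (G := F) (x : F) (x : F)
    rw [if_pos (IsConj.refl _), Finset.sum_congr rfl fun χ _ => hnorm χ, Finset.sum_ite,
      Finset.sum_const, Finset.sum_const, nsmul_eq_mul, nsmul_eq_mul, mul_one] at hcol
    have hr : (Finset.univ.filter fun χ => χ ∈ Set.range y).card = t := by
      rw [show (Finset.univ.filter fun χ => χ ∈ Set.range y) = Finset.univ.image y by ext; simp,
        Finset.card_image_of_injective _ hy, Finset.card_univ, Fintype.card_fin]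
    have hr' : (Finset.univ.filter fun χ => ¬ χ ∈ Set.range y).card = e := by
      have := Finset.card_filter_add_card_filter_not
        (s := (Finset.univ : Finset (IrrCharacter F))) (fun χ => χ ∈ Set.range y)
      rw [hr, Finset.card_univ, htotal] at this
      omega
    have hC : Subgroup.centralizer ({(x : F)} : Set F) = Q := by
      rw [centralizer_singleton_eq_zpowers, ← hQx, hQC]
    rw [hr, hr', hC, hQA, ← h1] at hcol
    have hnat : t + e * (t * t) = t * e + 1 := by exact_mod_cast hcol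
    nlinarith [Nat.mul_le_mul (Nat.mul_le_mul (le_refl e) (show 2 ≤ t by omega)) (le_refl t)]
  have heq : Finset.univ.image y = Sᶜ := by
    refine Finset.eq_of_subset_of_card_le (fun χ hχ => ?_) ?_
    · obtain ⟨i, -, rfl⟩ := Finset.mem_image.1 hχ
      exact hyS i
    · rw [Finset.card_image_of_injective _ hy, Finset.card_univ, Fintype.card_fin]
      exact hcompl
  refine Or.inr ⟨?_, ?_⟩
  · obtain ⟨i, -, hi⟩ := Finset.mem_image.1 (heq ▸ hnotS η hη)
    exact ⟨i, hi⟩
  · obtain ⟨i, -, hi⟩ := Finset.mem_image.1 (heq ▸ hnotS η' hη')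
    exact ⟨i, hi⟩

end Cfsg.Agent.Lib.FreeQuot
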