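import Cfsg.Agent.Lib.FreeQuot.Piece
import Cfsg.Agent.Lib.BrauerStar.PieceSection

/-!
# Orthogonality of the parts of the values on the sections
-/

set_option autoImplicit false
set_option linter.unusedSectionVars false
set_option linter.style.haveILetI false

namespace Cfsg.Agent.Lib.FreeQuot

open Cfsg Cfsg.Agent.Lib.Blocks Cfsg.Agent.Lib.Characters Cfsg.Agent.Lib.BrauerStar
  Cfsg.Agent.Lib.BlockHeights Cfsg.Agent.Lib.BrauerPairs
open scoped ComplexConjugate

universe u

variable {G : Type u} [Group G] [Fintype G] {M : Ideal AlgInt} [hMp : M.IsPrime] {p : ℕ}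

noncomputable local instance fintypeSubgroupOrth (H : Subgroup G) : Fintype H := Fintype.ofFinite H

local notation3 "Cz" u:max => Subgroup.centralizer (SetLike.coe (Subgroup.zpowers u))

theorem regular_of_coeff_ne (hM : IsPModular p M) {u : G} {f : Set (IrrCharacter (Cz u))}
    (hf : IsPBlock M f) {d : G} (h : subgroupBlockCoeff (Cz u) f d ≠ 0) :
    d ∈ Cz u ∧ ¬ p ∣ orderOf d := by
  by_cases hd : d ∈ Cz u
  · refine ⟨hd, fun hdvd => h ?_⟩
    rw [subgroupBlockCoeff_eq_extendByZero, extendByZero_of_mem _ _ hd]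
    exact blockCoeff_eq_zero_of_dvd hM hf (by rwa [Subgroup.orderOf_mk])
  · exact absurd (subgroupBlockCoeff_of_notMem f hd) h

theorem pElt_mul (hM : IsPModular p M) {u d : G} (hu : ∃ k : ℕ, orderOf u = p ^ k) (hd : d ∈ Cz u)
    (hr : ¬ p ∣ orderOf d) : pElt p (u * d) = u :=
  pElt_eq hM.1 ⟨d, rfl, (mem_Cz_iff u d).1 hd, hu, hr⟩

theorem pElt_conj_eq (hM : IsPModular p M) {u d : G} (hu : ∃ k : ℕ, orderOf u = p ^ k) (hd : d ∈ Cz u)
    (hr : ¬ p ∣ orderOf d) (t : G) : pElt p (t * (u * d) * t⁻¹) = t * u * t⁻¹ :=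
  pElt_eq hM.1 (IsPPart.conjugate ⟨d, rfl, (mem_Cz_iff u d).1 hd, hu, hr⟩ t)

theorem sum_pieceVal_mul (u w : G) (f : Set (IrrCharacter (Cz u)))
    (f' : Set (IrrCharacter (Cz w))) [Fintype (IrrCharacter G)] :
    ∑ χ : IrrCharacter G, pieceVal u f (χ : G → ℂ) u * conj (pieceVal w f' (χ : G → ℂ) w) =
      ∑ d : G, ∑ d' : G, subgroupBlockCoeff (Cz u) f d * conj (subgroupBlockCoeff (Cz w) f' d') *
        ∑ χ : IrrCharacter G, (χ : G → ℂ) (u * d) * conj ((χ : G → ℂ) (w * d')) := by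
  simp only [pieceVal, map_sum, map_mul, Finset.sum_mul_sum]
  rw [Finset.sum_comm]
  refine Finset.sum_congr rfl fun d _ => ?_
  rw [Finset.sum_comm]
  refine Finset.sum_congr rfl fun d' _ => ?_
  rw [Finset.mul_sum]
  exact Finset.sum_congr rfl fun χ _ => by ring

/-- Sections at non-conjugate elements are orthogonal. -/
theorem sum_pieceVal_eq_zero (hM : IsPModular p M) [Fintype (IrrCharacter G)] {u w : G}
    (hu : ∃ k : ℕ, orderOf u = p ^ k) (hw : ∃ k : ℕ, orderOf w = p ^ k)
    {f : Set (IrrCharacter (Cz u))} (hf : IsPBlock M f) {f' : Set (IrrCharacter (Cz w))}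
    (hf' : IsPBlock M f') (h : ¬ IsConj u w) :
    ∑ χ : IrrCharacter G, pieceVal u f (χ : G → ℂ) u * conj (pieceVal w f' (χ : G → ℂ) w) = 0 := by
  classical
  rw [sum_pieceVal_mul]
  refine Finset.sum_eq_zero fun d _ => Finset.sum_eq_zero fun d' _ => ?_
  by_cases h1 : subgroupBlockCoeff (Cz u) f d = 0
  · rw [h1, zero_mul, zero_mul]
  by_cases h2 : subgroupBlockCoeff (Cz w) f' d' = 0
  · rw [h2, map_zero, mul_zero, zero_mul]
  obtain ⟨hd, hr⟩ := regular_of_coeff_ne hM hf h1
  obtain ⟨hd', hr'⟩ := regular_of_coeff_ne hM hf' h2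
  rw [sum_irr_mul_conj, if_neg, mul_zero]
  intro hc
  obtain ⟨t, ht⟩ := isConj_iff.1 hc
  exact h (isConj_iff.2 ⟨t, by rw [← pElt_conj_eq hM hu hd hr t, ht, pElt_mul hM hw hd' hr']⟩)

open scoped Classical in
/-- Blocks of one centralizer have orthogonal sections. -/
theorem sum_pieceVal_same (hM : IsPModular p M) [Fintype (IrrCharacter G)] {u : G}
    (hu : ∃ k : ℕ, orderOf u = p ^ k) {f f' : Set (IrrCharacter (Cz u))} (hf : IsPBlock M f)
    (hf' : IsPBlock M f') :
    ∑ χ : IrrCharacter G, pieceVal u f (χ : G → ℂ) u * conj (pieceVal u f' (χ : G → ℂ) u) =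
      if f = f' then ∑ᶠ η ∈ f, (η : Cz u → ℂ) 1 * conj ((η : Cz u → ℂ) 1) else 0 := by
  haveI := Fintype.ofFinite (IrrCharacter (Cz u))
  have hterm : ∀ d d' : Cz u, ¬ p ∣ orderOf (d : G) → ¬ p ∣ orderOf (d' : G) →
      (∑ χ : IrrCharacter G, (χ : G → ℂ) (u * d) * conj ((χ : G → ℂ) (u * d'))) =
        ∑ η : IrrCharacter (Cz u), (η : Cz u → ℂ) d * conj ((η : Cz u → ℂ) d') := by
    intro d d' hr hr'
    rw [sum_irr_mul_conj, sum_irr_mul_conj]
    have hiff : IsConj (u * (d : G)) (u * (d' : G)) ↔ IsConj d d' := by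
      constructor
      · intro hc
        obtain ⟨t, ht⟩ := isConj_iff.1 hc
        have htu : t * u * t⁻¹ = u := by
          rw [← pElt_conj_eq hM hu d.2 hr t, ht, pElt_mul hM hu d'.2 hr']
        have htC : t ∈ Cz u := (mem_Cz_iff u t).2 (mul_inv_eq_iff_eq_mul.1 htu).symm
        refine isConj_iff.2 ⟨⟨t, htC⟩, Subtype.ext ?_⟩
        refine mul_left_cancel (a := u) ?_
        rw [← ht]
        show u * (t * (d : G) * t⁻¹) = t * (u * (d : G)) * t⁻¹
        calc u * (t * (d : G) * t⁻¹) = t * u * t⁻¹ * (t * (d : G) * t⁻¹) :=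
              congrArg (· * (t * (d : G) * t⁻¹)) htu.symm
          _ = t * (u * (d : G)) * t⁻¹ := by group
      · intro hc
        obtain ⟨t, ht⟩ := isConj_iff.1 hc
        refine isConj_iff.2 ⟨(t : G), ?_⟩
        rw [← ht]
        show (t : G) * (u * (d : G)) * (t : G)⁻¹ = u * ((t : G) * (d : G) * (t : G)⁻¹)
        have h := ((mem_Cz_iff u (t : G)).1 t.2).eq
        simp only [← mul_assoc, h]
    by_cases hc : IsConj d d'
    · rw [if_pos (hiff.2 hc), if_pos hc]
      congr 1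
      refine Nat.card_congr
        { toFun := fun x => ⟨⟨(x : G), ?_⟩, ?_⟩
          invFun := fun x => ⟨((x : Cz u) : G), ?_⟩
          left_inv := fun x => rfl
          right_inv := fun x => rfl }
      · have hx := Subgroup.mem_centralizer_singleton_iff.1 x.2
        have : (x : G) * u * (x : G)⁻¹ = u := by
          rw [← pElt_conj_eq hM hu d.2 hr (x : G), hx, mul_inv_cancel_right, pElt_mul hM hu d.2 hr]
        exact (mem_Cz_iff u (x : G)).2 (mul_inv_eq_iff_eq_mul.1 this).symm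
      · have hx := Subgroup.mem_centralizer_singleton_iff.1 x.2
        refine Subgroup.mem_centralizer_singleton_iff.2 (Subtype.ext (mul_left_cancel (a := u) ?_))
        have : (x : G) * u * (x : G)⁻¹ = u := by
          rw [← pElt_conj_eq hM hu d.2 hr (x : G), hx, mul_inv_cancel_right, pElt_mul hM hu d.2 hr]
        show u * ((x : G) * (d : G)) = u * ((d : G) * (x : G))
        rw [← mul_assoc, ← (mul_inv_eq_iff_eq_mul.1 this), mul_assoc, ← mul_assoc u, hx, mul_assoc]
      · have hx : ((x : Cz u) : G) * (d : G) = (d : G) * ((x : Cz u) : G) :=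
          congrArg Subtype.val (Subgroup.mem_centralizer_singleton_iff.1 x.2)
        refine Subgroup.mem_centralizer_singleton_iff.2 ?_
        rw [← mul_assoc, ← ((mem_Cz_iff u _).1 x.1.2).eq, mul_assoc, hx, mul_assoc]
    · rw [if_neg (mt hiff.1 hc), if_neg hc]
  rw [sum_pieceVal_mul]
  have h1 : ∀ (g : Set (IrrCharacter (Cz u))) (F : G → ℂ), ∑ d : G, subgroupBlockCoeff (Cz u) g d * F d
      = ∑ d : Cz u, blockCoeff g d * F d := fun g F => by
    rw [subgroupBlockCoeff_eq_extendByZero, sum_extendByZero_mul]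
  have h2 : ∀ d : G, ∑ d' : G, subgroupBlockCoeff (Cz u) f d *
      conj (subgroupBlockCoeff (Cz u) f' d') *
        (∑ χ : IrrCharacter G, (χ : G → ℂ) (u * d) * conj ((χ : G → ℂ) (u * d'))) =
      subgroupBlockCoeff (Cz u) f d * conj (∑ d' : Cz u, blockCoeff f' d' *
        conj (∑ χ : IrrCharacter G, (χ : G → ℂ) (u * d) * conj ((χ : G → ℂ) (u * (d' : G))))) := fun d => by
    rw [← h1 f' (fun d' => conj (∑ χ : IrrCharacter G, (χ : G → ℂ) (u * d) * conj ((χ : G → ℂ) (u * d')))),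
      map_sum, Finset.mul_sum]
    exact Finset.sum_congr rfl fun d' _ => by rw [map_mul, Complex.conj_conj]; ring
  rw [Finset.sum_congr rfl fun d _ => h2 d, h1 f]
  have h3 : ∀ d : Cz u, blockCoeff f d * conj (∑ d' : Cz u, blockCoeff f' d' *
        conj (∑ χ : IrrCharacter G, (χ : G → ℂ) (u * (d : G)) * conj ((χ : G → ℂ) (u * (d' : G))))) =
      ∑ η : IrrCharacter (Cz u), blockCoeff f d * (η : Cz u → ℂ) d *
        conj (∑ d' : Cz u, blockCoeff f' d' * (η : Cz u → ℂ) d') := fun d => by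
    by_cases hd : blockCoeff f d = 0
    · simp [hd]
    have hr : ¬ p ∣ orderOf (d : G) := fun h => hd (blockCoeff_eq_zero_of_dvd hM hf
      (by rwa [← Subgroup.orderOf_coe]))
    simp only [map_sum, map_mul, Complex.conj_conj, Finset.mul_sum]
    rw [Finset.sum_comm (s := (Finset.univ : Finset (IrrCharacter (Cz u))))]
    refine Finset.sum_congr rfl fun d' _ => ?_
    by_cases hd' : blockCoeff f' d' = 0
    · simp [hd']
    have hr' : ¬ p ∣ orderOf (d' : G) := fun h => hd' (blockCoeff_eq_zero_of_dvd hM hf'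
      (by rwa [← Subgroup.orderOf_coe]))
    rw [← Finset.mul_sum, ← Finset.mul_sum, hterm d d' hr hr', Finset.mul_sum, Finset.mul_sum]
    exact Finset.sum_congr rfl fun η _ => by ring
  rw [Finset.sum_congr rfl fun d _ => h3 d, Finset.sum_comm]
  have h4 : ∀ (g : Set (IrrCharacter (Cz u))) (η : IrrCharacter (Cz u)),
      ∑ d : Cz u, blockCoeff g d * (η : Cz u → ℂ) d = if η ∈ g then (η : Cz u → ℂ) 1 else 0 := fun g η => by
    rw [← Blocks.blockPart_irr g η 1, ← sum_blockCoeff_mul_eq_blockPart g (irr_isClassFunction η) 1]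
    simp only [mul_one]
  simp only [← Finset.sum_mul, h4]
  split_ifs with h
  · subst h
    rw [finsum_irr_eq_sum_ite]
    exact Finset.sum_congr rfl fun η _ => by split_ifs <;> simp
  · refine Finset.sum_eq_zero fun η _ => ?_
    split_ifs with ha hb <;> simp
    exact absurd (IsPBlock.eq_of_mem hf hf' ha hb) h

end Cfsg.Agent.Lib.FreeQuot
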