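import Cfsg.Agent.Lib.FreeQuot.Source
import Cfsg.Agent.Lib.FreeQuot.Orth
import Cfsg.Agent.Lib.BrauerStar.NilIntegral
import Cfsg.Agent.Lib.BrauerStar.NilBij
import Cfsg.Agent.Lib.BrauerStar.Watanabe
import Cfsg.Agent.Lib.Blocks.CyclicDefect

/-!
# The functions attached to the nilpotent blocks of the centralizers
-/

set_option autoImplicit false
set_option linter.unusedSectionVars false
set_option linter.style.haveILetI false

namespace Cfsg.Agent.Lib.FreeQuot

open Cfsg Cfsg.Agent.Lib.Blocks Cfsg.Agent.Lib.Characters Cfsg.Agent.Lib.BrauerStar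
  Cfsg.Agent.Lib.BlockHeights Cfsg.Agent.Lib.BrauerPairs
open scoped ComplexConjugate

universe u

variable {G : Type u} [Group G] [Fintype G] {M : Ideal AlgInt} [hMp : M.IsPrime] {p : ℕ}
  {B : Set (IrrCharacter G)} {P : Subgroup G}
  {c : Set (IrrCharacter (Subgroup.centralizer (P : Set G)))}

noncomputable local instance fintypeSubgroupLocal (H : Subgroup G) : Fintype H := Fintype.ofFinite H

/-- The multiplicity of the idempotent at a subgroup, up to sign. -/
def IsLevel (q : ℕ) (i : RG M G) (Q : Subgroup G) (R : ℤ) : Prop :=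
  ∀ j : RG M (Subgroup.centralizer (Q : Set G)), IsPieceAt i j →
    rho j = (q : ℂ) * ((R : ℂ) * (R : ℂ))

theorem IsLevel.sq_eq (hM : IsPModular p M) {q : ℕ} (hq : q ≠ 0) {i : RG M G} {Q : Subgroup G}
    (hP : IsPGroup p P) (hQP : Q ≤ P) (hi : i ∈ fixV M P 1) (hii : i * i = i) {R R' : ℤ}
    (h : IsLevel q i Q R) (h' : IsLevel q i Q R') :
    (R : ℂ) * (R : ℂ) = (R' : ℂ) * (R' : ℂ) := by
  obtain ⟨j, hj⟩ := exists_pieceAt hM (hP.to_le hQP) (fixV_mono hQP 1 hi) hii
  exact mul_left_cancel₀ (Nat.cast_ne_zero.2 hq) ((h j hj).symm.trans (h' j hj))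

theorem inBlock_of_brZero (hM : IsPModular p M) {V : Subgroup G}
    {f : Set (IrrCharacter (Subgroup.centralizer (V : Set G)))} (hf : IsPBlock M f) {i : RG M G}
    {j : RG M (Subgroup.centralizer (V : Set G))} (hj : IsPieceAt i j)
    (h : BrZero V (ef M (Subgroup.centralizer (V : Set G)) f * i - i)) : InBlock M f j := by
  intro k
  have h1 := h k k.2
  rw [coef_sub, Pi.sub_apply, coef_mul, coef_ef hM hf, subgroupBlockCoeff_eq_extendByZero,
    conv, sum_extendByZero_mul] at h1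
  have hd : MemLocalIdeal M (conv (blockCoeff f) (coef j) k -
      ∑ a, blockCoeff f a * coef i ((a : G)⁻¹ * (k : G))) := by
    rw [conv, ← Finset.sum_sub_distrib]
    refine memLocalIdeal_sum _ fun a _ => ?_
    rw [← mul_sub]
    refine memLocalIdeal_mul_left ((isRCentral_blockCoeff hM hf).2 a) ?_
    exact hj.2 (a⁻¹ * k)
  have h2 := memLocalIdeal_sub (memLocalIdeal_add hd h1) (hj.2 k)
  convert h2 using 1
  ring

/-- An idempotent piece fixed by a subgroup. -/
theorem exists_pieceAt_fix (hM : IsPModular p M) {V U : Subgroup G} (hV : IsPGroup p V)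
    {i : RG M G} (hi : i ∈ fixV M V 1) (hiU : i ∈ fixV M U 1) (hii : i * i = i) :
    ∃ j : RG M (Subgroup.centralizer (V : Set G)), IsPieceAt i j ∧
      j ∈ fixV M (U.subgroupOf (Subgroup.centralizer (V : Set G))) 1 := by
  set C := Subgroup.centralizer (V : Set G)
  set r : RG M C := ofFun (resFun C (coef i)) fun k => memLocalRing_coef i k with hr
  have hcr : coef r = resFun C (coef i) := coef_ofFun _ _
  have hrr : BrZero ⊥ (r * r - r) := brZero_bot_iff.2 fun k => by
    rw [coef_sub, Pi.sub_apply, coef_mul, hcr]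
    have h := memLocalIdeal_neg (resFun_mul_congr hM hV hi hi k)
    rw [neg_sub, hii] at h
    exact h
  obtain ⟨Q, S, T, hQ0, hQ1, hid, -, -⟩ := exists_fitting (monicSplits_locSubring (M := M)) r
  refine ⟨Polynomial.aeval r Q, ⟨hid.eq, fun k => ?_⟩, ?_⟩
  · have h1 := brZero_aeval hM (IsPGroup.of_bot (p := p)) (mem_fixV_bot r) hrr Q
    rw [hQ0, hQ1, zero_smul, zero_add, sub_zero, one_smul] at h1
    have h2 := brZero_bot_iff.1 h1 k
    rw [coef_sub, Pi.sub_apply, hcr] at h2
    exact h2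
  · refine aeval_mem (S := fixV M (U.subgroupOf C) 1) ?_ Q
    refine mem_fixV.2 ⟨fun w hw => cj_eq_self_iff.2 fun k => ?_, cj_one r⟩
    rw [hcr]
    exact cj_eq_self_iff.1 ((mem_fixV.1 hiU).1 (w : G) (Subgroup.mem_subgroupOf.1 hw)) (k : G)

/-- The free action. -/
def IsFree (P : Subgroup G) (c : Set (IrrCharacter (Subgroup.centralizer (P : Set G)))) : Prop :=
  ∀ t ∈ pairStab P c, ∀ v ∈ P, v ≠ 1 → t * v * t⁻¹ = v → t ∈ Subgroup.centralizer (P : Set G)

theorem fix_of_free (hfree : IsFree P c) {Q : Subgroup G} (hQP : Q ≤ P) (hQ1 : Q ≠ ⊥) :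
    ∀ g ∈ Subgroup.centralizer (Q : Set G), g ∈ pairStab P c →
      g ∈ Subgroup.centralizer (P : Set G) := by
  intro g hg hgT
  obtain ⟨⟨w, hw⟩, hw1⟩ := Subgroup.ne_bot_iff_exists_ne_one.1 hQ1
  refine hfree g hgT w (hQP hw) (fun h => hw1 (Subtype.ext h)) ?_
  rw [← Subgroup.mem_centralizer_iff.1 hg w hw, mul_inv_cancel_right]

/-- The data of a section. -/
theorem exists_section_data (hM : IsPModular p M) (hmax : IsMaximalBrauerPair p M B P c)
    (hab : ∀ x ∈ P, ∀ y ∈ P, x * y = y * x) (hfree : IsFree P c) {v : G} (hv : v ∈ P)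
    (hv1 : v ≠ 1) :
    ∃ (f : Set (IrrCharacter (Subgroup.centralizer (Subgroup.zpowers v : Set G))))
      (d : IrrCharacter G → ℂ) (m : ℕ),
      SubpairLE p M (Subgroup.zpowers v) f P c ∧ IsPBlock M f ∧ blockRank p f = 1 ∧ 0 < m ∧
      (∀ χ, IsIntegral ℤ (d χ) ∧
        pieceVal v f (χ : G → ℂ) v = d χ * (m : ℂ) ∧ (d χ = 0 → sect p v f (χ : G → ℂ) = 0)) ∧
      ∑ᶠ η ∈ f, (η : Subgroup.centralizer (Subgroup.zpowers v : Set G) → ℂ) 1 *
          conj ((η : Subgroup.centralizer (Subgroup.zpowers v : Set G) → ℂ) 1) =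
        (Nat.card P : ℂ) * (m : ℂ) * (m : ℂ) ∧
      (∀ i : RG M G, i ∈ fixV M P 1 → i * i = i →
        BrZero (Subgroup.zpowers v)
          (ef M (Subgroup.centralizer (Subgroup.zpowers v : Set G)) f * i - i) →
        ∃ R : ℤ, IsLevel (Nat.card P) i (Subgroup.zpowers v) R ∧
          ∀ χ : IrrCharacter G, ev (χ : G → ℂ) (el v * i) = (R : ℂ) * d χ) ∧
      ∃ r : (Subgroup.centralizer (Subgroup.zpowers v : Set G)) → ℂ,
        (∀ χ : IrrCharacter G, sect p v f (χ : G → ℂ) = d χ • r) ∧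
        ∀ x : Subgroup.centralizer (Subgroup.zpowers v : Set G), IsPRegular p x →
          MemLocalRing M (r x) ∧ MemLocalRing M ((Nat.card P : ℂ) * r x /
            (Nat.card (Subgroup.centralizer ({v * (x : G)} : Set G)) : ℂ)) := by
  classical
  haveI := Fact.mk hM.1
  have hQP : Subgroup.zpowers v ≤ P := Subgroup.zpowers_le.2 hv
  have hPH : P ≤ Subgroup.centralizer (Subgroup.zpowers v : Set G) := le_normalizer_of_comm hab hQP
  obtain ⟨f, hf⟩ := exists_inducedIn hM hmax.1.1.1 hPH hab (Subgroup.centralizer_le hQP) hmax.1.1.2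
  obtain ⟨hle, c', hmax'⟩ := inducedIn_local hM hmax hab hQP hf
  have hnil := (isNilpotent_inducedIn_iff hM hmax hab hQP hf).2
    (fix_of_free hfree hQP (by rwa [Ne, Subgroup.zpowers_eq_bot]))
  have hl := (nilpotent_rank_one hM hnil).1
  have hu : ∃ k : ℕ, orderOf v = p ^ k := orderOf_pow_of_mem hM hmax hv
  obtain ⟨d, m, hm, hd, hsum, hval, r, hr, hr'⟩ := piece_value hM hu hmax'.1.2.1 (isDefectGroup_of_isMaximal hM hmax') hl
  have hcard : Nat.card (P.subgroupOf (Subgroup.centralizer (Subgroup.zpowers v : Set G))) = Nat.card P :=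
    Nat.card_congr (Subgroup.subgroupOfEquivOfLe hPH).toEquiv
  rw [hcard] at hsum hr'
  refine ⟨f, d, m, hle, hmax'.1.2.1, hl, hm, fun χ => ⟨(hd χ).1, (hd χ).2.1, (hd χ).2.2.1⟩, hsum, ?_,
    r, hr, hr'⟩
  intro i hi hii hbr
  have hiv := fixV_mono (M := M) hQP (1 : G) hi
  obtain ⟨j, hj⟩ := exists_pieceAt hM (hmax.1.1.1.to_le hQP) hiv hii
  obtain ⟨R, hR, hRv⟩ := hval i hiv hii j hj (inBlock_of_brZero hM hmax'.1.2.1 hj hbr)
  refine ⟨R, fun j' hj' => ?_, hRv⟩
  rw [hcard] at hR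
  rw [← hR]
  refine rho_congr hM (MulEquiv.refl _) hj'.1 hj.1 fun k => ?_
  have h := memLocalIdeal_sub (hj.2 k) (hj'.2 k)
  rw [sub_sub_sub_cancel_right] at h
  exact h

set_option maxHeartbeats 1000000 in
/-- The function attached to a nontrivial subgroup of the defect group. -/
theorem exists_local_fun (hM : IsPModular p M) (hmax : IsMaximalBrauerPair p M B P c)
    (hab : ∀ x ∈ P, ∀ y ∈ P, x * y = y * x) (hfree : IsFree P c)
    {P₀ : Type u} [CommGroup P₀] [Fintype P₀] [Fintype (P₀ →* ℂˣ)] (ι : P₀ →* G)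
    (hι : ∀ v, ι v ∈ P) {i : RG M G} (hi : i ∈ fixV M P 1) (hii : i * i = i)
    (hbelow : ∀ (V : Subgroup G) (fV : Set (IrrCharacter (Subgroup.centralizer (V : Set G)))),
      SubpairLE p M V fV P c → BrZero V (ef M (Subgroup.centralizer (V : Set G)) fV * i - i))
    {W : Subgroup G} (hWP : W ≤ P) (hW1 : W ≠ ⊥) :
    ∃ g : P₀ → ℂ, g ∈ coeffRing (okRing M) ∧ ∀ v, ∃ (R : ℤ) (d : ℂ),
      IsIntegral ℤ d ∧ d * conj d = 1 ∧ g v = (R : ℂ) * d ∧
        IsLevel (Nat.card P) i (W ⊔ Subgroup.zpowers (ι v)) R := by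
  classical
  haveI := Fact.mk hM.1
  set H := Subgroup.centralizer (W : Set G) with hHdef
  have hPH : P ≤ H := le_normalizer_of_comm hab hWP
  have hCH : Subgroup.centralizer (P : Set G) ≤ H := Subgroup.centralizer_le hWP
  obtain ⟨f, hf⟩ := exists_inducedIn hM hmax.1.1.1 hPH hab hCH hmax.1.1.2
  obtain ⟨P', c', hmax', hpush⟩ := exists_local_pair hM hmax hPH hCH hf
  have hnil := (isNilpotent_inducedIn_iff hM hmax hab hWP hf).2 (fix_of_free hfree hWP hW1)
  have habP' := hab_local hab hpush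
  have hP'card : Nat.card P' = Nat.card P := by
    have h : P'.map H.subtype = P := hpush.1
    rw [← h, Subgroup.card_map_of_injective H.subtype_injective]
  obtain ⟨θ, hθ, hθmin⟩ := exists_nu_eq_minExp (p := p) (IsPBlock.nonempty hmax'.1.2.1)
  have hθ0 : blockHeight p f (θ : H → ℂ) = 0 := by
    have := minExp_add_blockHeight (p := p) hθ
    omega
  obtain ⟨J, hJ, hJfix⟩ := exists_pieceAt_fix (U := P) hM (hmax.1.1.1.to_le hWP)
    (fixV_mono hWP 1 hi) hi hii
  let ιH : P₀ →* H := ι.codRestrict H fun v => hPH (hι v)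
  have hιH : ∀ v, ((ιH v : H) : G) = ι v := fun v => rfl
  have hιP' : ∀ v, ιH v ∈ P' := fun v => (mem_local_iff hpush).2 (hι v)
  have hcomm : ∀ v, Commute (el (ιH v) : RG M H) J := fun v =>
    commute_el_iff.2 ((mem_fixV.1 hJfix).1 _ (Subgroup.mem_subgroupOf.2 (hι v)))
  refine ⟨fun v => ev (θ : H → ℂ) (el (ιH v) * J), ev_coeffRing hM θ ιH hJ.1 hcomm, fun v => ?_⟩
  set u : H := ιH v with hu
  have huP' : u ∈ P' := hιP' v
  have hQ'P' : Subgroup.zpowers u ≤ P' := Subgroup.zpowers_le.2 huP'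
  obtain ⟨f', hf', hle'⟩ := exists_subpairLE hM hmax'.1.1 hQ'P'
  have hpair' := isBrauerPairOf_of_subpairLE hM hmax' hle'
  obtain ⟨hnil', hdef'⟩ := nilpotent_pairs hM hmax' hnil hpair'
  have hl' := (nilpotent_rank_one hM hnil').1
  have hinf : P' ⊓ Subgroup.centralizer (Subgroup.zpowers u : Set H) = P' :=
    inf_eq_left.2 (le_normalizer_of_comm habP' hQ'P')
  have hDcard : Nat.card ((P' ⊓ Subgroup.centralizer (Subgroup.zpowers u : Set H)).subgroupOf
      (Subgroup.centralizer (Subgroup.zpowers u : Set H))) = Nat.card P := by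
    rw [Nat.card_congr (Subgroup.subgroupOfEquivOfLe inf_le_right).toEquiv, hinf, hP'card]
  obtain ⟨d, m, -, hd, -, hval, -⟩ := piece_value hM (orderOf_pow_of_mem hM hmax' huP') hf'.2
    (hdef' hle') hl'
  -- the norm of the height zero character
  have hF := isBlockFusionSystemOn_blockFusion hM hmax'
  have hin : IsInnerFusion (blockFusion hM hmax') := (isNilpotentBlock_iff hM hF).1 hnil
  have hN := norms_eq_one hM hmax' hF hin hnil (localRankOne_of_nilpotent hM hmax' hnil) hθ hθ0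
    ⟨u, huP'⟩ f' hle'
  have hcc : centCard (⟨u, huP'⟩ : P') = Nat.card P := by
    rw [← hP'card, centCard]
    refine Nat.card_congr (Equiv.subtypeUnivEquiv fun y => ?_)
    exact Subgroup.mem_centralizer_singleton_iff.2 (Subtype.ext (habP' _ y.2 _ huP'))
  have hdd : d θ * conj (d θ) = 1 := by
    rw [← (hd θ).2.2.2, hDcard, ← hcc]
    exact hN
  -- the pair of the join
  set Q : Subgroup G := W ⊔ Subgroup.zpowers (ι v) with hQdef
  have hQP : Q ≤ P := sup_le hWP (Subgroup.zpowers_le.2 (hι v))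
  have hCQH : Subgroup.centralizer (Q : Set G) ≤ H :=
    Subgroup.centralizer_le (le_sup_left : W ≤ Q)
  have hCQu : ∀ k : H, k ∈ Subgroup.centralizer (Subgroup.zpowers u : Set H) ↔
      (k : G) ∈ Subgroup.centralizer (Q : Set G) := by
    intro k
    rw [mem_centralizer_zpowers_iff]
    constructor
    · intro hk
      have hle : Q ≤ Subgroup.centralizer ({(k : G)} : Set G) := by
        refine sup_le (fun w hw => ?_) (Subgroup.zpowers_le.2 ?_)
        · exact Subgroup.mem_centralizer_singleton_iff.2 (Subgroup.mem_centralizer_iff.1 k.2 w hw)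
        · exact Subgroup.mem_centralizer_singleton_iff.2 (congrArg Subtype.val hk.eq)
      exact Subgroup.mem_centralizer_iff.2 fun y hy => Subgroup.mem_centralizer_singleton_iff.1 (hle hy)
    · intro hk
      exact Subtype.ext (Subgroup.mem_centralizer_iff.1 hk (ι v)
        ((le_sup_right : _ ≤ Q) (Subgroup.mem_zpowers _)))
  set Q' : Subgroup H := Q.subgroupOf H with hQ'def
  have hQH : Q ≤ H := hQP.trans hPH
  have hQmap : Q'.map H.subtype = Q := Subgroup.map_subgroupOf_eq_of_le hQH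
  have hQ'le : Q' ≤ P' := fun k hk => (mem_local_iff hpush).2 (hQP (Subgroup.mem_subgroupOf.1 hk))
  have hu'Q : Subgroup.zpowers u ≤ Q' := Subgroup.zpowers_le.2
    (Subgroup.mem_subgroupOf.2 ((le_sup_right : _ ≤ Q) (Subgroup.mem_zpowers _)))
  obtain ⟨r', hr', hr'le⟩ := exists_subpairLE hM hmax'.1.1 hQ'le
  obtain ⟨⟨Q₁, r⟩, hr⟩ := exists_push (⟨Q', r'⟩ : BrauerPairIdx H)
    (by show Subgroup.centralizer ((Q'.map H.subtype : Subgroup G) : Set G) ≤ H; rw [hQmap]; exact hCQH)
  have hQ₁ : Q'.map H.subtype = Q₁ := hr.1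
  obtain rfl : Q = Q₁ := hQmap.symm.trans hQ₁
  have hrle : SubpairLE p M Q r P c := subpairLE_push (Q := Q) hCQH hr hpush le_rfl hr'le
  have hCeq : Subgroup.centralizer (Q' : Set H) = Subgroup.centralizer (Subgroup.zpowers u : Set H) := by
    refine le_antisymm (Subgroup.centralizer_le hu'Q) fun k hk => ?_
    exact Subgroup.mem_centralizer_iff.2 fun y hy =>
      Subtype.ext (Subgroup.mem_centralizer_iff.1 ((hCQu k).1 hk) (y : G) (Subgroup.mem_subgroupOf.1 hy))
  obtain ⟨q₁, hq₁, -, hq₁B⟩ := exists_block_congr (p := p) hCeq hr'.2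
  have hQ'N : Q' ≤ Subgroup.centralizer (Subgroup.zpowers u : Set H) :=
    hQ'le.trans (le_normalizer_of_comm habP' (Subgroup.zpowers_le.2 huP'))
  have hnormal : IsNormalSubpair p M (Subgroup.zpowers u) q₁ Q' r' := by
    refine ⟨⟨IsPGroup.to_le hr'.1 hu'Q, hq₁B⟩, hr', hu'Q,
      hQ'N.trans (centralizer_le_normalizer' _), fun x hx => ?_, fun ξ hξ => ?_⟩
    · rw [stabilizesBlock_iff (normalizer_le_normalizer_centralizer _
        ((hQ'N.trans (centralizer_le_normalizer' _)) hx))]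
      exact gconj_eq_self_iff.2 fun y => isPInv_subgroupBlockCoeff_self _ _ (hQ'N hx) y
    · rw [hq₁, brauerOmega_eq_omega, show resFun (Subgroup.centralizer (Q' : Set H))
          (subgroupBlockCoeff (Subgroup.centralizer (Q' : Set H)) r') = blockCoeff r' from
        funext fun x => subgroupBlockCoeff_of_mem r' x.2, omega_blockCoeff, if_pos hξ, sub_self]
      exact memLocalIdeal_zero
  obtain rfl : f' = q₁ := subpairLE_unique hM hmax'.1.1 hle'
    (Relation.ReflTransGen.head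
      (show NormalSubpairRel p M (⟨Subgroup.zpowers u, q₁⟩ : BrauerPairIdx H) ⟨Q', r'⟩ from hnormal)
      hr'le)
  have hcoef : subgroupBlockCoeff (Subgroup.centralizer (Q : Set G)) r =
      extendByZero H (subgroupBlockCoeff (Subgroup.centralizer (Subgroup.zpowers u : Set H)) f') := by
    rw [hq₁]; exact hr.2
  have hrB : IsPBlock M r := (isBrauerPair_of_subpairLE hmax.1.1 hrle).2
  have hJu : J ∈ fixV M (Subgroup.zpowers u) 1 := fixV_mono (Subgroup.zpowers_le.2
    (Subgroup.mem_subgroupOf.2 (hι v) : u ∈ P.subgroupOf H)) 1 hJfix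
  have hbr : BrZero (Subgroup.zpowers u)
      (ef M (Subgroup.centralizer (Subgroup.zpowers u : Set H)) f' * J - J) := by
    intro k hk
    have h1 := hbelow Q r hrle (k : G) ((hCQu k).1 hk)
    rw [coef_sub, Pi.sub_apply, coef_mul, coef_ef hM hrB, hcoef, conv, sum_extendByZero_mul] at h1
    rw [coef_sub, Pi.sub_apply, coef_mul, coef_ef hM hf'.2, conv]
    have hd' : MemLocalIdeal M
        ((∑ a : H, subgroupBlockCoeff (Subgroup.centralizer (Subgroup.zpowers u : Set H)) f' a *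
          coef J (a⁻¹ * k)) -
        ∑ a : H, subgroupBlockCoeff (Subgroup.centralizer (Subgroup.zpowers u : Set H)) f' a *
          coef i ((a : G)⁻¹ * (k : G))) := by
      rw [← Finset.sum_sub_distrib]
      refine memLocalIdeal_sum _ fun a _ => ?_
      rw [← mul_sub]
      exact memLocalIdeal_mul_left (memLocalRing_subgroupBlockCoeff hM hf'.2 a) (hJ.2 (a⁻¹ * k))
    have h2 := memLocalIdeal_sub (memLocalIdeal_add hd' h1) (hJ.2 k)
    convert h2 using 1
    ring
  obtain ⟨j, hj⟩ := exists_pieceAt hM (hmax'.1.1.1.to_le hQ'P') hJu hJ.1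
  obtain ⟨R, hR, hRv⟩ := hval J hJu hJ.1 j hj (inBlock_of_brZero hM hf'.2 hj hbr)
  refine ⟨R, d θ, (hd θ).1, hdd, hRv θ, fun jG hjG => ?_⟩
  rw [hDcard] at hR
  rw [← hR]
  symm
  let E : (Subgroup.centralizer (Subgroup.zpowers u : Set H)) ≃*
      (Subgroup.centralizer (Q : Set G)) :=
    { toFun := fun k => ⟨((k : H) : G), (hCQu k).1 k.2⟩
      invFun := fun k => ⟨⟨(k : G), hCQH k.2⟩, (hCQu _).2 k.2⟩
      left_inv := fun k => rfl
      right_inv := fun k => rfl
      map_mul' := fun a b => rfl }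
  refine rho_congr hM E hj.1 hjG.1 fun k => ?_
  have h := memLocalIdeal_sub (memLocalIdeal_sub (hjG.2 (E k)) (hJ.2 (k : H))) (hj.2 k)
  convert h using 1
  show _ = coef jG (E k) - coef i ((k : H) : G) - (coef J (k : H) - coef i ((k : H) : G)) -
    (coef j k - coef J (k : H))
  ring

end Cfsg.Agent.Lib.FreeQuot
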