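import Cfsg.Prelude.Def_BlockLocal
import Mathlib.Algebra.Group.Subgroup.Finite
import Mathlib.Tactic

/-!
# Tables of blocks with freely acting inertial quotient
-/

set_option autoImplicit false

namespace Cfsg.Agent.Lib.FreeQuot

open Cfsg

universe u v

variable {A : Type v} [Group A]

/-- The orbit sum of a linear character. -/
noncomputable def orbSum (Γ : Subgroup (MulAut A)) (lam : A →* ℂˣ) (v : A) : ℂ :=
  ∑ᶠ γ : Γ, ((lam ((γ : MulAut A) v) : ℂˣ) : ℂ)

open scoped Classical in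
/-- The entry of the table: an orbit sum on the labelled members, one elsewhere. -/
noncomputable def tableVal {X : Type*} {t : ℕ} (Γ : Subgroup (MulAut A)) (y : Fin t → X)
    (lam : Fin t → A →* ℂˣ) (χ : X) (v : A) : ℂ :=
  if h : ∃ i, y i = χ then orbSum Γ (lam h.choose) v else 1

theorem tableVal_apply {X : Type*} {t : ℕ} (Γ : Subgroup (MulAut A)) {y : Fin t → X}
    (hy : Function.Injective y) (lam : Fin t → A →* ℂˣ) (i : Fin t) (v : A) :
    tableVal Γ y lam (y i) v = orbSum Γ (lam i) v := by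
  have h : ∃ j, y j = y i := ⟨i, rfl⟩
  rw [tableVal, dif_pos h, hy h.choose_spec]

theorem tableVal_of_not {X : Type*} {t : ℕ} (Γ : Subgroup (MulAut A)) (y : Fin t → X)
    (lam : Fin t → A →* ℂˣ) {χ : X} (h : ∀ i, χ ≠ y i) (v : A) : tableVal Γ y lam χ v = 1 :=
  dif_neg fun ⟨i, hi⟩ => h i hi.symm

/-- The labels, signs and characters of a table. -/
def IsTableData {G : Type u} [Group G] (M : Ideal AlgInt) (p : ℕ) (B : Set (IrrCharacter G))
    (Γ : Subgroup (MulAut A)) (t : ℕ) (y : Fin t → IrrCharacter G) (σ : IrrCharacter G → ℤ)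
    (lam : Fin t → A →* ℂˣ) : Prop :=
    t * Nat.card Γ + 1 = Nat.card A ∧ Nat.card B = t + Nat.card Γ ∧ Function.Injective y ∧
    (∀ i, y i ∈ B) ∧ (∀ χ, σ χ * σ χ = 1) ∧ (∀ i, lam i ≠ 1) ∧
    (∀ mu : A →* ℂˣ, mu ≠ 1 → ∃ i, ∃ γ ∈ Γ, ∀ v, mu v = lam i (γ v)) ∧
    (∀ v : A, v ≠ 1 → ∀ x : G, IsPRegular p x →
      ∑ᶠ χ ∈ B, (σ χ : ℂ) * tableVal Γ y lam χ v * (χ : G → ℂ) x = 0) ∧
    ∀ x : G, ¬ IsPRegular p x → ∃ (J : Type u) (T : Finset J) (w : J → A) (a : J → ℂ),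
      (∀ j ∈ T, w j ≠ 1 ∧ MemLocalRing M (a j) ∧ MemLocalRing M ((Nat.card A : ℂ) * a j /
        (Nat.card (Subgroup.centralizer ({x} : Set G)) : ℂ))) ∧
      ∀ χ ∈ B, (χ : G → ℂ) x = ∑ j ∈ T, a j * ((σ χ : ℂ) * tableVal Γ y lam χ (w j))

/-- The block has the character table of the semidirect product of `A` with `Γ` on the singular
elements, up to signs. -/
def IsTable {G : Type u} [Group G] (M : Ideal AlgInt) (p : ℕ) (B : Set (IrrCharacter G))
    (Γ : Subgroup (MulAut A)) : Prop :=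
  ∃ (t : ℕ) (y : Fin t → IrrCharacter G) (σ : IrrCharacter G → ℤ) (lam : Fin t → A →* ℂˣ),
    IsTableData M p B Γ t y σ lam

end Cfsg.Agent.Lib.FreeQuot
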