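import Cfsg.Agent.Lib.FreeQuot.Local
import Cfsg.Agent.Lib.FreeQuot.Core
import Cfsg.Agent.Lib.FreeQuot.Table
import Cfsg.Agent.Lib.Blocks.DefectZero
import Cfsg.Agent.S4649

/-!
# Blocks with abelian defect group and freely acting abelian inertial quotient
-/

set_option autoImplicit false
set_option linter.unusedSectionVars false
set_option linter.style.haveILetI false

namespace Cfsg.Agent.Lib.FreeQuot

open Cfsg Cfsg.Agent.Lib.Blocks Cfsg.Agent.Lib.Characters Cfsg.Agent.Lib.BrauerStar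
  Cfsg.Agent.Lib.BlockHeights Cfsg.Agent.Lib.BrauerPairs
open scoped ComplexConjugate

universe u

variable {G : Type u} [Group G] [Fintype G] {M : Ideal AlgInt} [hMp : M.IsPrime] {p : ℕ}
  {B : Set (IrrCharacter G)} {P : Subgroup G}
  {c : Set (IrrCharacter (Subgroup.centralizer (P : Set G)))}

noncomputable local instance fintypeSubgroupMain (H : Subgroup G) : Fintype H := Fintype.ofFinite H

local notation3 "Cz" u:max => Subgroup.centralizer (SetLike.coe (Subgroup.zpowers u))

theorem pieceVal_transport {χ : G → ℂ} (hχ : IsClassFunction G χ) {v w t : G}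
    (hw : t * v * t⁻¹ = w) {f : Set (IrrCharacter (Cz v))} {f' : Set (IrrCharacter (Cz w))}
    (h : subgroupBlockCoeff (Cz w) f' = gconj t (subgroupBlockCoeff (Cz v) f)) (g : G) :
    pieceVal w f' χ (t * g * t⁻¹) = pieceVal v f χ g := by
  subst hw
  exact pieceVal_conj hχ h g

/-- The recursive weights: their sum over the nontrivial subgroups of each nontrivial one is one. -/
theorem exists_weights : ∃ a : Subgroup G → ℤ, ∀ X : Subgroup G, X ≠ ⊥ →
    ∑ W ∈ (Set.toFinite {W : Subgroup G | W ≤ X ∧ W ≠ ⊥}).toFinset, a W = 1 := by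
  classical
  let a : Subgroup G → ℤ := (wellFounded_lt (α := Subgroup G)).fix fun X a =>
    1 - ∑ W ∈ (Set.toFinite {W : Subgroup G | W < X ∧ W ≠ ⊥}).toFinset.attach,
      a W.1 ((Set.Finite.mem_toFinset _).1 W.2).1
  refine ⟨a, fun X hX => ?_⟩
  have ha : a X = 1 - ∑ W ∈ (Set.toFinite {W : Subgroup G | W < X ∧ W ≠ ⊥}).toFinset, a W := by
    show (wellFounded_lt (α := Subgroup G)).fix _ X = _
    rw [WellFounded.fix_eq]
    rw [← Finset.sum_attach _ a]
  have hins : (Set.toFinite {W : Subgroup G | W ≤ X ∧ W ≠ ⊥}).toFinset =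
      insert X (Set.toFinite {W : Subgroup G | W < X ∧ W ≠ ⊥}).toFinset := by
    ext W
    simp only [Set.Finite.mem_toFinset, Set.mem_ofPred_eq, Finset.mem_insert]
    constructor
    · rintro ⟨h1, h2⟩
      rcases eq_or_lt_of_le h1 with h | h
      · exact Or.inl h
      · exact Or.inr ⟨h, h2⟩
    · rintro (rfl | ⟨h1, h2⟩)
      · exact ⟨le_rfl, hX⟩
      · exact ⟨h1.le, h2⟩
  rw [hins, Finset.sum_insert (by simp), ha]
  ring

theorem prod_zpow_eq {ι : Type*} (s : Finset ι) (x : ℂ) (hx : x ≠ 0) (a : ι → ℤ) :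
    ∏ i ∈ s, x ^ a i = x ^ ∑ i ∈ s, a i := by
  classical
  induction s using Finset.induction_on with
  | empty => simp
  | insert b s hb ih => rw [Finset.prod_insert hb, Finset.sum_insert hb, ih, zpow_add₀ hx]

open scoped Classical in
/-- Only the subgroup itself carries weight among those with a given join with a cyclic one. -/
theorem weights_join {a : Subgroup G → ℤ}
    (ha : ∀ X : Subgroup G, X ≠ ⊥ →
      ∑ W ∈ (Set.toFinite {W : Subgroup G | W ≤ X ∧ W ≠ ⊥}).toFinset, a W = 1)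
    {L : Subgroup G} (hL : L ≠ ⊥) (X : Subgroup G) (hLX : L ≤ X) :
    ∑ W ∈ (Set.toFinite {W : Subgroup G | W ⊔ L = X ∧ W ≠ ⊥}).toFinset, a W =
      if X = L then 1 else 0 := by
  induction X using (wellFounded_lt (α := Subgroup G)).induction with
  | _ X ih =>
    have hX : X ≠ ⊥ := fun h => hL (le_bot_iff.1 (h ▸ hLX))
    have h1 := ha X hX
    set D : Finset (Subgroup G) := (Set.toFinite {X' : Subgroup G | L ≤ X' ∧ X' ≤ X}).toFinset with hD
    rw [← Finset.sum_fiberwise_of_maps_to (g := fun W => W ⊔ L) (t := D) (fun W hW => by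
      rw [Set.Finite.mem_toFinset] at hW
      rw [hD, Set.Finite.mem_toFinset]
      exact ⟨le_sup_right, sup_le hW.1 hLX⟩)] at h1
    have hfib : ∀ X' ∈ D, ((Set.toFinite {W : Subgroup G | W ≤ X ∧ W ≠ ⊥}).toFinset.filter
        fun W => W ⊔ L = X') = (Set.toFinite {W : Subgroup G | W ⊔ L = X' ∧ W ≠ ⊥}).toFinset := by
      intro X' hX'
      rw [hD, Set.Finite.mem_toFinset] at hX'
      ext W
      simp only [Finset.mem_filter, Set.Finite.mem_toFinset, Set.mem_ofPred_eq]
      exact ⟨fun h => ⟨h.2, h.1.2⟩, fun h => ⟨⟨(le_sup_left.trans h.1.le).trans hX'.2, h.2⟩, h.1⟩⟩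
    rw [Finset.sum_congr rfl fun X' hX' => by rw [hfib X' hX']] at h1
    have hXD : X ∈ D := by rw [hD, Set.Finite.mem_toFinset]; exact ⟨hLX, le_rfl⟩
    have hothers : ∀ X' ∈ D.erase X,
        ∑ W ∈ (Set.toFinite {W : Subgroup G | W ⊔ L = X' ∧ W ≠ ⊥}).toFinset, a W =
          if X' = L then 1 else 0 := by
      intro X' hX'
      obtain ⟨hne, hX'D⟩ := Finset.mem_erase.1 hX'
      rw [hD, Set.Finite.mem_toFinset] at hX'D
      exact ih X' (lt_of_le_of_ne hX'D.2 hne) hX'D.1
    rw [← Finset.add_sum_erase D _ hXD, Finset.sum_congr rfl hothers, Finset.sum_ite_eq'] at h1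
    by_cases hXL : X = L
    · rw [if_pos hXL]
      rwa [if_neg (fun h => (Finset.mem_erase.1 h).1 hXL.symm), add_zero] at h1
    · rw [if_neg hXL]
      rw [if_pos (Finset.mem_erase.2 ⟨Ne.symm hXL, by rw [hD, Set.Finite.mem_toFinset]; exact ⟨le_rfl, hLX⟩⟩)] at h1
      omega

theorem zpow_mem_okRing (hM : IsPModular p M) {P₀ : Type u} [CommGroup P₀] [Fintype P₀]
    [Fintype (P₀ →* ℂˣ)] (hP₀ : IsPGroup p P₀) {g : P₀ → ℂ} (hg : g ∈ coeffRing (okRing M))
    (h1 : ¬ MemLocalIdeal M (g 1)) (a : ℤ) : (fun v => g v ^ a) ∈ coeffRing (okRing M) := by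
  obtain ⟨n, rfl | rfl⟩ := Int.eq_nat_or_neg a
  · simp only [zpow_natCast]
    exact pow_mem hg n
  · simp only [zpow_neg, zpow_natCast, ← inv_pow]
    exact pow_mem (inv_mem_okRing hM hP₀ hg h1).2 n

set_option maxHeartbeats 1600000 in
/-- The invariants, and the table when the number of characters is as large as possible. -/
theorem free_data (hM : IsPModular p M) (hmax : IsMaximalBrauerPair p M B P c) (hP1 : P ≠ ⊥)
    (hab : ∀ x ∈ P, ∀ y ∈ P, x * y = y * x) (hfree : IsFree P c) :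
    ∃ t : ℕ, t * (Subgroup.centralizer (P : Set G)).relIndex (pairStab P c) + 1 = Nat.card P ∧
      Nat.card B = blockRank p B + t ∧
      blockRank p B ≤ (Subgroup.centralizer (P : Set G)).relIndex (pairStab P c) ∧
      ((Subgroup.centralizer (P : Set G)).relIndex (pairStab P c) ≤ 3 →
        blockRank p B = (Subgroup.centralizer (P : Set G)).relIndex (pairStab P c)) ∧
      (Nat.card B = t + (Subgroup.centralizer (P : Set G)).relIndex (pairStab P c) →
        ∃ Γ : Subgroup (MulAut P), Nat.card Γ = (Subgroup.centralizer (P : Set G)).relIndex (pairStab P c) ∧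
          (∀ γ ∈ Γ, ∀ v : P, v ≠ 1 → γ v = v → γ = 1) ∧ IsTable M p B Γ) := by
  classical
  haveI := Fact.mk hM.1
  have hB := hmax.1.2.1
  have hP := hmax.1.1.1
  set T := pairStab P c with hT
  set e := (Subgroup.centralizer (P : Set G)).relIndex T with he
  letI : CommGroup P := { (inferInstance : Group P) with mul_comm := fun a b => Subtype.ext (hab _ a.2 _ b.2) }
  haveI := Fintype.ofFinite (P →* ℂˣ)
  haveI := Fintype.ofFinite (IrrCharacter G)
  haveI : Nontrivial P := (Subgroup.nontrivial_iff_ne_bot P).2 hP1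
  have hP₀ : IsPGroup p P := hP
  -- the idempotent
  obtain ⟨i, χ₀, hχ₀, hi, hii, hival, hbelow⟩ := exists_source hM hmax
  have hcomm : ∀ v : P, Commute (el (P.subtype v) : RG M G) i := fun v =>
    commute_el_iff.2 ((mem_fixV.1 hi).1 v v.2)
  set gψ : IrrCharacter G → P → ℂ := fun χ v => ev (χ : G → ℂ) (el (P.subtype v) * i) with hgψ
  have hgok : ∀ χ, gψ χ ∈ coeffRing (okRing M) := fun χ => ev_coeffRing hM χ P.subtype hii hcomm
  have hg1 : ¬ MemLocalIdeal M (gψ χ₀ 1) := by
    show ¬ MemLocalIdeal M (ev (χ₀ : G → ℂ) (el (P.subtype (1 : P)) * i))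
    rwa [map_one, el_one, one_mul]
  obtain ⟨hgu, -⟩ := inv_mem_okRing hM hP₀ (hgok χ₀) hg1
  -- the sections
  have hsec : ∀ v : P, v ≠ 1 → (v : G) ≠ 1 := fun v hv h => hv (Subtype.ext h)
  choose f d m hle hfB hrank hm hd hsum hlev r hr hrloc using
    fun v : {v : P // v ≠ 1} => exists_section_data hM hmax hab hfree v.1.2 (hsec v.1 v.2)
  choose R hR hRg using fun v : {v : P // v ≠ 1} =>
    hlev v i hi hii (hbelow _ _ (hle v))
  have hgv : ∀ (v : {v : P // v ≠ 1}) χ, gψ χ v.1 = (R v : ℂ) * d v χ := fun v χ => hRg v χ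
  have hRu : ∀ v, ¬ MemLocalIdeal M ((R v : ℤ) : ℂ) := fun v h => by
    refine hgu v.1 ?_
    rw [hgv]
    exact memLocalIdeal_mul_right h (memLocalRing_of_isIntegral' (hd v χ₀).1)
  -- the functions of the subgroups
  have hlf : ∀ W : {W : Subgroup G // W ≤ P ∧ W ≠ ⊥}, ∃ g : P → ℂ, g ∈ coeffRing (okRing M) ∧
      ∀ v, ∃ (R : ℤ) (d : ℂ), IsIntegral ℤ d ∧ d * conj d = 1 ∧ g v = (R : ℂ) * d ∧
        IsLevel (Nat.card P) i (W.1 ⊔ Subgroup.zpowers (P.subtype v)) R := fun W =>
    exists_local_fun hM hmax hab hfree P.subtype (fun v => v.2) hi hii hbelow W.2.1 W.2.2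
  choose gW hgWok RW dW hdWi hdW1 hgWv hRW using hlf
  have hq0 : Nat.card P ≠ 0 := Nat.card_pos.ne'
  -- units
  have hlevu : ∀ Q : Subgroup G, Q ≤ P → Q ≠ ⊥ → ∀ r : ℤ, IsLevel (Nat.card P) i Q r →
      ¬ MemLocalIdeal M ((r : ℤ) : ℂ) := by
    intro Q
    induction Q using (wellFounded_lt (α := Subgroup G)).induction with
    | _ Q ih =>
      intro hQP hQ1 r hr
      obtain ⟨W, hWQ, hWmax⟩ : ∃ W, W < Q ∧ ∀ W', W < W' → W' ≤ Q → W' = Q := by
        obtain ⟨W, hW⟩ := (Set.toFinite {W : Subgroup G | W < Q}).exists_maximal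
          ⟨⊥, bot_lt_iff_ne_bot.2 hQ1⟩
        refine ⟨W, hW.1, fun W' hlt hle' => ?_⟩
        by_contra hne
        exact hlt.not_ge (hW.2 (lt_of_le_of_ne hle' hne) hlt.le)
      obtain ⟨w, hwQ, hwW⟩ := SetLike.exists_of_lt hWQ
      have hjoin : W ⊔ Subgroup.zpowers w = Q := by
        refine hWmax _ (lt_of_le_of_ne le_sup_left fun h => hwW ?_)
          (sup_le hWQ.le (Subgroup.zpowers_le.2 hwQ))
        rw [h]
        exact (le_sup_right : _ ≤ W ⊔ Subgroup.zpowers w) (Subgroup.mem_zpowers w)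
      set w₀ : P := ⟨w, hQP hwQ⟩
      intro hr0
      have hsq : ∀ r' : ℤ, IsLevel (Nat.card P) i Q r' → MemLocalIdeal M ((r' : ℤ) : ℂ) := by
        intro r' hr'
        have h2 := IsLevel.sq_eq hM hq0 hP hQP hi hii hr hr'
        have h3 : MemLocalIdeal M (((r' : ℤ) : ℂ) * ((r' : ℤ) : ℂ)) := by
          rw [← h2]
          exact memLocalIdeal_mul_right hr0 (memLocalRing_intCast r)
        rcases (memLocalIdeal_mul_iff (memLocalRing_intCast r') (memLocalRing_intCast r')).1 h3 with h | h <;>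
          exact h
      by_cases hW1 : W = ⊥
      · subst hW1
        rw [bot_sup_eq] at hjoin
        subst hjoin
        have hw1 : w₀ ≠ 1 := fun h => hQ1 (by
          rw [Subgroup.zpowers_eq_bot]; exact congrArg Subtype.val h)
        exact hRu ⟨w₀, hw1⟩ (hsq _ (hR ⟨w₀, hw1⟩))
      · have hW' : W ≤ P ∧ W ≠ ⊥ := ⟨hWQ.le.trans hQP, hW1⟩
        have h1 : ¬ MemLocalIdeal M (gW ⟨W, hW'⟩ 1) := by
          rw [hgWv ⟨W, hW'⟩ 1]
          have hrW := hRW ⟨W, hW'⟩ 1
          rw [map_one, Subgroup.zpowers_one_eq_bot, sup_bot_eq] at hrW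
          refine not_memLocalIdeal_mul (memLocalRing_intCast _) (memLocalRing_of_isIntegral' (hdWi _ _))
            (ih W hWQ hW'.1 hW1 _ hrW) fun h => not_memLocalIdeal_one (M := M) ?_
          rw [← hdW1 ⟨W, hW'⟩ 1]
          exact memLocalIdeal_mul_right h (memLocalRing_of_isIntegral'
            (map_isIntegral_int (starRingEnd ℂ) (hdWi _ _)))
        obtain ⟨hu, -⟩ := inv_mem_okRing hM hP₀ (hgWok ⟨W, hW'⟩) h1
        refine hu w₀ ?_
        rw [hgWv]
        refine memLocalIdeal_mul_right (hsq _ ?_) (memLocalRing_of_isIntegral' (hdWi _ _))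
        have := hRW ⟨W, hW'⟩ w₀
        rwa [show W ⊔ Subgroup.zpowers (P.subtype w₀) = Q from hjoin] at this
  have hgW1 : ∀ W, ¬ MemLocalIdeal M (gW W 1) := fun W => by
    rw [hgWv W 1]
    have hrW := hRW W 1
    rw [map_one, Subgroup.zpowers_one_eq_bot, sup_bot_eq] at hrW
    refine not_memLocalIdeal_mul (memLocalRing_intCast _) (memLocalRing_of_isIntegral' (hdWi _ _))
      (hlevu W.1 W.2.1 W.2.2 _ hrW) fun h => not_memLocalIdeal_one (M := M) ?_
    rw [← hdW1 W 1]
    exact memLocalIdeal_mul_right h (memLocalRing_of_isIntegral'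
      (map_isIntegral_int (starRingEnd ℂ) (hdWi _ _)))
  -- the product
  obtain ⟨a, ha⟩ := exists_weights (G := G)
  haveI : Fintype {W : Subgroup G // W ≤ P ∧ W ≠ ⊥} := Fintype.ofFinite _
  set N : P → ℂ := fun v => ∏ W : {W : Subgroup G // W ≤ P ∧ W ≠ ⊥}, gW W v ^ a W.1 with hN
  have hNok : N ∈ coeffRing (okRing M) := by
    have : N = ∏ W : {W : Subgroup G // W ≤ P ∧ W ≠ ⊥}, fun v => gW W v ^ a W.1 := funext fun v => by
      simp only [hN, Finset.prod_apply]
    rw [this]
    exact prod_mem fun W _ => zpow_mem_okRing hM hP₀ (hgWok W) (hgW1 W) _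
  have hinvok : (fun v => (N v)⁻¹) ∈ coeffRing (okRing M) := by
    have : (fun v => (N v)⁻¹) =
        ∏ W : {W : Subgroup G // W ≤ P ∧ W ≠ ⊥}, fun v => gW W v ^ (-(a W.1)) := funext fun v => by
      simp only [hN, Finset.prod_apply, zpow_neg, Finset.prod_inv_distrib]
    rw [this]
    exact prod_mem fun W _ => zpow_mem_okRing hM hP₀ (hgWok W) (hgW1 W) _
  have hgW0 : ∀ W v, gW W v ≠ 0 := fun W v h =>
    (inv_mem_okRing hM hP₀ (hgWok W) (hgW1 W)).1 v (by rw [h]; exact memLocalIdeal_zero)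
  have hN0 : ∀ v, N v ≠ 0 := fun v => Finset.prod_ne_zero_iff.2 fun W _ => zpow_ne_zero _ (hgW0 W v)
  have hN1 : ¬ MemLocalIdeal M ((N 1)⁻¹) := fun h => not_memLocalIdeal_one (M := M) (by
    rw [← inv_mul_cancel₀ (hN0 1)]
    exact memLocalIdeal_mul_right h (memLocalRing_apply (mem_okRing_iff.1 hNok).1 1))
  -- the phases
  have hphase : ∀ v : {v : P // v ≠ 1}, ∃ ε : ℂ, IsIntegral ℤ ε ∧ ε * conj ε = 1 ∧
      ∀ χ, gψ χ v.1 * (N v.1)⁻¹ = ε * d v χ := by
    intro v
    set D : ℂ := ∏ W : {W : Subgroup G // W ≤ P ∧ W ≠ ⊥}, dW W v.1 ^ a W.1 with hD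
    set S : ℂ := ∏ W : {W : Subgroup G // W ≤ P ∧ W ≠ ⊥}, ((RW W v.1 : ℤ) : ℂ) ^ a W.1 with hS
    have hNSD : N v.1 = S * D := by
      simp only [hN, hS, hD, ← Finset.prod_mul_distrib]
      exact Finset.prod_congr rfl fun W _ => by rw [hgWv, mul_zpow]
    set L : Subgroup G := Subgroup.zpowers (P.subtype v.1) with hLdef
    have hLP : L ≤ P := Subgroup.zpowers_le.2 v.1.2
    have hL1 : L ≠ ⊥ := fun h => hsec v.1 v.2 (Subgroup.zpowers_eq_bot.1 h)
    have hSS : S * S = (R v : ℂ) * (R v : ℂ) := by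
      let Ls : Subgroup G → ℂ := fun X =>
        if h : ∃ r : ℤ, IsLevel (Nat.card P) i X r then (h.choose : ℂ) * (h.choose : ℂ) else 1
      have hLs : ∀ (X : Subgroup G) (r : ℤ), X ≤ P → IsLevel (Nat.card P) i X r →
          Ls X = (r : ℂ) * (r : ℂ) := fun X r hXP hr => by
        have h : ∃ r : ℤ, IsLevel (Nat.card P) i X r := ⟨r, hr⟩
        simp only [Ls, dif_pos h]
        exact IsLevel.sq_eq hM hq0 hP hXP hi hii h.choose_spec hr
      set 𝒲 : Finset (Subgroup G) := (Set.toFinite {W : Subgroup G | W ≤ P ∧ W ≠ ⊥}).toFinset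
      have h1 : S * S = ∏ W ∈ 𝒲, Ls (W ⊔ L) ^ a W := by
        rw [hS, ← Finset.prod_mul_distrib, Finset.prod_subtype (p := fun W : Subgroup G => W ≤ P ∧ W ≠ ⊥) 𝒲 (fun W => by simp [𝒲])
          (fun W => Ls (W ⊔ L) ^ a W)]
        refine Finset.prod_congr rfl fun W _ => ?_
        rw [← mul_zpow, hLs _ _ (sup_le W.2.1 hLP) (hRW W v.1)]
      set 𝒳 : Finset (Subgroup G) := (Set.toFinite {X : Subgroup G | L ≤ X ∧ X ≤ P}).toFinset
      have hmaps : ∀ W ∈ 𝒲, W ⊔ L ∈ 𝒳 := fun W hW => by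
        simp only [𝒲, 𝒳, Set.Finite.mem_toFinset] at hW ⊢
        exact ⟨le_sup_right, sup_le hW.1 hLP⟩
      have hLne : ∀ X ∈ 𝒳, X ≠ L → ∑ W ∈ 𝒲.filter (fun W => W ⊔ L = X), a W = 0 := by
        intro X hX hXL
        simp only [𝒳, Set.Finite.mem_toFinset] at hX
        have := weights_join ha hL1 X hX.1
        rw [if_neg hXL] at this
        rw [← this]
        refine Finset.sum_congr ?_ fun _ _ => rfl
        ext W
        simp only [𝒲, Finset.mem_filter, Set.Finite.mem_toFinset, Set.mem_ofPred_eq]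
        exact ⟨fun h => ⟨h.2, h.1.2⟩, fun h => ⟨⟨(le_sup_left.trans h.1.le).trans hX.2, h.2⟩, h.1⟩⟩
      have hL' : L ∈ 𝒳 := by simp only [𝒳, Set.Finite.mem_toFinset]; exact ⟨le_rfl, hLP⟩
      have hsum1 : ∑ W ∈ 𝒲.filter (fun W => W ⊔ L = L), a W = 1 := by
        have := weights_join ha hL1 L le_rfl
        rw [if_pos rfl] at this
        rw [← this]
        refine Finset.sum_congr ?_ fun _ _ => rfl
        ext W
        simp only [𝒲, Finset.mem_filter, Set.Finite.mem_toFinset, Set.mem_ofPred_eq]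
        exact ⟨fun h => ⟨h.2, h.1.2⟩, fun h => ⟨⟨(le_sup_left.trans h.1.le).trans hLP, h.2⟩, h.1⟩⟩
      have hLsL : Ls L = (R v : ℂ) * (R v : ℂ) := hLs L _ hLP (hR v)
      have hR0 : (R v : ℂ) ≠ 0 := fun h => hRu v (by rw [h]; exact memLocalIdeal_zero)
      rw [h1, ← Finset.prod_fiberwise_of_maps_to hmaps, Finset.prod_eq_single L, ← hLsL]
      · rw [Finset.prod_congr rfl (g := fun W => Ls L ^ a W) fun W hW => by
          rw [(Finset.mem_filter.1 hW).2], prod_zpow_eq _ _ (by rw [hLsL]; exact mul_ne_zero hR0 hR0),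
          hsum1, zpow_one]
      · intro X hX hXL
        by_cases hne : (𝒲.filter fun W => W ⊔ L = X).Nonempty
        · obtain ⟨W₁, hW₁⟩ := hne
          obtain ⟨hW₁m, hW₁j⟩ := Finset.mem_filter.1 hW₁
          simp only [𝒲, Set.Finite.mem_toFinset, Set.mem_ofPred_eq] at hW₁m
          have hlv := hRW ⟨W₁, hW₁m⟩ v.1
          rw [show W₁ ⊔ Subgroup.zpowers (P.subtype v.1) = X from hW₁j] at hlv
          have hXP : X ≤ P := hW₁j ▸ sup_le hW₁m.1 hLP
          have h0 : Ls X ≠ 0 := by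
            rw [hLs X _ hXP hlv]
            have h0' : ((RW ⟨W₁, hW₁m⟩ v.1 : ℤ) : ℂ) ≠ 0 := fun h => hgW0 ⟨W₁, hW₁m⟩ v.1 (by
              rw [hgWv, h, zero_mul])
            exact mul_ne_zero h0' h0'
          rw [Finset.prod_congr rfl (g := fun W => Ls X ^ a W) fun W hW => by
            rw [(Finset.mem_filter.1 hW).2], prod_zpow_eq _ _ h0, hLne X hX hXL, zpow_zero]
        · rw [Finset.not_nonempty_iff_eq_empty.1 hne, Finset.prod_empty]
      · exact fun h => absurd hL' h
    have hR0 : (R v : ℂ) ≠ 0 := fun h => hRu v (by rw [h]; exact memLocalIdeal_zero)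
    have hS0 : S ≠ 0 := fun h => hR0 (mul_self_eq_zero.1 (by rw [← hSS, h, mul_zero]))
    set s : ℂ := (R v : ℂ) * S⁻¹ with hsdef
    have hs1 : s = 1 ∨ s = -1 := mul_self_eq_one_iff.1 (by
      rw [hsdef]; field_simp; linear_combination -hSS)
    have hDn : D * conj D = 1 := by
      rw [hD, map_prod, ← Finset.prod_mul_distrib]
      exact Finset.prod_eq_one fun W _ => by rw [map_zpow₀, ← mul_zpow, hdW1, one_zpow]
    have hdinv : ∀ W, (dW W v.1)⁻¹ = conj (dW W v.1) := fun W =>
      (eq_inv_of_mul_eq_one_right (hdW1 W v.1)).symm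
    have hDi : IsIntegral ℤ D⁻¹ := by
      rw [hD, ← Finset.prod_inv_distrib]
      refine IsIntegral.prod _ fun W _ => ?_
      obtain ⟨n, hn | hn⟩ := Int.eq_nat_or_neg (a W.1)
      · rw [hn, zpow_natCast, ← inv_pow, hdinv]
        exact (map_isIntegral_int (starRingEnd ℂ) (hdWi W v.1)).pow n
      · rw [hn, zpow_neg, zpow_natCast, inv_inv]
        exact (hdWi W v.1).pow n
    refine ⟨s * D⁻¹, IsIntegral.mul ?_ hDi, ?_, fun χ => ?_⟩
    · rcases hs1 with h | h <;> rw [h]
      · exact isIntegral_one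
      · exact isIntegral_one.neg
    · have hsc : s * conj s = 1 := by rcases hs1 with h | h <;> simp [h]
      rw [map_mul, map_inv₀]
      have h2 : D⁻¹ * (conj D)⁻¹ = 1 := by rw [← mul_inv, hDn, inv_one]
      linear_combination hsc + (s * conj s) * h2
    · rw [hgv, hNSD, mul_inv, hsdef]
      ring
  choose ε hεi hε1 hεd using hphase
  have hN' := hN1
  -- outside the block
  have hzero : ∀ (v : {v : P // v ≠ 1}) (χ : IrrCharacter G), χ ∉ B → d v χ = 0 := fun v χ hχ => by
    have h := sect_eq_zero_of_pair hM (orderOf_pow_of_mem hM hmax v.1.2)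
      (isBrauerPairOf_of_subpairLE hM hmax (hle v)) hχ
    have h2 : sect p (v.1 : G) (f v) (χ : G → ℂ) 1 = d v χ * (m v : ℂ) := by
      rw [sect_apply_regular _ _ (irr_isClassFunction χ) (isPRegular_one hM.1),
        Subgroup.coe_one, mul_one, (hd v χ).2.1]
    rw [h] at h2
    simpa [(hm v).ne'] using h2.symm
  have hBsum : ∀ (v w : {v : P // v ≠ 1}),
      ∑ s : {χ : IrrCharacter G // χ ∈ B}, d v s.1 * conj (d w s.1) * ((m v : ℂ) * (m w : ℂ)) =
        ∑ χ : IrrCharacter G, pieceVal (v.1 : G) (f v) (χ : G → ℂ) v.1 *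
          conj (pieceVal (w.1 : G) (f w) (χ : G → ℂ) w.1) := by
    intro v w
    rw [← Finset.sum_subset (Finset.subset_univ (Finset.univ.filter (· ∈ B))) fun χ _ hχ => by
      rw [(hd v χ).2.1, hzero v χ (by simpa using hχ), zero_mul, zero_mul],
      Finset.sum_subtype (p := (· ∈ B)) _ (fun x => by simp)]
    refine Finset.sum_congr rfl fun s _ => ?_
    rw [(hd v s.1).2.1, (hd w s.1).2.1, map_mul, Complex.conj_natCast]
    ring
  have hnorm' : ∀ v : {v : P // v ≠ 1},
      ∑ s : {χ : IrrCharacter G // χ ∈ B}, d v s.1 * conj (d v s.1) = (Fintype.card P : ℂ) := fun v => by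
    have h := hBsum v v
    rw [sum_pieceVal_same hM (orderOf_pow_of_mem hM hmax v.1.2) (hfB v) (hfB v), if_pos rfl, hsum,
      ← Finset.sum_mul, Nat.card_eq_fintype_card, mul_assoc] at h
    exact mul_right_cancel₀ (mul_ne_zero (Nat.cast_ne_zero.2 (hm v).ne') (Nat.cast_ne_zero.2 (hm v).ne')) h
  -- the acting group
  let Φ₀ : T →* MulAut P := P.normalizerMonoidHom.comp (Subgroup.inclusion fun g hg => (mem_pairStab_iff.1 hg).1)
  have hΦ₀ : ∀ (t : T) (v : P), ((Φ₀ t v : P) : G) = (t : G) * v * (t : G)⁻¹ := fun t v => rfl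
  haveI := Fintype.ofFinite Φ₀.range
  have hker : Φ₀.ker = (Subgroup.centralizer (P : Set G)).subgroupOf T := by
    ext t
    rw [MonoidHom.mem_ker, Subgroup.mem_subgroupOf, Subgroup.mem_centralizer_iff]
    constructor
    · intro h x hx
      have h' := congrArg (fun φ : MulAut P => ((φ ⟨x, hx⟩ : P) : G)) h
      simp only [hΦ₀] at h'
      exact (mul_inv_eq_iff_eq_mul.1 h').symm
    · intro h
      refine MulEquiv.ext fun v => Subtype.ext ?_
      rw [hΦ₀, ← h v v.2, mul_inv_cancel_right]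
      rfl
  have hΓcard : Fintype.card Φ₀.range = e := by
    rw [← Nat.card_eq_fintype_card, ← Subgroup.index_ker, hker, he, Subgroup.relIndex]
  have hΓfree : ∀ γ : Φ₀.range, ∀ v : P, v ≠ 1 → Φ₀.range.subtype γ v = v → γ = 1 := by
    rintro ⟨_, t, rfl⟩ v hv h
    have h' := congrArg Subtype.val (show Φ₀ t v = v from h)
    rw [hΦ₀] at h'
    have hC := hfree t t.2 v v.2 (hsec v hv) h'
    exact Subtype.ext (show Φ₀ t = 1 by rwa [← MonoidHom.mem_ker, hker, Subgroup.mem_subgroupOf])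
  -- conjugate sections
  have hconj : ∀ (t : T) (v w : {v : P // v ≠ 1}), Φ₀ t v.1 = w.1 → ∀ χ, d v χ = d w χ := by
    intro t v w hvw χ
    have hvw' : (t : G) * (v.1 : G) * (t : G)⁻¹ = (w.1 : G) := by
      rw [← hΦ₀, hvw]
    obtain ⟨γ, hγ⟩ := exists_conj_zpowers (f v) (t : G) (w.1 : G) hvw'
    have hle₁ : Relation.ReflTransGen (NormalSubpairRel p M)
        (⟨Subgroup.zpowers (w.1 : G), γ⟩ : BrauerPairIdx G) ⟨P, c⟩ := by
      have h2 : Relation.ReflTransGen (NormalSubpairRel p M)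
          (conjPair (t : G) ⟨Subgroup.zpowers (v.1 : G), f v⟩) (conjPair (t : G) ⟨P, c⟩) :=
        subpairLE_conj (hle v) (t : G)
      rwa [← hγ, show conjPair (t : G) (⟨P, c⟩ : BrauerPairIdx G) = ⟨P, c⟩ from
        pair_ext (normalizer_map_eq (mem_pairStab.1 t.2).1)
          (by rw [pairCoeff_conjPair]; exact (mem_pairStab.1 t.2).2)] at h2
    obtain rfl : γ = f w := subpairLE_unique hM hmax.1.1 hle₁ (hle w)
    have hco : subgroupBlockCoeff (Cz (w.1 : G)) (f w) =
        gconj (t : G) (subgroupBlockCoeff (Cz (v.1 : G)) (f v)) := by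
      show pairCoeff (⟨Subgroup.zpowers (w.1 : G), f w⟩ : BrauerPairIdx G) = _
      rw [hγ, pairCoeff_conjPair]
      rfl
    have hpv : ∀ χ : IrrCharacter G, pieceVal (w.1 : G) (f w) (χ : G → ℂ) w.1 =
        pieceVal (v.1 : G) (f v) (χ : G → ℂ) v.1 := fun χ => by
      conv_lhs => arg 4; rw [← hvw']
      exact pieceVal_transport (irr_isClassFunction χ) hvw' hco _
    have hmm : (m v : ℂ) * (m v : ℂ) = (m w : ℂ) * (m w : ℂ) := by
      have h1 := hBsum v v
      have h2 := hBsum w w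
      rw [← Finset.sum_mul, hnorm'] at h1 h2
      have h3 : ∑ χ : IrrCharacter G, pieceVal (v.1 : G) (f v) (χ : G → ℂ) v.1 *
          conj (pieceVal (v.1 : G) (f v) (χ : G → ℂ) v.1) =
        ∑ χ : IrrCharacter G, pieceVal (w.1 : G) (f w) (χ : G → ℂ) w.1 *
          conj (pieceVal (w.1 : G) (f w) (χ : G → ℂ) w.1) :=
        Finset.sum_congr rfl fun χ _ => by rw [hpv]
      rw [h3, ← h2] at h1
      exact mul_left_cancel₀ card_ne_zeroC h1
    have hmeq : m v = m w := by
      have h : m v * m v = m w * m w := by exact_mod_cast hmm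
      exact Nat.mul_self_inj.1 h
    have h := hpv χ
    rw [(hd w χ).2.1, (hd v χ).2.1, hmeq] at h
    exact (mul_right_cancel₀ (Nat.cast_ne_zero.2 (hm w).ne') h).symm
  -- the count of the sections
  have hcount := (free_section_count hM hmax hab hfree).2 fun v hv hv1 g hg => by
    obtain rfl := subpairLE_unique hM hmax.1.1 hg
      (hle ⟨⟨v, hv⟩, fun h => hv1 (congrArg Subtype.val h)⟩)
    exact hrank _
  rw [mul_assoc] at hcount
  have hcount' := mul_left_cancel₀ (show (Nat.card G : ℤ) ≠ 0 by exact_mod_cast Nat.card_pos.ne') hcount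
  have hl1 := blockRank_pos hM hB
  set Gf : {χ : IrrCharacter G // χ ∈ B} → P → ℂ := fun s v => gψ s.1 v * (N v)⁻¹ with hGf
  have hGfd : ∀ s (v : {v : P // v ≠ 1}), Gf s v.1 = ε v * d v s.1 := fun s v => hεd v s.1
  obtain ⟨t, ht1, htq, hle', hsmall, hshape⟩ := count_core hM hP₀ Φ₀.range.subtype hΓfree Gf ⟨χ₀, hχ₀⟩
    (fun s => mul_mem (hgok s.1) hinvok)
    (fun s v hv => by rw [hGfd s ⟨v, hv⟩]; exact (hεi _).mul (hd _ _).1)
    (by
      show ¬ MemLocalIdeal M (gψ χ₀ 1 * (N 1)⁻¹)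
      exact not_memLocalIdeal_mul (memLocalRing_apply (mem_okRing_iff.1 (hgok χ₀)).1 1)
        (memLocalRing_apply (mem_okRing_iff.1 hinvok).1 1) hg1 hN1)
    (by
      rintro ⟨_, t, rfl⟩ v hv
      have hw : Φ₀ t v ≠ 1 := fun h => hv ((Φ₀ t).injective (h.trans (map_one _).symm))
      refine ⟨ε ⟨Φ₀ t v, hw⟩ * conj (ε ⟨v, hv⟩),
        (hεi _).mul (map_isIntegral_int (starRingEnd ℂ) (hεi _)), fun s => ?_⟩
      show Gf s (Φ₀ t v) = _
      rw [hGfd s ⟨_, hw⟩, hGfd s ⟨v, hv⟩, ← hconj t ⟨v, hv⟩ ⟨_, hw⟩ rfl]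
      linear_combination -(ε ⟨Φ₀ t v, hw⟩ * d ⟨v, hv⟩ s.1) * hε1 ⟨v, hv⟩)
    (fun v hv => by
      rw [← hnorm' ⟨v, hv⟩]
      refine Finset.sum_congr rfl fun s _ => ?_
      rw [hGfd s ⟨v, hv⟩, map_mul]
      linear_combination (d ⟨v, hv⟩ s.1 * conj (d ⟨v, hv⟩ s.1)) * hε1 ⟨v, hv⟩)
    (fun v w hv hw hnot => by
      rw [Finset.sum_congr rfl (g := fun s : {χ : IrrCharacter G // χ ∈ B} =>
        (ε ⟨v, hv⟩ * conj (ε ⟨w, hw⟩)) * (d ⟨v, hv⟩ s.1 * conj (d ⟨w, hw⟩ s.1)))
        fun s _ => by rw [hGfd s ⟨v, hv⟩, hGfd s ⟨w, hw⟩, map_mul]; ring, ← Finset.mul_sum]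
      suffices h : ∑ s : {χ : IrrCharacter G // χ ∈ B}, d ⟨v, hv⟩ s.1 * conj (d ⟨w, hw⟩ s.1) = 0 by
        rw [h, mul_zero]
      refine mul_right_cancel₀ (mul_ne_zero (Nat.cast_ne_zero.2 (hm ⟨v, hv⟩).ne')
        (Nat.cast_ne_zero.2 (hm ⟨w, hw⟩).ne') : (m ⟨v, hv⟩ : ℂ) * (m ⟨w, hw⟩ : ℂ) ≠ 0) ?_
      rw [zero_mul, Finset.sum_mul, hBsum]
      by_cases hc : IsConj (v : G) (w : G)
      · obtain ⟨g, hg⟩ := isConj_iff.1 hc
        obtain ⟨γ, hγ⟩ := exists_conj_zpowers (f ⟨v, hv⟩) g (w : G) hg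
        have hγB : IsPBlock M γ :=
          (isBrauerPairOf_congr hγ.symm (isBrauerPairOf_conj
            (isBrauerPairOf_of_subpairLE hM hmax (hle ⟨v, hv⟩)) g)).1.2
        have hne : γ ≠ f ⟨w, hw⟩ := fun h => by
          obtain ⟨t, ht, htw⟩ := conj_fusion_of_comm hM hmax hab v.2 w.2 (hle ⟨v, hv⟩) (hle ⟨w, hw⟩) hg
            (by rw [← hγ, h])
          exact hnot ⟨Φ₀ ⟨t, ht⟩, ⟨t, ht⟩, rfl⟩ (Subtype.ext ((hΦ₀ ⟨t, ht⟩ v).trans htw))
        have hco : subgroupBlockCoeff (Cz (w : G)) γ =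
            gconj g (subgroupBlockCoeff (Cz (v : G)) (f ⟨v, hv⟩)) := by
          show pairCoeff (⟨Subgroup.zpowers (w : G), γ⟩ : BrauerPairIdx G) = _
          rw [hγ, pairCoeff_conjPair]
          rfl
        have h5 := sum_pieceVal_same hM (orderOf_pow_of_mem hM hmax w.2) hγB (hfB ⟨w, hw⟩)
        rw [if_neg hne] at h5
        rw [← h5]
        refine Finset.sum_congr rfl fun χ _ => ?_
        congr 1
        conv_rhs => arg 4; rw [← hg]
        exact (pieceVal_transport (irr_isClassFunction χ) hg hco _).symm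
      · exact sum_pieceVal_eq_zero hM (orderOf_pow_of_mem hM hmax v.2) (orderOf_pow_of_mem hM hmax w.2)
          (hfB _) (hfB _) hc)
    (by
      rintro ⟨χ, hχ⟩
      by_contra hcon
      push Not at hcon
      have hd0 : ∀ v : {v : P // v ≠ 1}, d v χ = 0 := fun v => by
        have h := hcon v.1 v.2
        rw [hGfd ⟨χ, hχ⟩ v] at h
        rcases mul_eq_zero.1 h with h' | h'
        · exact absurd (hε1 v) (by rw [h', zero_mul]; exact zero_ne_one)
        · exact h'
      have hvan : ∀ x : G, p ∣ orderOf x → (χ : G → ℂ) x = 0 := by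
        intro x hx
        obtain ⟨hk, s, hs, hxs⟩ := exists_eq_mul (p := p) hM.1 x
        have hu1 : pElt p x ≠ 1 := fun h => by
          have e : x = (s : G) :=
            calc x = pElt p x * (s : G) := hxs
              _ = (s : G) := (congrArg (fun z => z * (s : G)) h).trans (one_mul _)
          apply hs
          rwa [← Subgroup.orderOf_coe, ← e]
        rw [← sum_pieceVal (M := M) (pElt p x) (χ : G → ℂ) x]
        refine finsum_eq_zero_of_forall_eq_zero fun δ => ?_
        refine Eq.trans (congrArg (fun z => pieceVal (pElt p x) δ.1 (χ : G → ℂ) z) hxs) ?_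
        rw [← sect_apply_regular _ _ (irr_isClassFunction χ) hs]
        by_cases hpair : IsBrauerPairOf p M B (Subgroup.zpowers (pElt p x)) δ.1
        · obtain ⟨y, hy⟩ := exists_conj_subpairLE hM hmax hpair
          have hyP : y * pElt p x * y⁻¹ ∈ P := subpairLE_le hy ⟨_, Subgroup.mem_zpowers _, rfl⟩
          have hy1 : (⟨_, hyP⟩ : P) ≠ 1 := fun h => hu1 (by
            have := congrArg Subtype.val h
            simpa using this)
          set v₀ : {v : P // v ≠ 1} := ⟨⟨_, hyP⟩, hy1⟩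
          obtain ⟨γ, hγ⟩ := exists_conj_zpowers δ.1 y (y * pElt p x * y⁻¹) rfl
          obtain rfl : γ = f v₀ := subpairLE_unique hM hmax.1.1
            (show Relation.ReflTransGen (NormalSubpairRel p M)
              (⟨Subgroup.zpowers (v₀.1 : G), γ⟩ : BrauerPairIdx G) ⟨P, c⟩ from hγ ▸ hy) (hle v₀)
          have hco : subgroupBlockCoeff (Cz (v₀.1 : G)) (f v₀) =
              gconj y (subgroupBlockCoeff (Cz (pElt p x)) δ.1) := by
            show pairCoeff (⟨Subgroup.zpowers (v₀.1 : G), f v₀⟩ : BrauerPairIdx G) = _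
            rw [hγ, pairCoeff_conjPair]
            rfl
          have hs' : y * (s : G) * y⁻¹ ∈ Cz (v₀.1 : G) :=
            (mem_Cz_conj_iff _ _ _).2 (by
              rw [show y⁻¹ * (y * (s : G) * y⁻¹) * y = s by group]; exact s.2)
          rw [sect_apply_regular _ _ (irr_isClassFunction χ) hs,
            ← pieceVal_transport (irr_isClassFunction χ) (t := y) rfl hco,
            show y * (pElt p x * (s : G)) * y⁻¹ = (v₀.1 : G) * ((⟨_, hs'⟩ : Cz (v₀.1 : G)) : G) by
              show _ = y * pElt p x * y⁻¹ * (y * (s : G) * y⁻¹); group,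
            ← sect_apply_regular _ _ (irr_isClassFunction χ) (p := p) ?_, (hd v₀ χ).2.2 (hd0 v₀)]
          · rfl
          · show IsPRegular p _
            rw [IsPRegular, ← Subgroup.orderOf_coe,
              show ((⟨_, hs'⟩ : Cz (v₀.1 : G)) : G) = (MulAut.conj y).toMonoidHom (s : G) from rfl,
              orderOf_injective (MulAut.conj y).toMonoidHom (MulAut.conj y).injective, Subgroup.orderOf_coe]
            exact hs
        · rw [sect_eq_zero_of_not_pair hM hk δ.2 hpair hB hχ]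
          rfl
      have hsing := blockOf_eq_singleton hM χ (not_dvd_card_div_of_vanish χ hvan)
      have hBs : B = {χ} := by
        rw [← hsing]
        exact IsPBlock.eq_of_mem hB (isPBlock_blockOf χ) hχ (self_mem_blockOf χ)
      have hk1 : Nat.card B = 1 := by rw [hBs]; simp
      rw [hk1] at hcount'
      have hq2 : (2 : ℤ) ≤ Nat.card P := by exact_mod_cast Finite.one_lt_card (α := P)
      have : ((1 : ℕ) : ℤ) - (blockRank p B : ℤ) ≤ 0 := by omega
      have he0 : (0 : ℤ) ≤ ((Subgroup.centralizer (P : Set G)).relIndex (pairStab P c) : ℤ) := by omega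
      nlinarith [hcount', mul_nonpos_of_nonpos_of_nonneg this he0])
  rw [show Fintype.card {χ : IrrCharacter G // χ ∈ B} = Nat.card B from
    Nat.card_eq_fintype_card.symm] at hle' hsmall
  rw [hΓcard] at htq hle' hsmall
  rw [← Nat.card_eq_fintype_card] at htq hsmall
  have he1 : 1 ≤ e := by rw [← hΓcard]; exact Fintype.card_pos
  have hk : Nat.card B = blockRank p B + t := by
    have h1 : ((Nat.card B : ℤ) - (blockRank p B : ℤ)) * (e : ℤ) = (t : ℤ) * e := by
      rw [hcount']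
      have : (t : ℤ) * e + 1 = Nat.card P := by exact_mod_cast htq
      omega
    have h2 := mul_right_cancel₀ (show (e : ℤ) ≠ 0 by omega) h1
    omega
  refine ⟨t, htq, hk, by omega, fun h3 => ?_, fun hkt => ?_⟩
  swap
  · rw [hΓcard, show Fintype.card {χ : IrrCharacter G // χ ∈ B} = Nat.card B from
      Nat.card_eq_fintype_card.symm] at hshape
    obtain ⟨u, y, σ₀, lam, hy, hui, hu1, hσ₀, hlam, hcover, hval⟩ := hshape hkt
    have hΓn : Nat.card Φ₀.range = e := by rw [Nat.card_eq_fintype_card, hΓcard]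
    have hfreeΓ : ∀ γ ∈ Φ₀.range, ∀ v : P, v ≠ 1 → γ v = v → γ = 1 := fun γ hγ v hv h =>
      congrArg Subtype.val (hΓfree ⟨γ, hγ⟩ v hv h)
    refine ⟨Φ₀.range, hΓn, hfreeΓ, ?_⟩
    set σ : IrrCharacter G → ℤ := fun χ => if h : χ ∈ B then σ₀ ⟨χ, h⟩ else 1 with hσ
    set Λ : IrrCharacter G → P → ℂ := fun χ => tableVal Φ₀.range (fun i => (y i).1) lam χ with hΛ
    have hyinj : Function.Injective fun i => (y i).1 := fun i j h => hy (Subtype.ext h)
    -- the values on the sections
    have hdval : ∀ (v : {v : P // v ≠ 1}) (χ : IrrCharacter G), χ ∈ B →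
        d v χ = conj (ε v) * conj (u v.1) * ((σ χ : ℂ) * Λ χ v.1) := by
      intro v χ hχ
      have hG : Gf ⟨χ, hχ⟩ v.1 * u v.1 = (σ χ : ℂ) * Λ χ v.1 := by
        simp only [hσ, dif_pos hχ, hΛ]
        by_cases hi : ∃ i, (y i).1 = χ
        · obtain ⟨i, rfl⟩ := hi
          rw [tableVal_apply _ hyinj lam i, orbSum, finsum_eq_sum_of_fintype]
          exact (hval v.1 v.2).2 i
        · rw [tableVal_of_not _ _ _ fun i h => hi ⟨i, h.symm⟩, mul_one]
          exact (hval v.1 v.2).1 _ fun i h => hi ⟨i, (congrArg Subtype.val h).symm⟩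
      rw [hGfd ⟨χ, hχ⟩ v] at hG
      rw [← hG]
      linear_combination -(d v χ * (u v.1 * conj (u v.1))) * hε1 v - (d v χ) * hu1 v.1
    have hloc : ∀ v : {v : P // v ≠ 1}, IsIntegral ℤ (conj (ε v) * conj (u v.1)) := fun v =>
      (map_isIntegral_int (starRingEnd ℂ) (hεi v)).mul (map_isIntegral_int (starRingEnd ℂ) (hui v.1))
    refine ⟨t, fun i => (y i).1, σ, lam, by rw [hΓn, htq], by rw [hΓn, hkt], hyinj, fun i => (y i).2,
      fun χ => ?_, hlam, fun mu hmu => ?_, fun v hv x hx => ?_, fun x hx => ?_⟩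
    · simp only [hσ]
      split_ifs
      · exact hσ₀ _
      · rfl
    · obtain ⟨i, γ, h⟩ := hcover mu hmu
      exact ⟨i, γ.1, γ.2, fun w => Units.ext (h w)⟩
    · -- the singular elements of a section are orthogonal to the regular ones
      set v₀ : {v : P // v ≠ 1} := ⟨v, hv⟩
      have hu := orderOf_pow_of_mem hM hmax v.2
      have h1 : ∀ c₀ : G, subgroupBlockCoeff (Cz (v : G)) (f v₀) c₀ ≠ 0 →
          ¬ IsPRegular p ((v : G) * c₀) := fun c₀ hc₀ hreg => by
        obtain ⟨hcC, hcr⟩ := regular_of_coeff_ne hM (hfB v₀) hc₀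
        exact hsec v hv ((pElt_mul hM hu hcC hcr).symm.trans
          (pElt_eq hM.1 ⟨(v : G) * c₀, one_mul _, Commute.one_left _,
            ⟨0, by simp⟩, hreg⟩))
      have h2 : ∑ χ : IrrCharacter G, (if χ ∈ B then d v₀ χ * (χ : G → ℂ) x else 0) = 0 := by
        refine mul_left_cancel₀ (Nat.cast_ne_zero.2 (hm v₀).ne') ?_
        rw [mul_zero, Finset.mul_sum]
        calc ∑ χ : IrrCharacter G, (m v₀ : ℂ) * (if χ ∈ B then d v₀ χ * (χ : G → ℂ) x else 0)
            = ∑ χ : IrrCharacter G, ∑ c₀ : G, subgroupBlockCoeff (Cz (v : G)) (f v₀) c₀ *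
                (if χ ∈ B then (χ : G → ℂ) ((v : G) * c₀) * (χ : G → ℂ) x else 0) := by
              refine Finset.sum_congr rfl fun χ _ => ?_
              split_ifs with hχ
              · rw [← mul_assoc, mul_comm ((m v₀ : ℕ) : ℂ), ← (hd v₀ χ).2.1, pieceVal, Finset.sum_mul]
                exact Finset.sum_congr rfl fun c₀ _ => by ring
              · simp
          _ = 0 := by
              rw [Finset.sum_comm]
              refine Finset.sum_eq_zero fun c₀ _ => ?_
              rw [← Finset.mul_sum]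
              by_cases hc₀ : subgroupBlockCoeff (Cz (v : G)) (f v₀) c₀ = 0
              · rw [hc₀, zero_mul]
              · rw [sum_block_mul_eq_zero hM hB (h1 c₀ hc₀) hx, mul_zero]
      rw [← Finset.sum_filter] at h2
      rw [finsum_mem_eq_finite_toFinset_sum _ (Set.toFinite B),
        show (Set.toFinite B).toFinset = Finset.univ.filter (· ∈ B) by ext; simp]
      have hne : conj (ε v₀) * conj (u v) ≠ 0 := by
        refine mul_ne_zero ?_ ?_ <;> simp only [ne_eq, map_eq_zero]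
        · intro h; simpa [h] using hε1 v₀
        · intro h; simpa [h] using hu1 v
      refine mul_left_cancel₀ hne ?_
      rw [mul_zero, Finset.mul_sum, ← h2]
      refine Finset.sum_congr rfl fun χ hχ => ?_
      rw [hdval v₀ χ (Finset.mem_filter.1 hχ).2]
      ring
    · -- the expansion at a singular element
      obtain ⟨hk', s, hs, hxs⟩ := exists_eq_mul (p := p) hM.1 x
      have hu1' : pElt p x ≠ 1 := fun h => by
        have e : x = (s : G) :=
          calc x = pElt p x * (s : G) := hxs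
            _ = (s : G) := (congrArg (fun z => z * (s : G)) h).trans (one_mul _)
        apply hx
        rw [IsPRegular, e, Subgroup.orderOf_coe]
        exact hs
      have hpiece : ∀ δ : Bl M (Cz (pElt p x)), ∃ (w : P) (a : ℂ), w ≠ 1 ∧ MemLocalRing M a ∧
          MemLocalRing M ((Nat.card P : ℂ) * a /
            (Nat.card (Subgroup.centralizer ({x} : Set G)) : ℂ)) ∧
          ∀ χ ∈ B, pieceVal (pElt p x) δ.1 (χ : G → ℂ) x = a * ((σ χ : ℂ) * Λ χ w) := by
        intro δ
        by_cases hpair : IsBrauerPairOf p M B (Subgroup.zpowers (pElt p x)) δ.1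
        · obtain ⟨z, hz⟩ := exists_conj_subpairLE hM hmax hpair
          have hzP : z * pElt p x * z⁻¹ ∈ P := subpairLE_le hz ⟨_, Subgroup.mem_zpowers _, rfl⟩
          have hz1 : (⟨_, hzP⟩ : P) ≠ 1 := fun h => hu1' (by
            have := congrArg Subtype.val h
            simpa using this)
          set v₀ : {v : P // v ≠ 1} := ⟨⟨_, hzP⟩, hz1⟩
          obtain ⟨γ, hγ⟩ := exists_conj_zpowers δ.1 z (z * pElt p x * z⁻¹) rfl
          obtain rfl : γ = f v₀ := subpairLE_unique hM hmax.1.1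
            (show Relation.ReflTransGen (NormalSubpairRel p M)
              (⟨Subgroup.zpowers (v₀.1 : G), γ⟩ : BrauerPairIdx G) ⟨P, c⟩ from hγ ▸ hz) (hle v₀)
          have hco : subgroupBlockCoeff (Cz (v₀.1 : G)) (f v₀) =
              gconj z (subgroupBlockCoeff (Cz (pElt p x)) δ.1) := by
            show pairCoeff (⟨Subgroup.zpowers (v₀.1 : G), f v₀⟩ : BrauerPairIdx G) = _
            rw [hγ, pairCoeff_conjPair]
            rfl
          have hs' : z * (s : G) * z⁻¹ ∈ Cz (v₀.1 : G) :=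
            (mem_Cz_conj_iff _ _ _).2 (by
              rw [show z⁻¹ * (z * (s : G) * z⁻¹) * z = s by group]; exact s.2)
          have hs'r : IsPRegular p (⟨_, hs'⟩ : Cz (v₀.1 : G)) := by
            rw [IsPRegular, ← Subgroup.orderOf_coe,
              show ((⟨_, hs'⟩ : Cz (v₀.1 : G)) : G) = (MulAut.conj z).toMonoidHom (s : G) from rfl,
              orderOf_injective (MulAut.conj z).toMonoidHom (MulAut.conj z).injective, Subgroup.orderOf_coe]
            exact hs
          have hxz : z * x * z⁻¹ = (v₀.1 : G) * ((⟨_, hs'⟩ : Cz (v₀.1 : G)) : G) := by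
            show _ = z * pElt p x * z⁻¹ * (z * (s : G) * z⁻¹)
            calc z * x * z⁻¹ = z * (pElt p x * (s : G)) * z⁻¹ := by rw [← hxs]
              _ = _ := by group
          have hcard : Nat.card (Subgroup.centralizer ({z * x * z⁻¹} : Set G)) =
              Nat.card (Subgroup.centralizer ({x} : Set G)) := by
            refine Nat.card_congr
              { toFun := fun g => ⟨z⁻¹ * g * z, ?_⟩
                invFun := fun g => ⟨z * g * z⁻¹, ?_⟩
                left_inv := fun g => Subtype.ext (by show z * (z⁻¹ * g * z) * z⁻¹ = g; group)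
                right_inv := fun g => Subtype.ext (by show z⁻¹ * (z * g * z⁻¹) * z = g; group) }
            · refine Subgroup.mem_centralizer_singleton_iff.2 ?_
              have h := Subgroup.mem_centralizer_singleton_iff.1 g.2
              calc z⁻¹ * (g : G) * z * x = z⁻¹ * ((g : G) * (z * x * z⁻¹)) * z := by group
                _ = z⁻¹ * ((z * x * z⁻¹) * g) * z := by rw [h]
                _ = x * (z⁻¹ * g * z) := by group
            · refine Subgroup.mem_centralizer_singleton_iff.2 ?_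
              have h := Subgroup.mem_centralizer_singleton_iff.1 g.2
              calc z * (g : G) * z⁻¹ * (z * x * z⁻¹) = z * ((g : G) * x) * z⁻¹ := by group
                _ = z * (x * g) * z⁻¹ := by rw [h]
                _ = z * x * z⁻¹ * (z * g * z⁻¹) := by group
          obtain ⟨hr1, hr2⟩ := hrloc v₀ ⟨_, hs'⟩ hs'r
          refine ⟨v₀.1, conj (ε v₀) * conj (u v₀.1) * r v₀ ⟨_, hs'⟩, v₀.2,
            memLocalRing_mul (memLocalRing_of_isIntegral' (hloc v₀)) hr1, ?_, fun χ hχ => ?_⟩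
          · rw [← hxz, hcard] at hr2
            have h := memLocalRing_mul (memLocalRing_of_isIntegral' (M := M) (hloc v₀)) hr2
            convert h using 1
            ring
          · rw [← pieceVal_transport (irr_isClassFunction χ) (t := z) rfl hco, hxz,
              ← sect_apply_regular _ _ (irr_isClassFunction χ) hs'r, hr, Pi.smul_apply, smul_eq_mul,
              hdval v₀ χ hχ]
            ring
        · obtain ⟨w, hw⟩ := exists_ne (1 : P)
          refine ⟨w, 0, hw, memLocalRing_zero, by simpa using memLocalRing_zero, fun χ hχ => ?_⟩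
          refine (Eq.trans (congrArg (fun z => pieceVal (pElt p x) δ.1 (χ : G → ℂ) z) hxs) ?_)
          rw [← sect_apply_regular _ _ (irr_isClassFunction χ) hs,
            sect_eq_zero_of_not_pair hM hk' δ.2 hpair hB hχ, zero_mul]
          rfl
      choose w a hw ha ha' hwa using hpiece
      haveI := Fintype.ofFinite (Bl M (Cz (pElt p x)))
      refine ⟨_, Finset.univ, w, a, fun j _ => ⟨hw j, ha j, ha' j⟩, fun χ hχ => ?_⟩
      conv_lhs => rw [← sum_pieceVal (M := M) (pElt p x) (χ : G → ℂ) x, finsum_eq_sum_of_fintype]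
      exact Finset.sum_congr rfl fun j _ => hwa j χ hχ
  rcases hsmall h3 with h | h | ⟨h2, h, hprime⟩ | h
  · omega
  · omega
  · exfalso
    haveI : IsCyclic P := isCyclic_of_prime_card (p := Nat.card P) (hp := ⟨hprime⟩) rfl
    have hl : blockRank p B = 1 := by omega
    have hnil := (Cfsg.Agent.S4649.result p M hM B hB P (isDefectGroup_of_isMaximal hM hmax)
      inferInstance).2 hl
    have h1 : e = 1 := by
      rw [he, Subgroup.relIndex_eq_one]
      intro g hg
      exact (isNilpotentBlock_iff_of_abelian hM hmax hab).1 hnil g (mem_pairStab_iff.1 hg).1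
        (mem_pairStab_iff.1 hg).2
    omega
  · exfalso
    obtain ⟨L, hL⟩ := IsPGroup.iff_card.1 hP
    rw [hL] at h
    have h2 : Nat.Prime 2 := Nat.prime_two
    have h5 : Nat.Prime 5 := by norm_num
    have e2 := (Nat.prime_dvd_prime_iff_eq h2 hM.1).1 (h2.dvd_of_dvd_pow (h ▸ (by norm_num) : 2 ∣ p ^ L))
    have e5 := (Nat.prime_dvd_prime_iff_eq h5 hM.1).1 (h5.dvd_of_dvd_pow (h ▸ (by norm_num) : 5 ∣ p ^ L))
    omega

/-- **The invariants.** -/
theorem free_counts (hM : IsPModular p M) (hmax : IsMaximalBrauerPair p M B P c) (hP1 : P ≠ ⊥)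
    (hab : ∀ x ∈ P, ∀ y ∈ P, x * y = y * x) (hfree : IsFree P c) :
    ∃ t : ℕ, t * (Subgroup.centralizer (P : Set G)).relIndex (pairStab P c) + 1 = Nat.card P ∧
      Nat.card B = blockRank p B + t ∧
      blockRank p B ≤ (Subgroup.centralizer (P : Set G)).relIndex (pairStab P c) ∧
      ((Subgroup.centralizer (P : Set G)).relIndex (pairStab P c) ≤ 3 →
        blockRank p B = (Subgroup.centralizer (P : Set G)).relIndex (pairStab P c)) := by
  obtain ⟨t, h1, h2, h3, h4, -⟩ := free_data hM hmax hP1 hab hfree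
  exact ⟨t, h1, h2, h3, h4⟩

end Cfsg.Agent.Lib.FreeQuot
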