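import Cfsg.Agent.Lib.FreeQuot.Traces
import Cfsg.Agent.Lib.BrauerStar.NonVanish
import Cfsg.Agent.Lib.BlockHeights.RankOne
import Cfsg.Agent.Lib.KleinIsometry.Subsection

/-!
# Values at idempotents below a section of rank one
-/

set_option autoImplicit false
set_option linter.unusedSectionVars false
set_option linter.style.haveILetI false

namespace Cfsg.Agent.Lib.FreeQuot

open Cfsg Cfsg.Agent.Lib.Blocks Cfsg.Agent.Lib.Characters Cfsg.Agent.Lib.BrauerStar
  Cfsg.Agent.Lib.BlockHeights Cfsg.Agent.Lib.BrauerPairs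
open scoped ComplexConjugate

universe u

variable {K : Type u} [Group K] [Fintype K] {M : Ideal AlgInt} [hMp : M.IsPrime] {p : ℕ}

/-- The element lies in the block modulo the local ideal. -/
def InBlock (M : Ideal AlgInt) [M.IsPrime] (f : Set (IrrCharacter K)) (j : RG M K) : Prop :=
  ∀ k, MemLocalIdeal M (conv (blockCoeff f) (coef j) k - coef j k)

/-- The sum of the squares of the values at an element. -/
noncomputable def rho (j : RG M K) : ℂ :=
  ∑ᶠ η : IrrCharacter K, ev (η : K → ℂ) j ^ 2

theorem mem_fixV_bot (x : RG M K) : x ∈ fixV M (⊥ : Subgroup K) (1 : K) :=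
  mem_fixV.2 ⟨fun v hv => by rw [Subgroup.mem_bot.1 hv, cj_one], cj_one x⟩

theorem ev_congr (hM : IsPModular p M) {θ : K → ℂ} (hθ : IsClassFunction K θ) {x y : RG M K}
    (hx : x * x = x) (hy : y * y = y) (h : BrZero ⊥ (x - y)) : ev θ x = ev θ y := by
  haveI := Fact.mk hM.1
  have hb : Subgroup.zpowers (1 : K) = ⊥ := Subgroup.zpowers_one_eq_bot
  have hd : SecData p (1 : K) 1 :=
    ⟨⟨0, by simp⟩, by rw [orderOf_one]; exact fun h => hM.1.ne_one (Nat.dvd_one.1 h), Commute.one_left 1⟩
  have := ev_eq_of_congr hM hd hθ (x := x) (y := y) (by rw [hb]; exact mem_fixV_bot x)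
    (by rw [hb]; exact mem_fixV_bot y) hx hy (by rw [hb]; exact h)
  rwa [one_mul, el_one, one_mul, one_mul] at this

theorem brZero_bot_of_congr {x y : RG M K} (h : ∀ k, MemLocalIdeal M (coef x k - coef y k)) :
    BrZero ⊥ (x - y) := brZero_bot_iff.2 fun k => by
  rw [coef_sub, Pi.sub_apply]; exact h k

theorem ev_blockPart (hM : IsPModular p M) {f : Set (IrrCharacter K)} (hf : IsPBlock M f)
    {j : RG M K} (hjj : j * j = j) (hj : InBlock M f j) {θ : K → ℂ} (hθ : IsClassFunction K θ) :
    ev θ j = ev (blockPart f θ) j := by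
  have hcomm := eBlock_mul_comm hM hf
  have he := eBlock_idem hM hf
  have hej : eBlock hM hf * j * (eBlock hM hf * j) = eBlock hM hf * j := by
    rw [show eBlock hM hf * j * (eBlock hM hf * j) = eBlock hM hf * (j * eBlock hM hf) * j by
      simp only [mul_assoc], ← hcomm j, ← mul_assoc, he, mul_assoc, hjj]
  rw [← ev_congr hM hθ hej hjj (brZero_bot_of_congr fun k => by
    rw [coef_mul, coef_eBlock]; exact hj k)]
  rw [hcomm, ev, ev]
  simp only [coef_mul, coef_eBlock, conv, Finset.sum_mul]
  rw [Finset.sum_comm]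
  refine Finset.sum_congr rfl fun a _ => ?_
  rw [← sum_blockCoeff_mul_eq_blockPart f hθ a, Finset.mul_sum]
  refine (Fintype.sum_equiv (Equiv.mulLeft a) _ _ fun b => ?_).symm
  rw [Equiv.coe_mulLeft, inv_mul_cancel_left, classFunction_mul_comm hθ b a, mul_assoc]

theorem ev_eq_zero_of_notMem (hM : IsPModular p M) {f : Set (IrrCharacter K)} (hf : IsPBlock M f)
    {j : RG M K} (hjj : j * j = j) (hj : InBlock M f j) {η : IrrCharacter K} (hη : η ∉ f) :
    ev (η : K → ℂ) j = 0 := by
  classical
  rw [ev_blockPart hM hf hjj hj (irr_isClassFunction η), ev]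
  refine Finset.sum_eq_zero fun a _ => ?_
  rw [Blocks.blockPart_irr, if_neg hη, mul_zero]

theorem ev_eq_of_regular (hM : IsPModular p M) {j : RG M K} (hjj : j * j = j) {θ θ' : K → ℂ}
    (hθ : IsClassFunction K θ) (hθ' : IsClassFunction K θ')
    (h : ∀ k, IsPRegular p k → θ k = θ' k) : ev θ j = ev θ' j := by
  rw [← sub_eq_zero]
  have h1 := sum_idem_mul_eq_zero hM (w := coef j) (memLocalRing_coef j) (by rw [← coef_mul, hjj])
    (y := (1 : K)) (by rw [orderOf_one]; exact fun h => hM.1.ne_one (Nat.dvd_one.1 h))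
    (fun t => by group) (θ := fun k => θ k - θ' k)
    (fun a b => by simp only [hθ a b, hθ' a b]) (fun k hk => by simp [h k hk])
  simp only [one_mul, mul_sub, Finset.sum_sub_distrib] at h1
  exact h1

theorem rho_congr (hM : IsPModular p M) {K' : Type u} [Group K'] [Fintype K'] (e : K ≃* K')
    {j : RG M K} {j' : RG M K'} (hj : j * j = j) (hj' : j' * j' = j')
    (hc : ∀ k, MemLocalIdeal M (coef j' (e k) - coef j k)) : rho j = rho j' := by
  let E : IrrCharacter K ≃ IrrCharacter K' :=
    { toFun := transIrr e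
      invFun := transIrr e.symm
      left_inv := fun ξ => Subtype.ext (funext fun h => by
        show (ξ : K → ℂ) (e.symm (e.symm.symm h)) = _; simp)
      right_inv := fun ξ => Subtype.ext (funext fun h => by
        show (ξ : K' → ℂ) (e.symm.symm (e.symm h)) = _; simp) }
  rw [rho, rho, ← finsum_comp_equiv E]
  refine finsum_congr fun η => ?_
  congr 1
  let jm : RG M K := ofFun (fun k => coef j' (e k)) fun k => memLocalRing_coef j' (e k)
  have hjm : coef jm = fun k => coef j' (e k) := coef_ofFun _ _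
  have hjmm : jm * jm = jm := coef_injective (funext fun k => by
    rw [coef_mul, hjm]
    show ∑ x, coef j' (e x) * coef j' (e (x⁻¹ * k)) = coef j' (e k)
    conv_rhs => rw [← hj', coef_mul, conv]
    exact Fintype.sum_equiv e.toEquiv _ _ fun x => by simp)
  rw [← ev_congr hM (irr_isClassFunction η) hjmm hj (brZero_bot_of_congr fun k => by
    rw [hjm]; exact hc k)]
  simp only [ev, hjm]
  exact Fintype.sum_equiv e.toEquiv _ _ fun k => by
    show _ = coef j' (e k) * (transIrr e η : K' → ℂ) (e k)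
    rw [transIrr_apply]

/-! ### A section -/

variable {G : Type u} [Group G] [Fintype G]

noncomputable local instance fintypeSubgroupPiece (H : Subgroup G) : Fintype H := Fintype.ofFinite H

local notation3 "Cz" u:max => Subgroup.centralizer (SetLike.coe (Subgroup.zpowers u))

/-- An idempotent of the centralizer congruent to the restriction. -/
def IsPieceAt {C : Subgroup G} (i : RG M G) (j : RG M C) : Prop :=
  j * j = j ∧ ∀ k : C, MemLocalIdeal M (coef j k - coef i (k : G))

theorem exists_pieceAt (hM : IsPModular p M) {V : Subgroup G} (hV : IsPGroup p V) {s : G}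
    {i : RG M G} (hi : i ∈ fixV M V s)
    (hii : i * i = i) : ∃ j : RG M (Subgroup.centralizer (V : Set G)), IsPieceAt i j := by
  set r : RG M (Subgroup.centralizer (V : Set G)) :=
    ofFun (resFun (Subgroup.centralizer (V : Set G)) (coef i)) fun k => memLocalRing_coef i k with hr
  have hcr : coef r = resFun (Subgroup.centralizer (V : Set G)) (coef i) := coef_ofFun _ _
  have hrr : BrZero ⊥ (1 * r * 1 * (1 * r * 1) - 1 * r * 1) := brZero_bot_iff.2 fun k => by
    simp only [one_mul, mul_one]
    rw [coef_sub, Pi.sub_apply, coef_mul, hcr]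
    have h := memLocalIdeal_neg (resFun_mul_congr hM hV hi hi k)
    rw [neg_sub, hii] at h
    exact h
  obtain ⟨y, -, hyy, -, -, hy⟩ := exists_piece (s := (1 : Subgroup.centralizer (V : Set G))) hM
    (IsPGroup.of_bot (p := p)) (mem_fixV_bot (1 : RG M (Subgroup.centralizer (V : Set G))))
    (mem_fixV_bot r) (one_mul 1) hrr
  refine ⟨y, hyy, fun k => ?_⟩
  have := brZero_bot_iff.1 hy k
  simp only [one_mul, mul_one, coef_sub, Pi.sub_apply, hcr] at this
  exact this

theorem ev_shift (hM : IsPModular p M) {u : G} (hu : ∃ k : ℕ, orderOf u = p ^ k)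
    {i : RG M G} (hi : i ∈ fixV M (Subgroup.zpowers u) 1) (hii : i * i = i)
    {j : RG M (Cz u)} (hj : IsPieceAt i j) {χ : G → ℂ} (hχ : IsClassFunction G χ) :
    ev χ (el u * i) = ev (shiftRes (Cz u) u χ) j := by
  classical
  haveI := Fact.mk hM.1
  let J : RG M G := ofFun (extendByZero (Cz u) (coef j)) fun g => by
    by_cases hg : g ∈ (Cz u)
    · rw [extendByZero_of_mem _ _ hg]; exact memLocalRing_coef j _
    · rw [extendByZero_of_not_mem _ _ hg]; exact memLocalRing_zero
  have hcJ : coef J = extendByZero (Cz u) (coef j) := coef_ofFun _ _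
  have hJJ : J * J = J := coef_injective (by
    rw [coef_mul, hcJ, conv_extendByZero, ← coef_mul, hj.1])
  have huK : ∀ g, g ∈ (Cz u) → u * g * u⁻¹ = g := fun g hg => by
    rw [(mem_centralizer_zpowers_iff.1 hg).eq, mul_inv_cancel_right]
  have hJfix : J ∈ fixV M (Subgroup.zpowers u) 1 := by
    have hu' : cj u J = J := by
      refine cj_eq_self_iff.2 fun g => ?_
      rw [hcJ]
      by_cases hg : g ∈ (Cz u)
      · rw [huK g hg]
      · rw [extendByZero_of_not_mem _ _ hg, extendByZero_of_not_mem _ _ fun h => hg ?_]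
        have := huK _ h
        rw [mul_left_inj, mul_right_inj] at this
        rwa [this] at h
    refine mem_fixV.2 ⟨?_, cj_one J⟩
    intro v hv
    exact commute_el_iff.1 (by
      obtain ⟨n, rfl⟩ := (isOfFinOrder_of_finite u).mem_powers_iff_mem_zpowers.2 hv
      show Commute (el (u ^ n)) J
      rw [el_pow]
      exact (commute_el_iff.2 hu').pow_left n)
  have hJi : BrZero (Subgroup.zpowers u) (J - i) := fun g hg => by
    rw [coef_sub, Pi.sub_apply, hcJ, extendByZero_of_mem _ _ hg]
    exact hj.2 ⟨g, hg⟩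
  have hd : SecData p u 1 :=
    ⟨hu, by rw [orderOf_one]; exact fun h => hM.1.ne_one (Nat.dvd_one.1 h), Commute.one_right u⟩
  have h := ev_eq_of_congr hM hd hχ hJfix hi hJJ hii hJi
  rw [mul_one] at h
  rw [← h, ev_el_mul]
  simp only [hcJ]
  rw [sum_extendByZero_mul]
  rfl

/-- **Values below a section of rank one.** -/
theorem piece_value (hM : IsPModular p M) {u : G} (hu : ∃ k : ℕ, orderOf u = p ^ k)
    {f : Set (IrrCharacter (Cz u))} (hf : IsPBlock M f) {D : Subgroup (Cz u)}
    (hD : IsDefectGroup p M f D) (hl : blockRank p f = 1) :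
    ∃ (d : IrrCharacter G → ℂ) (m : ℕ), 0 < m ∧
      (∀ χ, IsIntegral ℤ (d χ) ∧ pieceVal u f (χ : G → ℂ) u = d χ * (m : ℂ) ∧
        (d χ = 0 → sect p u f (χ : G → ℂ) = 0) ∧
        (Nat.card D : ℂ) * classInner (sect p u f (χ : G → ℂ)) (sect p u f (χ : G → ℂ))
          = d χ * conj (d χ)) ∧
      ∑ᶠ η ∈ f, (η : Cz u → ℂ) 1 * conj ((η : Cz u → ℂ) 1) = (Nat.card D : ℂ) * (m : ℂ) * (m : ℂ) ∧
      (∀ i : RG M G, i ∈ fixV M (Subgroup.zpowers u) 1 → i * i = i →
        ∀ j : RG M (Cz u), IsPieceAt i j → InBlock M f j →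
          ∃ R : ℤ, rho j = (Nat.card D : ℂ) * ((R : ℂ) * (R : ℂ)) ∧
            ∀ χ : IrrCharacter G, ev (χ : G → ℂ) (el u * i) = (R : ℂ) * d χ) ∧
      ∃ r : Cz u → ℂ, (∀ χ : IrrCharacter G, sect p u f (χ : G → ℂ) = d χ • r) ∧
        ∀ x : Cz u, IsPRegular p x → MemLocalRing M (r x) ∧
          MemLocalRing M ((Nat.card D : ℂ) * r x /
            (Nat.card (Subgroup.centralizer ({u * (x : G)} : Set G)) : ℂ)) := by
  classical
  haveI := Fintype.ofFinite (IrrCharacter (Cz u))
  have hxC : u ∈ Cz u := (mem_Cz_iff u u).2 (Commute.refl u)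
  obtain ⟨φ, dd, ⟨n, hn⟩, hval, hsq⟩ := rank_one_data hM hf hD hl
  set r := pRegularPart p φ with hr
  set d : IrrCharacter G → ℂ := fun χ => ∑ η : IrrCharacter (Cz u),
    (if η ∈ f then centralRoot u hxC η * resMult (Cz u) χ η * (dd η : ℂ) else 0) with hd
  have hsc : ∀ η ∈ f, pRegularPart p (η : Cz u → ℂ) = (dd η : ℂ) • r := fun η hη => by
    funext x
    simp only [hr, pRegularPart_eq, Pi.smul_apply, smul_eq_mul]
    by_cases hx : IsPRegular p x
    · rw [hval η hη x hx]; ring
    · simp [regInd_of_singular hx]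
  have hsect : ∀ χ : IrrCharacter G, sect p u f (χ : G → ℂ) = d χ • r := fun χ => by
    rw [sect_expand (mem_Cz_iff u) hxC f χ, hd, Finset.sum_smul]
    refine Finset.sum_congr rfl fun η _ => ?_
    by_cases hη : η ∈ f
    · rw [if_pos hη, if_pos hη, hsc η hη, smul_smul]
    · rw [if_neg hη, if_neg hη, zero_smul, zero_smul]
  have hdint : ∀ χ, IsIntegral ℤ (d χ) := fun χ => IsIntegral.sum _ fun η _ => by
    split_ifs
    · refine (IsIntegral.mul ?_ ?_).mul (isIntegral_natCast (R := ℤ) _)
      · exact IsIntegral.of_pow (orderOf_pos u) (by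
          obtain ⟨k, hk⟩ := hu
          rw [hk, centralRoot_pow (mem_Cz_iff u) hxC η (by rw [← hk, pow_orderOf_eq_one])]
          exact isIntegral_one)
      · obtain ⟨m, hm⟩ := exists_resMult_nat (C := Cz u) χ η
        rw [hm]
        exact isIntegral_natCast (R := ℤ) m
    · exact isIntegral_zero
  -- the value of `φ` at one
  obtain ⟨θ₀, hθ₀⟩ := IsPBlock.nonempty hf
  have hone : IsPRegular p (1 : Cz u) := isPRegular_one hM.1
  have hr1 : r 1 = φ 1 := by rw [hr, BlockHeights.pRegularPart_one hM.1]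
  obtain ⟨m, hm0, hm⟩ : ∃ m : ℕ, 0 < m ∧ φ 1 = (m : ℂ) := by
    have h1 : φ 1 = ((∑ ψ : IrrCharacter (Cz u), if ψ ∈ f then n ψ * (charDegree (ψ : Cz u → ℂ) : ℤ) else 0 : ℤ) : ℂ) := by
      rw [hn 1 hone, finsum_irr_eq_sum_ite, Int.cast_sum]
      refine Finset.sum_congr rfl fun ψ _ => ?_
      split_ifs
      · rw [irr_apply_one]; push_cast; ring
      · simp
    set z : ℤ := ∑ ψ : IrrCharacter (Cz u), if ψ ∈ f then n ψ * (charDegree (ψ : Cz u → ℂ) : ℤ) else 0
    have h2 : (charDegree (θ₀ : Cz u → ℂ) : ℤ) = (dd θ₀ : ℤ) * z := by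
      have := hval θ₀ hθ₀ 1 hone
      rw [h1, irr_apply_one] at this
      exact_mod_cast this
    have hpos : (0 : ℤ) < (dd θ₀ : ℤ) * z := by
      rw [← h2]; exact_mod_cast charDegree_irr_pos θ₀
    have hz : 0 < z := (pos_iff_pos_of_mul_pos hpos).1 (by
      rcases Nat.eq_zero_or_pos (dd θ₀) with h | h
      · rw [h] at hpos; simp at hpos
      · exact_mod_cast h)
    refine ⟨z.toNat, by omega, ?_⟩
    rw [h1]
    have h3 : ((z.toNat : ℤ) : ℂ) = (z : ℂ) := congrArg Int.cast (Int.toNat_of_nonneg hz.le)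
    rw [← h3, Int.cast_natCast]
  refine ⟨d, m, hm0, fun χ => ⟨hdint χ, ?_, fun h => by rw [hsect, h, zero_smul], ?_⟩, ?_, ?_,
    r, hsect, fun x hx => ?_⟩
  rotate_left 4
  · have hrx : r x = φ x := by simp [hr, pRegularPart_eq, regInd_of_regular hx]
    rw [hrx]
    refine ⟨?_, ?_⟩
    · rw [hn x hx, finsum_irr_eq_sum_ite]
      refine memLocalRing_sum _ fun ψ _ => ?_
      split_ifs
      · exact memLocalRing_mul (memLocalRing_intCast _)
          (memLocalRing_of_isIntegral' (IsCharacter.isIntegral (irr_isCharacter ψ) x))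
      · exact memLocalRing_zero
    rw [KleinIsometry.card_centralizer_shift hM (fun g => mem_Cz_iff u g) hu hx]
    have h := KleinIsometry.div_centralizer_local hM (Set.toFinite f).toFinset (fun η => (dd η : ℂ))
      (fun η _ => isIntegral_natCast (R := ℤ) _) (fun g hg => ?_) hx
    · rw [Finset.sum_congr rfl (g := fun η => ((dd η ^ 2 : ℕ) : ℂ) * φ x) fun η hη => by
          rw [hval η ((Set.toFinite f).mem_toFinset.1 hη) x hx]; push_cast; ring,
        ← Finset.sum_mul, ← Nat.cast_sum,
        ← finsum_mem_eq_finite_toFinset_sum _ (Set.toFinite f), hsq] at h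
      exact h
    · refine mul_left_cancel₀ (show (φ 1) ≠ 0 by rw [hm]; exact_mod_cast hm0.ne') ?_
      rw [mul_zero, Finset.mul_sum]
      have h2 := sum_block_mul_eq_zero hM hf hg hone
      rw [← Finset.sum_filter] at h2
      rw [← h2]
      refine Finset.sum_congr (by ext; simp) fun η hη => ?_
      rw [hval η (Finset.mem_filter.1 hη).2 1 hone]
      ring
  · have h := congrFun (hsect χ) 1
    rw [sect_apply_regular u f (irr_isClassFunction χ) hone] at h
    simpa [hr1, hm] using h
  · have hq : (Nat.card D : ℂ) * classInner r r = 1 := by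
      have h1 := blockRank_eq_sum_regInner hM hf
      haveI : Fintype {η // η ∈ f} := Fintype.ofFinite _
      rw [hl, Nat.cast_one, ← Finset.sum_subtype (p := (· ∈ f)) (Finset.univ.filter (· ∈ f))
        (fun x => by simp) (fun η => regInner p η η)] at h1
      rw [h1, ← hsq, finsum_mem_eq_finite_toFinset_sum _ (Set.toFinite f), Nat.cast_sum,
        Finset.sum_mul]
      refine Finset.sum_congr (by ext; simp) fun η hη => ?_
      rw [regInner_self_right, hsc η (Finset.mem_filter.1 hη).2, classInner_smul_left,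
        classInner_smul_right, Complex.conj_natCast]
      push_cast
      ring
    rw [hsect, classInner_smul_left, classInner_smul_right]
    linear_combination (d χ * conj (d χ)) * hq
  · rw [← hsq, finsum_mem_eq_finite_toFinset_sum _ (Set.toFinite f),
      finsum_mem_eq_finite_toFinset_sum _ (Set.toFinite f), Nat.cast_sum, Finset.sum_mul,
      Finset.sum_mul]
    refine Finset.sum_congr rfl fun η hη => ?_
    rw [hval η ((Set.toFinite f).mem_toFinset.1 hη) 1 hone, hm, map_mul, Complex.conj_natCast,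
      Complex.conj_natCast]
    push_cast
    ring
  intro i hi hii j hj hjf
  have hnat : ∀ η : IrrCharacter (Cz u), ∃ k : ℕ, ev (η : Cz u → ℂ) j = (k : ℂ) := fun η =>
    ev_idem_nat hM η hj.1
  choose w hw using hnat
  set R : ℤ := ∑ ψ : IrrCharacter (Cz u), if ψ ∈ f then n ψ * (w ψ : ℤ) else 0 with hR
  set Φ : Cz u → ℂ := fun x => ∑ ψ : IrrCharacter (Cz u),
    if ψ ∈ f then (n ψ : ℂ) * (ψ : Cz u → ℂ) x else 0 with hΦ
  have hΦc : IsClassFunction (Cz u) Φ := fun a b => by
    simp only [hΦ]
    exact Finset.sum_congr rfl fun ψ _ => by rw [irr_isClassFunction ψ a b]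
  have hΦv : ∀ x, IsPRegular p x → Φ x = φ x := fun x hx => by
    simp only [hΦ]; rw [hn x hx, finsum_irr_eq_sum_ite]
  have hevΦ : ev Φ j = (R : ℂ) := by
    rw [hR, Int.cast_sum]
    simp only [ev, hΦ, Finset.mul_sum]
    rw [Finset.sum_comm]
    refine Finset.sum_congr rfl fun ψ _ => ?_
    split_ifs
    · push_cast
      rw [← hw, ev, Finset.mul_sum]
      exact Finset.sum_congr rfl fun x _ => mul_left_comm _ _ _
    · simp
  have hscale : ∀ (c : ℂ) (θ : Cz u → ℂ), IsClassFunction (Cz u) θ →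
      (∀ x, IsPRegular p x → θ x = c * φ x) → ev θ j = c * (R : ℂ) := fun c θ hθ h => by
    rw [ev_eq_of_regular hM hj.1 hθ (θ' := fun x => c * Φ x)
      (fun a b => by simp only [hΦc a b]) fun x hx => by rw [h x hx, hΦv x hx], ← hevΦ]
    simp only [ev, Finset.mul_sum]
    exact Finset.sum_congr rfl fun x _ => by ring
  refine ⟨R, ?_, fun χ => ?_⟩
  · rw [rho, finsum_eq_sum_of_fintype, ← hsq, finsum_mem_eq_finite_toFinset_sum _ (Set.toFinite f),
      Nat.cast_sum, Finset.sum_mul, ← Finset.sum_subset (Finset.subset_univ (Set.toFinite f).toFinset)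
        fun η _ hη => ?_]
    · refine Finset.sum_congr rfl fun η hη => ?_
      rw [hscale (dd η : ℂ) _ (irr_isClassFunction η)
        (hval η ((Set.toFinite f).mem_toFinset.1 hη))]
      push_cast
      ring
    · rw [ev_eq_zero_of_notMem hM hf hj.1 hjf (by simpa using hη)]
      ring
  · have hθc : IsClassFunction (Cz u) (shiftRes (Cz u) u (χ : G → ℂ)) :=
      isClassFunction_shiftRes (mem_Cz_iff u) (irr_isClassFunction χ)
    rw [ev_shift hM hu hi hii hj (irr_isClassFunction χ), ev_blockPart hM hf hj.1 hjf hθc,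
      hscale (d χ) _ (isClassFunction_blockPart _ _) fun x hx => ?_, mul_comm]
    have h := congrFun (hsect χ) x
    simp only [sect, pRegularPart_eq, regInd_of_regular hx, one_mul] at h
    simpa [hr, pRegularPart_eq, regInd_of_regular hx] using h

end Cfsg.Agent.Lib.FreeQuot
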