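import Cfsg.Agent.Lib.FreeQuot.Piece
import Cfsg.Agent.Lib.BrauerStar.Integral
import Cfsg.Agent.Lib.BrauerStar.Below

/-!
# An idempotent below a maximal pair with a unit value
-/

set_option autoImplicit false
set_option linter.unusedSectionVars false
set_option linter.style.haveILetI false

namespace Cfsg.Agent.Lib.FreeQuot

open Cfsg Cfsg.Agent.Lib.Blocks Cfsg.Agent.Lib.Characters Cfsg.Agent.Lib.BrauerStar
  Cfsg.Agent.Lib.BlockHeights Cfsg.Agent.Lib.BrauerPairs

universe u

variable {G : Type u} [Group G] [Fintype G] {M : Ideal AlgInt} [hMp : M.IsPrime] {p : ℕ}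
  {B : Set (IrrCharacter G)} {P : Subgroup G}
  {c : Set (IrrCharacter (Subgroup.centralizer (P : Set G)))}

noncomputable local instance fintypeSubgroupSource (H : Subgroup G) : Fintype H := Fintype.ofFinite H

/-- Splitting the value at `y` over the eigen-idempotents. -/
theorem exists_eigen_idem (hM : IsPModular p M) {χ : G → ℂ} {y : G} (hy : ¬ p ∣ orderOf y)
    {i : RG M G} (hii : i * i = i) (hyi : Commute (el y) i)
    (hval : ¬ MemLocalIdeal M (ev χ (el y * i))) :
    ∃ a : RG M G, a * a = a ∧ Commute a i ∧ ¬ MemLocalIdeal M (ev χ (a * i)) ∧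
      ∀ g : G, Commute g y → cj g a = a := by
  classical
  letI : CommGroup (Subgroup.zpowers y) := IsCyclic.commGroup
  haveI := Fintype.ofFinite (Subgroup.zpowers y →* ℂˣ)
  have hcard : Fintype.card (Subgroup.zpowers y) = orderOf y := by
    rw [← Nat.card_eq_fintype_card, Nat.card_zpowers]
  have hpm : ¬ p ∣ Fintype.card (Subgroup.zpowers y) := by rw [hcard]; exact hy
  set kinv : locSubring M := ⟨(Fintype.card (Subgroup.zpowers y) : ℂ)⁻¹, memLocalRing_inv_natCast hM hpm⟩
  let cR : (Subgroup.zpowers y →* ℂˣ) → Subgroup.zpowers y → locSubring M :=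
    fun lam v => ⟨ch lam v, memLocalRing_ch lam v⟩
  set S : (Subgroup.zpowers y →* ℂˣ) → RG M G := fun lam => ∑ v : Subgroup.zpowers y, cR lam⁻¹ v • el (v : G)
    with hS
  set A : (Subgroup.zpowers y →* ℂˣ) → RG M G := fun lam => kinv • S lam with hA
  have hSS : ∀ lam, S lam * S lam = (Fintype.card (Subgroup.zpowers y) : locSubring M) • S lam := by
    intro lam
    simp only [hS]
    rw [Finset.sum_mul, Finset.sum_congr rfl fun v _ => ?_, Finset.sum_const, Finset.card_univ,
      Nat.cast_smul_eq_nsmul]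
    rw [Finset.mul_sum]
    refine Fintype.sum_equiv (Equiv.mulLeft v) _ _ fun w => ?_
    rw [Equiv.coe_mulLeft, smul_mul_assoc, mul_smul_comm, smul_smul, ← el_mul]
    congr 1
    exact Subtype.ext (ch_map_mul lam⁻¹ v w).symm
  have hkk : kinv * (Fintype.card (Subgroup.zpowers y) : locSubring M) = 1 := by
    refine Subtype.ext ?_
    show (Fintype.card (Subgroup.zpowers y) : ℂ)⁻¹ * ((Fintype.card (Subgroup.zpowers y) : locSubring M) : ℂ) = 1
    simp
  have hAA : ∀ lam, A lam * A lam = A lam := fun lam => by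
    simp only [hA]
    rw [smul_mul_assoc, mul_smul_comm, hSS, smul_smul, smul_smul, mul_assoc, hkk, mul_one]
  have hyz : ∀ v : Subgroup.zpowers y, Commute (el (v : G)) i := by
    rintro ⟨v, hv⟩
    obtain ⟨k, rfl⟩ := (isOfFinOrder_of_finite y).mem_powers_iff_mem_zpowers.2 hv
    show Commute (el (y ^ k)) i
    rw [el_pow]
    exact hyi.pow_left k
  have hAi : ∀ lam, Commute (A lam) i := fun lam => by
    simp only [hA, hS]
    exact (Commute.sum_left _ _ _ fun v _ => (hyz v).smul_left _).smul_left _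
  have hfix : ∀ lam (g : G), Commute g y → cj g (A lam) = A lam := fun lam g hg => by
    simp only [hA, hS, map_smul, map_sum]
    congr 1
    refine Finset.sum_congr rfl fun v _ => ?_
    obtain ⟨k, hk⟩ := v.2
    rw [cj_el, ← hk, (hg.zpow_right k).eq, mul_inv_cancel_right]
  have hsum : (el y : RG M G) = ∑ lam, cR lam ⟨y, Subgroup.mem_zpowers y⟩ • A lam := by
    refine coef_injective (funext fun g => ?_)
    simp only [coef_sum, hA, hS, coef_smul, Finset.sum_apply, Pi.smul_apply, smul_eq_mul,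
      Finset.mul_sum, el, MonoidAlgebra.of_apply, coef_single]
    rw [Finset.sum_comm, Finset.sum_eq_single ⟨y, Subgroup.mem_zpowers y⟩]
    · rw [Finset.sum_congr rfl (g := fun _ => (Fintype.card (Subgroup.zpowers y) : ℂ)⁻¹ *
        (if y = g then ((1 : locSubring M) : ℂ) else 0)) fun lam _ => by
          show ch lam _ * ((Fintype.card (Subgroup.zpowers y) : ℂ)⁻¹ * (ch lam⁻¹ _ * _)) = _
          rw [ch_inv]
          have := ch_ne_zero lam (⟨y, Subgroup.mem_zpowers y⟩ : Subgroup.zpowers y)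
          field_simp]
      rw [Finset.sum_const, Finset.card_univ, card_chars, nsmul_eq_mul, ← mul_assoc,
        mul_inv_cancel₀ card_ne_zeroC, one_mul]
    · intro v _ hv
      rw [Finset.sum_congr rfl (g := fun lam => ch lam (⟨y, Subgroup.mem_zpowers y⟩ * v⁻¹) *
        ((Fintype.card (Subgroup.zpowers y) : ℂ)⁻¹ * (if (v : G) = g then ((1 : locSubring M) : ℂ) else 0)))
        fun lam _ => by
          show ch lam _ * ((Fintype.card (Subgroup.zpowers y) : ℂ)⁻¹ * (ch lam⁻¹ _ * _)) = _
          rw [ch_inv, ch_map_mul, ch_map_inv]; ring]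
      rw [← Finset.sum_mul, sum_chars, if_neg (fun h => hv (mul_inv_eq_one.1 h).symm), zero_mul]
    · simp
  obtain ⟨lam, hlam⟩ : ∃ lam, ¬ MemLocalIdeal M (ev χ (A lam * i)) := by
    by_contra hcon
    push Not at hcon
    apply hval
    rw [hsum, Finset.sum_mul, ev_sum]
    refine memLocalIdeal_sum _ fun lam _ => ?_
    rw [smul_mul_assoc, ev_smul]
    exact memLocalIdeal_mul_left (cR lam _).2 (hcon lam)
  exact ⟨A lam, hAA lam, hAi lam, hlam, hfix lam⟩

theorem exists_source (hM : IsPModular p M) (hmax : IsMaximalBrauerPair p M B P c) :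
    ∃ (i : RG M G) (χ : IrrCharacter G), χ ∈ B ∧ i ∈ fixV M P 1 ∧ i * i = i ∧
      ¬ MemLocalIdeal M (ev (χ : G → ℂ) i) ∧
      ∀ (V : Subgroup G) (fV : Set (IrrCharacter (Subgroup.centralizer (V : Set G)))),
        SubpairLE p M V fV P c →
          BrZero V (ef M (Subgroup.centralizer (V : Set G)) fV * i - i) := by
  classical
  haveI := Fact.mk hM.1
  have hB := hmax.1.2.1
  have hP := hmax.1.1.1
  obtain ⟨χ, hχ, hmin⟩ := exists_nu_eq_minExp (p := p) (IsPBlock.nonempty hB)
  have h0 : blockHeight p B (χ : G → ℂ) = 0 := by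
    have := minExp_add_blockHeight (p := p) hχ
    omega
  have hcl := irr_isClassFunction χ
  obtain ⟨y, hy, R, hR⟩ := isDefectGroup_of_isMaximal hM hmax
  have hPy : ∀ w ∈ P, Commute w y := by
    intro w hw
    rw [hR] at hw
    obtain ⟨w', -, rfl⟩ := hw
    exact Subgroup.mem_centralizer_singleton_iff.1 w'.2
  have hyr : ¬ p ∣ orderOf y := isPRegular_of_isDefectClass hM hB hy
  have hχy := not_memLocalIdeal_apply hM hB hχ h0 hy R
  have hχR : ∀ g, MemLocalRing M ((χ : G → ℂ) g) := fun g =>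
    memLocalRing_of_isIntegral' (isIntegral_char χ g)
  set S := fixV M P y with hS
  obtain ⟨T, hT⟩ := exists_isDecomp (fun r a => smul_eq_zero' r a) (one_mem S) (mul_one 1)
  obtain ⟨i, hiT, hival⟩ : ∃ i ∈ T, ¬ MemLocalIdeal M (ev (χ : G → ℂ) (el y * i)) := by
    by_contra hcon
    push Not at hcon
    apply hχy
    rw [← ev_el (M := M) (χ : G → ℂ) y, ← mul_one (el y : RG M G), ← hT.sum, Finset.mul_sum, ev_sum]
    exact memLocalIdeal_sum _ hcon
  have hi := hT.prim i hiT
  have hnz : ¬ BrZero P i := by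
    intro hb
    obtain ⟨Q, u, a, hstep, ha, hia⟩ := exists_trU_of_brZero hM hP hPy hyr hi hb
    apply hival
    have hcomm : ∀ t : ℕ, cj (u ^ t) (el y : RG M G) = el y := fun t => by
      rw [cj_el, ((hPy u hstep.mem).pow_left t).eq, mul_inv_cancel_right]
    rw [hia, trU, Finset.mul_sum, ev_sum, Finset.sum_congr rfl fun t _ => ?_, Finset.sum_const,
      Finset.card_range, nsmul_eq_mul]
    · exact memLocalIdeal_mul_right ((memLocalIdeal_natCast_iff hM p).2 dvd_rfl)
        (memLocalRing_ev hχR (el y * a))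
    · rw [← ev_cj hcl (u ^ t) (el y * a), map_mul, hcomm]
  obtain ⟨g, hgb, hne⟩ : ∃ g : Set (IrrCharacter (Subgroup.centralizer (P : Set G))),
      IsPBlock M g ∧ ¬ BrZero P (i * ef M (Subgroup.centralizer (P : Set G)) g) := by
    by_contra hcon
    push Not at hcon
    apply hnz
    haveI := Fintype.ofFinite (Bl M (Subgroup.centralizer (P : Set G)))
    rw [← mul_one i, ← sum_ef hM (Subgroup.centralizer (P : Set G)), Finset.mul_sum]
    exact BrZero.sum _ fun f _ => hcon f.1 f.2
  have hyC : y ∈ Subgroup.centralizer (P : Set G) :=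
    mem_centralizer_subgroup_iff.2 fun w hw => (hPy w hw).eq
  have hpair : IsBrauerPairOf p M B P g := by
    by_contra hnot
    set E := eBlock hM hB
    have hE := eBlock_mem hM hB P y
    have heg : ef M (Subgroup.centralizer (P : Set G)) g ∈ S := ef_mem hM hyC hgb
    have hiE : i * E = i := by
      have h1 : i * E * (i * E) = i * E := by
        rw [show i * E * (i * E) = i * (E * i) * E by simp only [mul_assoc], eBlock_mul_comm hM hB,
          show i * (i * E) * E = i * i * (E * E) by simp only [mul_assoc], hi.idem,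
          eBlock_idem hM hB]
      rcases hi.eq_or _ (mul_mem hi.mem hE) h1 (by rw [← mul_assoc, hi.idem])
          (by rw [mul_assoc, eBlock_mul_comm hM hB, ← mul_assoc, hi.idem]) with h | h
      · exfalso
        apply hival
        rw [← ev_mul_eBlock hM hB hχ, mul_assoc, h, mul_zero, ev_zero]
        exact memLocalIdeal_zero
      · exact h
    apply hne
    rw [← hiE, mul_assoc]
    exact (brZero_block_mul hM hB ⟨hP, hgb⟩ hnot).mul_left hM hP hi.mem (mul_mem hE heg)
  -- the eigen-idempotent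
  have hyi : Commute (el y) i := commute_el_iff.2 (mem_fixV.1 hi.mem).2
  obtain ⟨a, haa, hai, haval, hafix⟩ := exists_eigen_idem hM hyr hi.idem hyi hival
  set i' := a * i with hi'
  have hi'i : i' * i' = i' := by
    rw [hi', show a * i * (a * i) = a * (i * a) * i by simp only [mul_assoc], ← hai.eq,
      show a * (a * i) * i = a * a * (i * i) by simp only [mul_assoc], haa, hi.idem]
  have haS : a ∈ fixV M P y := mem_fixV.2 ⟨fun v hv => hafix v (hPy v hv), hafix y (Commute.refl y)⟩
  have hbelow : ∀ (V : Subgroup G) (fV : Set (IrrCharacter (Subgroup.centralizer (V : Set G)))),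
      SubpairLE p M V fV P g → BrZero V (ef M (Subgroup.centralizer (V : Set G)) fV * i' - i') := by
    intro V fV hle
    have hVP := subpairLE_le hle
    have hVp := hP.to_le hVP
    have hfV := (isBrauerPair_of_subpairLE ⟨hP, hgb⟩ hle).2
    have hb := brZero_below hM hPy hyr ⟨hP, hgb⟩ hi hne hle
    have hyV : y ∈ Subgroup.centralizer (V : Set G) :=
      mem_centralizer_subgroup_iff.2 fun w hw => (hPy w (hVP hw)).eq
    set e := ef M (Subgroup.centralizer (V : Set G)) fV
    have hes : e ∈ fixV M V y := ef_mem hM hyV hfV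
    have hiV := fixV_mono (M := M) hVP y hi.mem
    have haV := fixV_mono (M := M) hVP y haS
    have h4 : BrZero V (e * i - i) := by
      have h := (brZero_comm_ef hM hVp hyV hfV hiV).mul_right hM hVp
        (sub_mem (mul_mem hiV hes) (mul_mem hes hiV)) hiV
      rw [sub_mul, mul_assoc e i i, hi.idem] at h
      simpa using hb.sub h
    have h5 := h4.mul_right hM hVp (sub_mem (mul_mem hes hiV) hiV) haV
    rw [sub_mul, mul_assoc, ← hai.eq] at h5
    exact h5
  have hi'fix : i' ∈ fixV M P 1 := by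
    refine mem_fixV.2 ⟨fun v hv => ?_, cj_one i'⟩
    rw [hi', map_mul, hafix v (hPy v hv), (mem_fixV.1 hi.mem).1 v hv]
  -- carry it to the given pair
  obtain ⟨x, hx⟩ := exists_conj_subpairLE hM hmax hpair
  have hPx : P.map (MulAut.conj x).toMonoidHom = P :=
    Subgroup.eq_of_le_of_card_ge (subpairLE_le hx)
      (Subgroup.card_map_of_injective (MulAut.conj x).injective).ge
  have hxN : x ∈ Subgroup.normalizer (P : Set G) := by
    rw [Subgroup.mem_normalizer_iff]
    intro z
    constructor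
    · intro hz
      rw [← hPx]
      exact ⟨z, hz, rfl⟩
    · intro hz
      rw [← hPx] at hz
      obtain ⟨w, hw, hwe⟩ := hz
      have : w = z := (MulAut.conj x).injective hwe
      rwa [← this]
  have hpx : conjPair x (⟨P, g⟩ : BrauerPairIdx G) = ⟨P, c⟩ := by
    have h : Relation.ReflTransGen (NormalSubpairRel p M)
        (conjPair x (⟨P, g⟩ : BrauerPairIdx G)) ⟨P, c⟩ := hx
    have h1 : (conjPair x (⟨P, g⟩ : BrauerPairIdx G)).1 = P := hPx
    revert h h1
    generalize conjPair x (⟨P, g⟩ : BrauerPairIdx G) = b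
    obtain ⟨A, a'⟩ := b
    intro h h1
    obtain rfl : A = P := h1
    obtain rfl := eq_of_subpairLE_self hM (h : SubpairLE p M A a' A c)
    rfl
  refine ⟨cj x i', χ, hχ, cj_mem_fixV hxN (Commute.one_right x) hi'fix, ?_, ?_, ?_⟩
  · rw [← map_mul, hi'i]
  · rw [ev_cj hcl]; exact haval
  intro V fV hle
  set V₀ := (conjPair x⁻¹ (⟨V, fV⟩ : BrauerPairIdx G)).1 with hV₀
  set f₀ := (conjPair x⁻¹ (⟨V, fV⟩ : BrauerPairIdx G)).2 with hf₀
  have hle₀ : SubpairLE p M V₀ f₀ P g := by
    have h : Relation.ReflTransGen (NormalSubpairRel p M)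
        (conjPair x⁻¹ (⟨V, fV⟩ : BrauerPairIdx G)) (conjPair x⁻¹ (⟨P, c⟩ : BrauerPairIdx G)) :=
      subpairLE_conj hle x⁻¹
    rw [← hpx, conjPair_inv_conjPair] at h
    exact h
  have h1 := hbelow V₀ f₀ hle₀
  have hfV := (isBrauerPair_of_subpairLE hmax.1.1 hle).2
  have hf₀B := (isBrauerPair_of_subpairLE ⟨hP, hgb⟩ hle₀).2
  have hef : cj x (ef M (Subgroup.centralizer (V₀ : Set G)) f₀) =
      ef M (Subgroup.centralizer (V : Set G)) fV := by
    refine cj_ef_of_coe hM hf₀B hfV x ?_
    show pairCoeff (⟨V, fV⟩ : BrauerPairIdx G) = gconj x (pairCoeff (conjPair x⁻¹ ⟨V, fV⟩))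
    rw [← pairCoeff_conjPair, ← conjPair_mul, mul_inv_cancel, conjPair_one]
  intro h hh
  rw [← hef, ← map_mul, ← map_sub, coef_cj]
  refine h1 _ ?_
  rw [mem_centralizer_subgroup_iff]
  intro w hw
  obtain ⟨w', hw', rfl⟩ := (show w ∈ V.map (MulAut.conj x⁻¹).toMonoidHom from hw)
  have := mem_centralizer_subgroup_iff.1 hh w' hw'
  show x⁻¹ * w' * x⁻¹⁻¹ * (x⁻¹ * h * x) = x⁻¹ * h * x * (x⁻¹ * w' * x⁻¹⁻¹)
  calc x⁻¹ * w' * x⁻¹⁻¹ * (x⁻¹ * h * x) = x⁻¹ * (w' * h) * x := by group
    _ = x⁻¹ * (h * w') * x := by rw [this]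
    _ = _ := by group

end Cfsg.Agent.Lib.FreeQuot
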