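import Cfsg.Agent.Lib.FreeQuot.Nice
import Cfsg.Agent.Lib.BrauerStar.LocTrace
import Mathlib.LinearAlgebra.Trace

/-!
# Values of characters at idempotents are natural numbers
-/

set_option autoImplicit false
set_option linter.unusedSectionVars false
set_option linter.style.haveILetI false

namespace Cfsg.Agent.Lib.FreeQuot

open Cfsg Cfsg.Agent.Lib.Blocks Cfsg.Agent.Lib.Characters Cfsg.Agent.Lib.BrauerStar

universe u v

variable {K : Type u} [Group K] [Fintype K] {M : Ideal AlgInt} [hMp : M.IsPrime] {p : ℕ}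

theorem trace_idem_nat {n : ℕ} (E : Matrix (Fin n) (Fin n) ℂ) (h : E * E = E) :
    ∃ m : ℕ, E.trace = (m : ℂ) := by
  have hidem : IsIdempotentElem E.toLin' := by
    show E.toLin' * E.toLin' = E.toLin'
    rw [Module.End.mul_eq_comp, ← Matrix.toLin'_mul, h]
  refine ⟨Module.finrank ℂ (LinearMap.range E.toLin'), ?_⟩
  rw [← Matrix.trace_toLin'_eq]
  exact LinearMap.IsProj.trace (LinearMap.IsIdempotentElem.isProj_range _ hidem)

/-- A complex model of a character on the group ring. -/
theorem exists_complex_model (hM : IsPModular p M) (ξ : IrrCharacter K) :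
    ∃ (n : ℕ) (L : RG M K →* Matrix (Fin n) (Fin n) ℂ),
      ∀ y, (L y).trace = ev (ξ : K → ℂ) y := by
  classical
  obtain ⟨n, σ, hσ⟩ := exists_model (M := M) hM ξ.2
  set L := MonoidAlgebra.lift (locSubring M) (Matrix (Fin n) (Fin n) (locSubring M)) K σ
  refine ⟨n, ((locSubring M).subtype.mapMatrix.comp L.toRingHom).toMonoidHom, fun y => ?_⟩
  show (((locSubring M).subtype.mapMatrix) (L y)).trace = _
  rw [show (((locSubring M).subtype.mapMatrix) (L y)).trace = (((L y).trace : locSubring M) : ℂ) from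
    (AddMonoidHom.map_trace (locSubring M).subtype.toAddMonoidHom (L y)).symm]
  show ((MonoidAlgebra.lift _ _ _ σ y).trace : ℂ) = _
  rw [MonoidAlgebra.lift_apply, Finsupp.sum_fintype _ _ (fun g => by simp), Matrix.trace_sum,
    AddSubmonoidClass.coe_finsetSum]
  refine Finset.sum_congr rfl fun g _ => ?_
  rw [Matrix.trace_smul, smul_eq_mul, Subring.coe_mul, ← hσ g]
  congr 1
  exact AddMonoidHom.map_trace (locSubring M).subtype.toAddMonoidHom (σ g)

/-- The value at an idempotent. -/
theorem ev_idem_nat (hM : IsPModular p M) (ξ : IrrCharacter K) {x : RG M K} (hx : x * x = x) :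
    ∃ m : ℕ, ev (ξ : K → ℂ) x = (m : ℂ) := by
  obtain ⟨n, L, hL⟩ := exists_complex_model (M := M) hM ξ
  rw [← hL]
  exact trace_idem_nat _ (by rw [← map_mul, hx])

variable {P : Type v} [CommGroup P] [Fintype P] [Fintype (P →* ℂˣ)]

/-- The Fourier coefficients of the character of `P` on the image of an idempotent. -/
theorem ev_coeffRing (hM : IsPModular p M) (ξ : IrrCharacter K) (ι : P →* K) {x : RG M K}
    (hx : x * x = x) (hc : ∀ v, Commute (el (ι v)) x) :
    (fun v => ev (ξ : K → ℂ) (el (ι v) * x)) ∈ coeffRing (okRing M) := by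
  intro lam
  obtain ⟨n, L, hL⟩ := exists_complex_model (M := M) hM ξ
  set A : P → Matrix (Fin n) (Fin n) ℂ := fun v => ch lam⁻¹ v • L (el (ι v)) with hA
  have hAA : ∀ v w, A v * A w = A (v * w) := fun v w => by
    simp only [hA]
    rw [smul_mul_assoc, mul_smul_comm, smul_smul, ← map_mul, ← el_mul, ← map_mul, ← ch_map_mul]
  set S := ∑ v : P, A v with hS
  have hSS : S * S = (Fintype.card P : ℂ) • S := by
    rw [hS, Finset.sum_mul, Finset.sum_congr rfl fun v _ => ?_, Finset.sum_const, Finset.card_univ,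
      Nat.cast_smul_eq_nsmul]
    rw [Finset.mul_sum]
    exact Fintype.sum_equiv (Equiv.mulLeft v) _ _ fun w => hAA v w
  set E := ((Fintype.card P : ℂ)⁻¹ • S) * L x with hE
  have hcS : L x * S = S * L x := by
    rw [hS, Finset.mul_sum, Finset.sum_mul]
    refine Finset.sum_congr rfl fun v _ => ?_
    simp only [hA]
    rw [mul_smul_comm, smul_mul_assoc, ← map_mul, ← map_mul, (hc v).eq]
  have hEE : E * E = E := by
    rw [hE, smul_mul_assoc, mul_smul_comm, smul_mul_assoc, smul_smul,
      show S * L x * (S * L x) = S * (L x * S) * L x by simp only [mul_assoc], hcS,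
      show S * (S * L x) * L x = S * S * (L x * L x) by simp only [mul_assoc], ← map_mul, hx, hSS,
      smul_mul_assoc, smul_smul]
    congr 1
    have := card_ne_zeroC (P := P)
    field_simp
  obtain ⟨m, hm⟩ := trace_idem_nat E hEE
  have hco : coeff (fun v => ev (ξ : K → ℂ) (el (ι v) * x)) lam = (m : ℂ) := by
    rw [← hm, hE, smul_mul_assoc, Matrix.trace_smul, hS, Finset.sum_mul, Matrix.trace_sum, coeff,
      smul_eq_mul]
    congr 1
    refine Finset.sum_congr rfl fun v _ => ?_
    simp only [hA]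
    rw [smul_mul_assoc, Matrix.trace_smul, ← map_mul, hL, smul_eq_mul]
    ring
  rw [hco]
  exact natCast_mem _ m

end Cfsg.Agent.Lib.FreeQuot
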